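import Cfsg.Agent.Lib.Classical.AschPrime.Basic
import Mathlib.LinearAlgebra.Matrix.SchurComplement

/-!
# No member of a geometric class contains the special linear group
-/

set_option autoImplicit false

namespace CfsgLib.Classical.AschPrime

open Matrix Cfsg Cfsg.Geo
open scoped MatrixGroups

variable {n : ℕ} {F : Type*} [Field F]

theorem mem_sl_iff {g : GL (Fin n) F} :
    g ∈ specialLinear (Fin n) F ↔ (g : Mat n F).det = 1 := by
  rw [specialLinear, MonoidHom.mem_ker, ← Units.val_inj, Matrix.GeneralLinearGroup.val_det_apply,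
    Units.val_one]

theorem sl_conj {g : GL (Fin n) F} (hg : g ∈ specialLinear (Fin n) F) (h : GL (Fin n) F) :
    h * g * h⁻¹ ∈ specialLinear (Fin n) F := by
  rw [specialLinear, MonoidHom.mem_ker, map_mul, map_mul, MonoidHom.mem_ker.mp hg, mul_one,
    map_inv, mul_inv_cancel]

/-- The transvection matrix `1 + a E i j` in the general linear group. -/
def tr {i j : Fin n} (hij : i ≠ j) (a : F) : GL (Fin n) F :=
  Matrix.GeneralLinearGroup.mkOfDetNeZero (Matrix.transvection i j a)
    (by rw [Matrix.det_transvection_of_ne i j hij a]; exact one_ne_zero)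

theorem tr_val {i j : Fin n} (hij : i ≠ j) (a : F) :
    (tr hij a : Mat n F) = 1 + Matrix.single i j a := rfl

theorem tr_mem {i j : Fin n} (hij : i ≠ j) (a : F) : tr hij a ∈ specialLinear (Fin n) F :=
  mem_sl_iff.mpr (by
    show (Matrix.transvection i j a).det = 1
    exact Matrix.det_transvection_of_ne i j hij a)

theorem exists_push {k : Fin n} {w : Fin n → F} (hw : w k = 0) :
    ∃ g ∈ specialLinear (Fin n) F, ∀ v, (g : Mat n F) *ᵥ v = v + v k • w := by
  have hd : (1 + vecMulVec w (Pi.single k 1) : Mat n F).det = 1 := by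
    rw [Matrix.vecMulVec_eq Unit, Matrix.det_one_add_replicateCol_mul_replicateRow,
      single_one_dotProduct, hw, add_zero]
  refine ⟨Matrix.GeneralLinearGroup.mkOfDetNeZero _ (hd.symm ▸ one_ne_zero), mem_sl_iff.mpr hd,
    fun v => ?_⟩
  show (1 + vecMulVec w (Pi.single k 1) : Mat n F) *ᵥ v = _
  rw [Matrix.add_mulVec, Matrix.one_mulVec, Matrix.vecMulVec_mulVec, single_one_dotProduct]
  simp

/-- Invariant subspaces are stabilised. -/
theorem le_subspaceStabilizer {H : Subgroup (GL (Fin n) F)} {W : Submodule F (Fin n → F)}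
    (hW : ∀ h ∈ H, ∀ v ∈ W, (h : Mat n F) *ᵥ v ∈ W) : H ≤ subspaceStabilizer W := by
  intro h hh v
  refine ⟨fun hv => hW h hh v hv, fun hv => ?_⟩
  have := hW h⁻¹ (H.inv_mem hh) _ hv
  change ((h⁻¹ : GL (Fin n) F) : Mat n F) *ᵥ ((h : Mat n F) *ᵥ v) ∈ W at this
  rwa [Matrix.mulVec_mulVec, Units.inv_mul, Matrix.one_mulVec] at this

theorem not_sl_le_subspace (hn : 2 ≤ n) {W : Submodule F (Fin n → F)} (h0 : W ≠ ⊥) (h1 : W ≠ ⊤) :
    ¬ specialLinear (Fin n) F ≤ subspaceStabilizer W := by
  classical
  intro hle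
  obtain ⟨v, hv, hv0⟩ := Submodule.exists_mem_ne_zero_of_ne_bot h0
  obtain ⟨k, hk⟩ := Function.ne_iff.mp hv0
  have hsingle : ∀ (i k : Fin n) (v : Fin n → F), i ≠ k → v ∈ W → v k ≠ 0 →
      (Pi.single i 1 : Fin n → F) ∈ W := by
    intro i k v hik hv hk
    obtain ⟨g, hg, hgv⟩ := exists_push (k := k) (w := Pi.single i (1 : F))
      (by simp [Ne.symm hik])
    have := (hle hg v).mp hv
    change (g : Mat n F) *ᵥ v ∈ W at this
    rw [hgv] at this
    have h2 := W.sub_mem this hv
    rw [add_sub_cancel_left] at h2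
    have := W.smul_mem (v k)⁻¹ h2
    rwa [smul_smul, inv_mul_cancel₀ hk, one_smul] at this
  obtain ⟨i, hik⟩ : ∃ i : Fin n, i ≠ k := Fintype.exists_ne_of_one_lt_card (by rw [Fintype.card_fin]; omega) k
  have hi := hsingle i k v hik hv (by simpa using hk)
  have hkW := hsingle k i _ hik.symm hi (by simp)
  refine h1 (eq_top_iff.mpr fun x _ => ?_)
  rw [pi_eq_sum_univ' x]
  refine W.sum_mem fun l _ => W.smul_mem _ ?_
  rcases eq_or_ne l k with rfl | hlk
  · exact hkW
  · exact hsingle l k v hlk hv (by simpa using hk)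

theorem not_sl_le_decomp [Fintype F] (hn : 3 ≤ n) {D : Fin n → Submodule F (Fin n → F)}
    (hD : IsMDecomposition 1 D) : ¬ specialLinear (Fin n) F ≤ decompositionStabilizer D := by
  classical
  intro hle
  let i₀ : Fin n := ⟨0, by omega⟩
  obtain ⟨v, hv, hv0⟩ := Submodule.exists_mem_ne_zero_of_ne_bot (p := D i₀) fun e => by
    have := hD.finrank_eq i₀
    rw [e, finrank_bot] at this
    exact absurd this (by norm_num)
  obtain ⟨k, hk⟩ := Function.ne_iff.mp hv0
  have hk : v k ≠ 0 := by simpa using hk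
  -- the vectors with `k`-th coordinate `v k` lie in the `n` lines
  have hmem : ∀ w : Fin n → F, w k = 0 → ∃ l, v + v k • w ∈ D l := by
    intro w hw
    obtain ⟨g, hg, hgv⟩ := exists_push hw
    obtain ⟨σ, hσ⟩ := hle hg
    refine ⟨σ i₀, ?_⟩
    rw [← hσ i₀, ← hgv v]
    exact ⟨v, hv, rfl⟩
  choose φ hφ using fun w : {w : Fin n → F // w k = 0} => hmem w.1 w.2
  have hinj : Function.Injective φ := by
    intro a b hab
    have ha := hφ a
    have hb := hφ b
    rw [← hab] at hb
    have hne : v + v k • a.1 ≠ 0 := fun e => hk (by simpa [a.2] using congrFun e k)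
    obtain ⟨c, hc⟩ := exists_smul_eq_of_finrank_eq_one (hD.finrank_eq (φ a))
      (x := (⟨_, ha⟩ : D (φ a))) (fun e => hne (congrArg Subtype.val e)) ⟨_, hb⟩
    have hc' : c • (v + v k • a.1) = v + v k • b.1 := congrArg Subtype.val hc
    have hc1 : c = 1 := by
      have := congrFun hc' k
      simp [a.2, b.2] at this
      exact mul_right_cancel₀ hk (by rw [this, one_mul])
    rw [hc1, one_smul, add_right_inj] at hc'
    exact Subtype.ext (smul_right_injective (Fin n → F) hk hc')
  have hcard := Fintype.card_le_of_injective φ hinj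
  have hker : Fintype.card {w : Fin n → F // w k = 0} = Fintype.card F ^ (n - 1) := by
    let e : {w : Fin n → F // w k = 0} ≃ ({i : Fin n // i ≠ k} → F) :=
      { toFun := fun w i => w.1 i.1
        invFun := fun u => ⟨fun i => if h : i = k then 0 else u ⟨i, h⟩, by simp⟩
        left_inv := fun w => Subtype.ext (funext fun i => by
          by_cases h : i = k
          · subst h; simp [w.2]
          · simp [h])
        right_inv := fun u => funext fun i => by simp [i.2] }
    rw [Fintype.card_congr e, Fintype.card_fun, Fintype.card_subtype_compl, Fintype.card_fin,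
      Fintype.card_subtype_eq]
  rw [hker, Fintype.card_fin] at hcard
  have h2 : 2 ^ (n - 1) ≤ n := (Nat.pow_le_pow_left Fintype.one_lt_card _).trans hcard
  obtain ⟨m, rfl⟩ : ∃ m, n = m + 3 := ⟨n - 3, by omega⟩
  have := Nat.lt_two_pow_self (n := m)
  rw [show m + 3 - 1 = m + 2 by omega, pow_succ, pow_succ] at h2
  omega

theorem det_eq_zero_of_support (hn : 3 ≤ n) {M : Mat n F} {i j : Fin n}
    (h : ∀ k l, k ≠ i → l ≠ j → M k l = 0) : M.det = 0 := by
  classical
  obtain ⟨k₁, k₂, hk₁, hk₂, hne⟩ : ∃ k₁ k₂ : Fin n, k₁ ≠ i ∧ k₂ ≠ i ∧ k₁ ≠ k₂ := by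
    have : 1 < (Finset.univ.erase i : Finset (Fin n)).card := by
      rw [Finset.card_erase_of_mem (Finset.mem_univ i), Finset.card_univ, Fintype.card_fin]
      omega
    obtain ⟨a, ha, b, hb, hab⟩ := Finset.one_lt_card.mp this
    exact ⟨a, b, (Finset.mem_erase.mp ha).1, (Finset.mem_erase.mp hb).1, hab⟩
  by_cases h1 : M k₁ j = 0
  · refine Matrix.det_eq_zero_of_row_eq_zero k₁ fun l => ?_
    rcases eq_or_ne l j with rfl | hl
    · exact h1
    · exact h k₁ l hk₁ hl
  · rw [← Matrix.exists_vecMul_eq_zero_iff]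
    refine ⟨Pi.single k₂ (M k₁ j) - Pi.single k₁ (M k₂ j), fun e => h1 ?_, ?_⟩
    · simpa [hne.symm] using congrFun e k₂
    · funext l
      rw [Matrix.sub_vecMul, Pi.sub_apply, Matrix.single_vecMul, Matrix.single_vecMul]
      simp only [Pi.smul_apply, MulOpposite.smul_eq_mul_unop, smul_eq_mul, Matrix.row_apply,
        Pi.zero_apply]
      rcases eq_or_ne l j with rfl | hl
      · ring
      · rw [h k₁ l hk₁ hl, h k₂ l hk₂ hl]; ring

theorem scalar_of_comm_single {M : Mat n F}
    (h : ∀ i j : Fin n, i ≠ j → Commute (Matrix.single i j (1 : F)) M) : ∃ c : F, M = c • 1 := by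
  obtain ⟨c, hc⟩ := Matrix.mem_range_scalar_of_commute_single fun i j hij => h i j hij
  exact ⟨c, by rw [← hc, Matrix.scalar_apply, Matrix.smul_one_eq_diagonal]⟩

theorem not_sl_le_field (hn : 3 ≤ n) {K : Subalgebra F (Mat n F)} (hK : IsFieldSubalgebra n K) :
    ¬ specialLinear (Fin n) F ≤ subalgebraNormalizer K := by
  classical
  intro hle
  have hcomm : ∀ k ∈ K, ∀ i j : Fin n, i ≠ j → Commute (Matrix.single i j (1 : F)) k := by
    intro k hk i j hij
    set E : Mat n F := Matrix.single i j 1
    set t := tr hij (1 : F)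
    have htk := (hle (tr_mem hij (1 : F)) k).mp hk
    set d := (t : Mat n F) * k * ((t⁻¹ : GL (Fin n) F) : Mat n F) - k
    have hd : d ∈ K := K.sub_mem htk hk
    have hdt : d * (t : Mat n F) = E * k - k * E := by
      rw [sub_mul, mul_assoc, Units.inv_mul, mul_one, tr_val]
      simp only [add_mul, mul_add, one_mul, mul_one, E]
      abel
    suffices d = 0 by
      rw [this, zero_mul] at hdt
      exact (sub_eq_zero.mp hdt.symm)
    by_contra hd0
    obtain ⟨y, hy, hdy⟩ := hK.inv d hd hd0
    have hu : IsUnit (E * k - k * E) := by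
      rw [← hdt]
      exact (IsUnit.of_mul_eq_one y hdy).mul t.isUnit
    have hdet : (E * k - k * E).det ≠ 0 := ((Matrix.isUnit_iff_isUnit_det _).mp hu).ne_zero
    refine hdet (det_eq_zero_of_support hn (i := i) (j := j) fun a b ha hb => ?_)
    simp only [E, Matrix.sub_apply, Matrix.single_mul_apply_of_ne _ _ _ _ _ ha,
      Matrix.mul_single_apply_of_ne _ _ _ _ _ hb, sub_zero]
  have hbot : K ≤ ⊥ := fun k hk => by
    obtain ⟨c, rfl⟩ := scalar_of_comm_single fun i j hij => hcomm k hk i j hij
    exact Algebra.mem_bot.mpr ⟨c, one_smul_eq c⟩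
  have h1 : Module.finrank F K = 1 := by
    haveI : Nonempty (Fin n) := ⟨⟨0, by omega⟩⟩
    rw [le_bot_iff.mp hbot, Subalgebra.finrank_bot]
  rw [hK.finrank_eq] at h1
  omega

theorem subfield_entries [Finite F] {F₀ : Subfield F} {P g : GL (Fin n) F}
    (hg : g ∈ subfieldSubgroup F₀ P) :
    ∃ c : F, c ≠ 0 ∧ ∀ i j, ∃ x ∈ F₀, ((P⁻¹ * g * P : GL (Fin n) F) : Mat n F) i j = c * x := by
  obtain ⟨y, hy, rfl⟩ := Subgroup.mem_map.mp hg
  obtain ⟨_, ⟨g₀, rfl⟩, z, hz, rfl⟩ := Subgroup.mem_sup_of_normal_right.mp hy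
  obtain ⟨c, hc⟩ := (mem_scalars_iff z).mp hz
  refine ⟨c, c.ne_zero, fun i j => ⟨(g₀ : Matrix (Fin n) (Fin n) F₀) i j, Subtype.coe_prop _, ?_⟩⟩
  have e : P⁻¹ * (MulAut.conj P (Matrix.GeneralLinearGroup.map F₀.subtype g₀ * z)) * P =
      Matrix.GeneralLinearGroup.map F₀.subtype g₀ * z := by
    simp [mul_assoc]
  simp only [MulEquiv.coe_toMonoidHom, e, Units.val_mul, hc, Matrix.mul_smul, mul_one,
    Matrix.smul_apply, smul_eq_mul]
  rfl

theorem not_sl_le_subfield [Finite F] (hn : 3 ≤ n) {F₀ : Subfield F} (h : F₀ ≠ ⊤)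
    (P : GL (Fin n) F) : ¬ specialLinear (Fin n) F ≤ subfieldSubgroup F₀ P := by
  intro hle
  obtain ⟨a, -, ha⟩ := SetLike.exists_of_lt (lt_top_iff_ne_top.mpr h)
  let i : Fin n := ⟨0, by omega⟩
  let j : Fin n := ⟨1, by omega⟩
  have hij : i ≠ j := by simp [i, j]
  obtain ⟨c, hc0, hc⟩ := subfield_entries (hle (sl_conj (tr_mem hij a) P))
  rw [show P⁻¹ * (P * tr hij a * P⁻¹) * P = tr hij a by group] at hc
  obtain ⟨x, hx, hxe⟩ := hc i i
  obtain ⟨y, hy, hye⟩ := hc i j
  rw [tr_val] at hxe hye
  simp [hij, hij.symm, Matrix.single] at hxe hye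
  have hcmem : c ∈ F₀ := by
    have : c = x⁻¹ := eq_inv_of_mul_eq_one_left hxe.symm
    rw [this]; exact F₀.inv_mem hx
  exact ha (hye ▸ F₀.mul_mem hcmem hy)

theorem not_sl_le_similarity [Finite F] (hn : 3 ≤ n) {M : Mat n F} (hM : IsUnit M) (σ : F →+* F) :
    ¬ ∀ g ∈ specialLinear (Fin n) F, ∃ c : F, (g : Mat n F)ᵀ * M * (g : Mat n F).map σ = c • M := by
  classical
  intro hall
  have hdet : M.det ≠ 0 := ((Matrix.isUnit_iff_isUnit_det _).mp hM).ne_zero
  have key : ∀ i j : Fin n, i ≠ j → ∀ l, l ≠ j → M i l = 0 := by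
    intro i j hij
    obtain ⟨c, hc⟩ := hall _ (tr_mem hij 1)
    rw [tr_val, Matrix.transpose_add, Matrix.transpose_one, Matrix.transpose_single,
      Matrix.map_add _ (map_add σ), Matrix.map_one _ (map_zero σ) (map_one σ),
      Matrix.map_single, map_one] at hc
    have hent : ∀ a b, M a b + (if a = j then M i b else 0) + ((if b = j then M a i else 0) +
        (if a = j ∧ b = j then M i i else 0)) = c * M a b := by
      intro a b
      have e := congrArg (fun X : Mat n F => X a b) hc
      simp only [add_mul, mul_add, one_mul, mul_one, Matrix.add_apply, Matrix.smul_apply,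
        smul_eq_mul] at e
      have e1 : (Matrix.single j i (1 : F) * M) a b = if a = j then M i b else 0 := by
        rcases eq_or_ne a j with rfl | h <;> simp [*]
      have e2 : (M * Matrix.single i j (1 : F)) a b = if b = j then M a i else 0 := by
        rcases eq_or_ne b j with rfl | h <;> simp [*]
      have e3 : (Matrix.single j i (1 : F) * M * Matrix.single i j (1 : F)) a b =
          if a = j ∧ b = j then M i i else 0 := by
        rcases eq_or_ne b j with rfl | hb <;> rcases eq_or_ne a b with rfl | ha <;> simp [*]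
      rw [e1, e2, e3] at e
      linear_combination e
    have hc1 : c = 1 := by
      by_contra hc1
      refine hdet (det_eq_zero_of_support hn (i := j) (j := j) fun a b ha hb => ?_)
      have := hent a b
      simp only [ha, hb, if_false, false_and, add_zero] at this
      by_contra hab
      exact hc1 (mul_right_cancel₀ hab (this.symm.trans (one_mul _).symm))
    intro l hl
    have := hent j l
    simp only [hl, if_false, and_false, if_true, add_zero, hc1, one_mul] at this
    simpa using this
  let i : Fin n := ⟨0, by omega⟩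
  refine hdet (Matrix.det_eq_zero_of_row_eq_zero i fun l => ?_)
  obtain ⟨j, hj1, hj2⟩ : ∃ j : Fin n, i ≠ j ∧ l ≠ j := by
    have : (Finset.univ \ {i, l} : Finset (Fin n)).Nonempty := by
      rw [← Finset.card_pos, Finset.card_sdiff, Finset.inter_univ, Finset.card_univ, Fintype.card_fin]
      have := Finset.card_le_two (a := i) (b := l)
      omega
    obtain ⟨j, hj⟩ := this
    simp only [Finset.mem_sdiff, Finset.mem_univ, Finset.mem_insert, Finset.mem_singleton,
      true_and, not_or] at hj
    exact ⟨j, Ne.symm hj.1, Ne.symm hj.2⟩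
  exact key i j hj1 l hj2

theorem not_sl_le_normalizer [Fintype F] (hn : 3 ≤ n) (hq : 4 ≤ Fintype.card F) (hnF : (n : F) ≠ 0)
    {R : Subgroup (GL (Fin n) F)}
    (htr : ∀ x ∈ R, x ∉ scalars (Fin n) F → (x : Mat n F).trace = 0)
    (hne : ¬ R ≤ scalars (Fin n) F) : ¬ specialLinear (Fin n) F ≤ subgroupNormalizer R := by
  classical
  intro hle
  refine hne fun x hx => ?_
  obtain ⟨a, ha0, ha2⟩ : ∃ a : F, a ≠ 0 ∧ a ^ 2 ≠ 1 := by
    by_contra hall
    push Not at hall
    have hsub : (Finset.univ : Finset F) ⊆ {0, 1, -1} := fun a _ => by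
      rcases eq_or_ne a 0 with rfl | ha
      · simp
      · rcases sq_eq_one_iff.mp (hall a ha) with rfl | rfl <;> simp
    have := (Finset.card_le_card hsub).trans Finset.card_le_three
    rw [Finset.card_univ] at this
    omega
  have hx0 : (x : Mat n F).det ≠ 0 := ((Matrix.isUnit_iff_isUnit_det _).mp x.isUnit).ne_zero
  obtain ⟨c, hc⟩ := scalar_of_comm_single (M := (x : Mat n F)) fun i j hij => by
    -- for one of two parameters the commutator is scalar, hence trivial
    have hz : ∀ b : F, tr hij b * x * (tr hij b)⁻¹ * x⁻¹ ∈ R := fun b =>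
      R.mul_mem ((Subgroup.mem_normalizer_iff.mp (hle (tr_mem hij b)) x).mp hx) (R.inv_mem hx)
    have hinv : ∀ b : F, ((tr hij b)⁻¹ : GL (Fin n) F) = tr hij (-b) := fun b => by
      refine inv_eq_of_mul_eq_one_right (Units.ext ?_)
      show Matrix.transvection i j b * Matrix.transvection i j (-b) = 1
      rw [Matrix.transvection_mul_transvection_same _ _ hij, add_neg_cancel,
        Matrix.transvection_zero]
    have htrz : ∀ b : F, ((tr hij b * x * (tr hij b)⁻¹ * x⁻¹ : GL (Fin n) F) : Mat n F).trace =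
        (n : F) - b ^ 2 * ((x : Mat n F) j i * ((x⁻¹ : GL (Fin n) F) : Mat n F) j i) := by
      intro b
      rw [hinv]
      simp only [Units.val_mul, tr_val, Matrix.single_neg, add_mul, mul_add, one_mul, mul_one,
        neg_mul, mul_neg, Units.mul_inv, Matrix.trace_add, Matrix.trace_neg, Matrix.trace_one,
        Fintype.card_fin]
      have t1 : (Matrix.single i j b * (x : Mat n F) *
          ((x⁻¹ : GL (Fin n) F) : Mat n F)).trace = 0 := by
        rw [mul_assoc, Units.mul_inv, mul_one, Matrix.trace_single_eq_of_ne _ _ _ hij]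
      have t2 : ∀ c : F, ((x : Mat n F) * Matrix.single i j c *
          ((x⁻¹ : GL (Fin n) F) : Mat n F)).trace = 0 := fun c => by
        rw [Matrix.trace_mul_cycle, Units.inv_mul, one_mul, Matrix.trace_single_eq_of_ne _ _ _ hij]
      have t3 : (Matrix.single i j b * (x : Mat n F) * Matrix.single i j (-b) *
          ((x⁻¹ : GL (Fin n) F) : Mat n F)).trace =
          -(b ^ 2 * ((x : Mat n F) j i * ((x⁻¹ : GL (Fin n) F) : Mat n F) j i)) := by
        rw [mul_assoc, mul_assoc, Matrix.trace, Finset.sum_eq_single i]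
        · rw [Matrix.diag_apply, Matrix.single_mul_apply_same, Matrix.mul_apply,
            Finset.sum_eq_single i]
          · rw [Matrix.single_mul_apply_same]; ring
          · intro l _ hl; rw [Matrix.single_mul_apply_of_ne _ _ _ _ _ hl, mul_zero]
          · exact fun h => absurd (Finset.mem_univ i) h
        · intro l _ hl; rw [Matrix.diag_apply, Matrix.single_mul_apply_of_ne _ _ _ _ _ hl]
        · exact fun h => absurd (Finset.mem_univ i) h
      rw [t1, t2, t3]
      ring
    obtain ⟨b, hb0, hb⟩ : ∃ b : F, b ≠ 0 ∧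
        tr hij b * x * (tr hij b)⁻¹ * x⁻¹ ∈ scalars (Fin n) F := by
      by_contra hall
      push Not at hall
      have h1 := (htrz 1).symm.trans (htr _ (hz 1) (hall 1 one_ne_zero))
      have h2 := (htrz a).symm.trans (htr _ (hz a) (hall a ha0))
      set p := (x : Mat n F) j i * ((x⁻¹ : GL (Fin n) F) : Mat n F) j i
      have h3 : (a ^ 2 - 1) * p = 0 := by linear_combination h1 - h2
      rcases mul_eq_zero.mp h3 with h | h
      · exact ha2 (sub_eq_zero.mp h)
      · rw [h, mul_zero, sub_zero] at h1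
        exact hnF h1
    obtain ⟨c, hc⟩ := (mem_scalars_iff _).mp hb
    have he : (tr hij b : Mat n F) * x = (c : F) • ((x : Mat n F) * tr hij b) := by
      have e : tr hij b * x = tr hij b * x * (tr hij b)⁻¹ * x⁻¹ * (x * tr hij b) := by group
      have := congrArg (Units.val (α := Mat n F)) e
      rw [Units.val_mul (tr hij b * x * (tr hij b)⁻¹ * x⁻¹), hc, Matrix.smul_mul, Matrix.one_mul,
        Units.val_mul, Units.val_mul] at this
      exact this
    have hc1 : (c : F) = 1 := by
      by_contra hc1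
      refine hx0 (det_eq_zero_of_support hn (i := i) (j := j) fun k l hk hl => ?_)
      have := congrArg (fun X : Mat n F => X k l) he
      simp [tr_val, add_mul, mul_add, hk, hl] at this
      by_contra hkl
      exact hc1 (mul_right_cancel₀ hkl (this.symm.trans (one_mul _).symm))
    rw [hc1, one_smul, tr_val, add_mul, mul_add, one_mul, mul_one, add_right_inj] at he
    have hsm : Matrix.single i j b = b • Matrix.single i j (1 : F) := by
      rw [Matrix.smul_single, smul_eq_mul, mul_one]
    rw [hsm, Matrix.smul_mul, Matrix.mul_smul] at he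
    exact smul_right_injective (Mat n F) hb0 he
  exact mem_scalars_of_eq (by omega) hc

end CfsgLib.Classical.AschPrime
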