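import Cfsg.Agent.Lib.Classical.AschPrime.AlmostSimple
import Cfsg.Agent.Lib.Classical.AschPrime.Proper

/-!
# Maximal subgroups of the special linear group in odd prime dimension

Every maximal subgroup belongs to one of the geometric classes available in prime dimension, or
to the residual class.
-/

set_option autoImplicit false

namespace CfsgLib.Classical.AschPrime

open Matrix Cfsg Cfsg.Geo
open scoped MatrixGroups commutatorElement

variable {n : ℕ} {F : Type*} [Field F]

theorem isSesq_of_bilinear {f : (Fin n → F) → (Fin n → F) → F} (hf : IsBilinearForm f) :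
    IsSesq (RingHom.id F) f :=
  ⟨hf.add_left, hf.smul_left, hf.add_right, fun c v x => hf.smul_right c v x⟩

theorem isSesq_of_unitary {σ : F ≃+* F} {f : (Fin n → F) → (Fin n → F) → F}
    (hf : IsUnitaryForm σ f) : IsSesq σ.toRingHom f where
  add_left := hf.add_left
  smul_left := hf.smul_left
  add_right v x y := by
    rw [hf.herm v (x + y), hf.add_left, map_add, ← hf.herm, ← hf.herm]
  smul_right c v x := by
    rw [hf.herm v (c • x), hf.smul_left, map_mul, ← hf.herm]; rfl

theorem similarity_sesq {σ : F →+* F} {f : (Fin n → F) → (Fin n → F) → F} (hf : IsSesq σ f)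
    {g : GL (Fin n) F} (hg : g ∈ similarityGroup f) :
    ∃ c : F, (g : Mat n F)ᵀ * gramMatrix f * (g : Mat n F).map σ = c • gramMatrix f := by
  obtain ⟨c, hc⟩ := hg
  exact ⟨c, hf.isometry.mp hc⟩

theorem quad_zero {Q : (Fin n → F) → F} (hQ : IsNondegenerateQuadraticForm Q) : Q 0 = 0 := by
  simpa using hQ.smul 0 0

theorem polar_self {Q : (Fin n → F) → F} (hQ : IsNondegenerateQuadraticForm Q) (v : Fin n → F) :
    QuadraticMap.polar Q v v = 2 * Q v := by
  rw [QuadraticMap.polar, ← two_smul F v, hQ.smul]; ring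

theorem quad_two_ne_zero [Finite F] (hodd : Odd n) {Q : (Fin n → F) → F}
    (hQ : IsNondegenerateQuadraticForm Q) : (2 : F) ≠ 0 := by
  intro h2
  have hf := isSesq_of_bilinear hQ.polar_bilinear
  have hu := (Matrix.isUnit_iff_isUnit_det _).mp (hf.isUnit_gram hQ.nondegenerate)
  refine hu.ne_zero (det_alternating hodd (fun i j => ?_) fun i => ?_)
  · have e : ∀ a : F, -a = a := fun a => by linear_combination (-a) * h2
    rw [e, gramMatrix, gramMatrix]
    exact QuadraticMap.polar_comm Q _ _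
  · rw [gramMatrix, polar_self hQ, h2, zero_mul]

theorem odd_card_of_two_ne_zero [Fintype F] (h : (2 : F) ≠ 0) : Odd (Fintype.card F) := by
  refine Nat.odd_iff.mpr (FiniteField.odd_card_of_char_ne_two fun h2 => h ?_)
  haveI : CharP F 2 := ringChar.of_eq h2
  exact_mod_cast CharP.cast_eq_zero F 2

theorem not_symplectic [Finite F] (hodd : Odd n) {f : (Fin n → F) → (Fin n → F) → F}
    (hf : IsSymplecticForm f) : False := by
  have hu := (Matrix.isUnit_iff_isUnit_det _).mp
    ((isSesq_of_bilinear hf.bilinear).isUnit_gram hf.nondegenerate)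
  exact hu.ne_zero (det_alternating hodd (fun i j => hf.skew _ _) fun i => hf.alternating _)

/-- The standard sesquilinear form in the coordinates given by `B`. -/
def stdForm (σ : F →+* F) (B : GL (Fin n) F) (u v : Fin n → F) : F :=
  ∑ i, ((B : Mat n F) *ᵥ u) i * σ (((B : Mat n F) *ᵥ v) i)

theorem stdForm_sesq (σ : F →+* F) (B : GL (Fin n) F) : IsSesq σ (stdForm σ B) where
  add_left x y v := by simp [stdForm, Matrix.mulVec_add, add_mul, Finset.sum_add_distrib]
  smul_left c x v := by simp [stdForm, Matrix.mulVec_smul, Finset.mul_sum, mul_assoc]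
  add_right v x y := by simp [stdForm, Matrix.mulVec_add, mul_add, Finset.sum_add_distrib]
  smul_right c v x := by simp [stdForm, Matrix.mulVec_smul, Finset.mul_sum, mul_left_comm]

theorem stdForm_nondegenerate (σ : F →+* F) (B : GL (Fin n) F) :
    IsNondegenerateForm (stdForm σ B) := by
  classical
  intro v hv
  obtain ⟨i, hi⟩ : ∃ i, ((B : Mat n F) *ᵥ v) i ≠ 0 := by
    by_contra hall
    push Not at hall
    exact hv (Matrix.mulVec_injective_iff_isUnit.2 B.isUnit
      ((funext hall).trans (Matrix.mulVec_zero _).symm))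
  have e : (B : Mat n F) *ᵥ (((B⁻¹ : GL (Fin n) F) : Mat n F) *ᵥ Pi.single i 1) = Pi.single i 1 := by
    rw [Matrix.mulVec_mulVec, Units.mul_inv, Matrix.one_mulVec]
  refine ⟨⟨((B⁻¹ : GL (Fin n) F) : Mat n F) *ᵥ Pi.single i 1, ?_⟩,
    ⟨((B⁻¹ : GL (Fin n) F) : Mat n F) *ᵥ Pi.single i 1, ?_⟩⟩
  · simp only [stdForm, e]
    simpa [Pi.single_apply] using hi
  · simp only [stdForm, e]
    simpa [Pi.single_apply, apply_ite σ] using hi

theorem stdForm_herm {σ : F ≃+* F} (hσ : ∀ a, σ (σ a) = a) (hne : σ ≠ RingEquiv.refl F)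
    (B : GL (Fin n) F) : IsUnitaryForm σ (stdForm σ.toRingHom B) :=
  { ne_refl := hne
    involutive := hσ
    add_left := (stdForm_sesq _ B).add_left
    smul_left := (stdForm_sesq _ B).smul_left
    herm := fun v w => by simp [stdForm, hσ, mul_comm]
    nondegenerate := stdForm_nondegenerate _ B }

theorem stdForm_monomial {σ : F →+* F} {B g : GL (Fin n) F} {π : Equiv.Perm (Fin n)}
    {c : Fin n → F} (hc : ∀ j, c j * σ (c j) = 1)
    (hg : ∀ i j, ((B * g * B⁻¹ : GL (Fin n) F) : Mat n F) i j = if i = π j then c j else 0)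
    (u v : Fin n → F) :
    stdForm σ B ((g : Mat n F) *ᵥ u) ((g : Mat n F) *ᵥ v) = stdForm σ B u v := by
  classical
  set M := ((B * g * B⁻¹ : GL (Fin n) F) : Mat n F)
  have e : ∀ w, (B : Mat n F) *ᵥ ((g : Mat n F) *ᵥ w) = M *ᵥ ((B : Mat n F) *ᵥ w) := by
    intro w
    rw [Matrix.mulVec_mulVec, Matrix.mulVec_mulVec, ← Units.val_mul, ← Units.val_mul,
      inv_mul_cancel_right]
  have hM : ∀ w j, (M *ᵥ w) (π j) = c j * w j := fun w j => by
    simp [Matrix.mulVec, dotProduct, hg]
  simp only [stdForm, e]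
  rw [← Equiv.sum_comp π]
  refine Finset.sum_congr rfl fun j _ => ?_
  rw [hM, hM, map_mul, mul_mul_mul_comm, hc, one_mul]

theorem closure_fixesForm {S : Set (GL (Fin n) F)} {f : (Fin n → F) → (Fin n → F) → F}
    (h : ∀ s ∈ S, ∀ u v, f ((s : Mat n F) *ᵥ u) ((s : Mat n F) *ᵥ v) = f u v) :
    FixesForm (matrixSet (Subgroup.closure S)) f := by
  rintro _ ⟨g, hg, rfl⟩
  induction hg using Subgroup.closure_induction with
  | mem x hx => exact h x hx
  | one => simp
  | mul a b _ _ iha ihb =>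
    intro u v
    simp only [Units.val_mul, ← Matrix.mulVec_mulVec] at iha ihb ⊢
    rw [iha, ihb]
  | inv a _ iha =>
    intro u v
    conv_rhs => rw [← Matrix.one_mulVec u, ← Matrix.one_mulVec v, ← Units.mul_inv a,
      ← Matrix.mulVec_mulVec, ← Matrix.mulVec_mulVec]
    exact (iha _ _).symm

/-- The possibilities for a proper subgroup of `SL(n,F)` in odd prime dimension `n`. -/
def Outcome [Fintype F] (H : Subgroup (GL (Fin n) F)) : Prop :=
  (∃ W : Submodule F (Fin n → F), W ≠ ⊥ ∧ W ≠ ⊤ ∧ H ≤ subspaceStabilizer W) ∨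
  (5 ≤ Fintype.card F ∧ ∃ D : Fin n → Submodule F (Fin n → F), IsMDecomposition 1 D ∧
      H ≤ decompositionStabilizer D) ∨
  (∃ K : Subalgebra F (Mat n F), IsFieldSubalgebra n K ∧ H ≤ subalgebraNormalizer K) ∨
  (∃ (F₀ : Subfield F) (l : ℕ) (P : GL (Fin n) F), l.Prime ∧
      Fintype.card F = Nat.card F₀ ^ l ∧ H ≤ subfieldSubgroup F₀ P) ∨
  (∃ (p e : ℕ) (R : Subgroup (GL (Fin n) F)), p.Prime ∧ CharP F p ∧ Fintype.card F = p ^ e ∧
      Odd e ∧ e ∣ n - 1 ∧ n ∣ p ^ e - 1 ∧ RData R ∧ IsLinearSymplecticTypeData n R ∧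
      H ≤ subgroupNormalizer R) ∨
  (Odd (Fintype.card F) ∧ ∃ Q : (Fin n → F) → F, IsNondegenerateQuadraticForm Q ∧
      H ≤ quadSimilarityGroup Q) ∨
  (∃ (σ : F ≃+* F) (f : (Fin n → F) → (Fin n → F) → F), IsUnitaryForm σ f ∧
      H ≤ similarityGroup f) ∨
  InLinearResidualClass H

theorem small_monomial [Fintype F] (hn : 3 ≤ n) {H : Subgroup (GL (Fin n) F)}
    (hirr : ActsIrreducibly (matrixSet H)) {D : Fin n → Submodule F (Fin n → F)}
    (hD : IsMDecomposition 1 D) (hle : H ≤ decompositionStabilizer D) (hq : Fintype.card F ≤ 4) :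
    Outcome H := by
  classical
  have hex : ∀ i, ∃ v : Fin n → F, v ≠ 0 ∧ D i = F ∙ v := by
    intro i
    obtain ⟨v, hv, hv0⟩ := Submodule.exists_mem_ne_zero_of_ne_bot (p := D i) fun e => by
      have := hD.finrank_eq i
      rw [e, finrank_bot] at this
      exact absurd this (by norm_num)
    refine ⟨v, hv0, (Submodule.eq_of_le_of_finrank_le
      ((Submodule.span_singleton_le_iff_mem _ _).mpr hv) ?_).symm⟩
    rw [hD.finrank_eq, finrank_span_singleton hv0]
  choose b hb0 hb using hex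
  have hli : LinearIndependent F b :=
    hD.indep.linearIndependent D (fun i => hb i ▸ Submodule.mem_span_singleton_self _) hb0
  let P : Mat n F := Matrix.of fun i j => b j i
  have hP : IsUnit P := by
    rw [← Matrix.linearIndependent_cols_iff_isUnit]; exact hli
  obtain ⟨Pu, hPu⟩ := hP
  have hmono : ∀ g ∈ H, ∃ (π : Equiv.Perm (Fin n)) (c : Fin n → F), (∀ j, c j ≠ 0) ∧
      (∀ j, (g : Mat n F) *ᵥ b j = c j • b (π j)) ∧
      ∀ i j, ((Pu⁻¹ * g * Pu⁻¹⁻¹ : GL (Fin n) F) : Mat n F) i j = if i = π j then c j else 0 := by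
    intro g hg
    obtain ⟨π, hπ⟩ := hle hg
    have hc : ∀ j, ∃ c : F, c • b (π j) = (g : Mat n F) *ᵥ b j := fun j => by
      have h1 : (g : Mat n F) *ᵥ b j ∈ D (π j) := by
        rw [← hπ j]; exact ⟨b j, hb j ▸ Submodule.mem_span_singleton_self _, by simp⟩
      rw [hb (π j)] at h1
      exact Submodule.mem_span_singleton.mp h1
    choose c hc using hc
    refine ⟨π, c, fun j h0 => ?_, fun j => (hc j).symm, fun i j => ?_⟩
    · have h1 := hc j
      rw [h0, zero_smul] at h1
      exact hb0 j (Matrix.mulVec_injective_iff_isUnit.2 g.isUnit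
        (h1.symm.trans (Matrix.mulVec_zero _).symm))
    · have hgP : (g : Mat n F) * P = P * Matrix.of fun i j => if i = π j then c j else 0 := by
        ext a k
        rw [show ((g : Mat n F) * P) a k = ((g : Mat n F) *ᵥ b k) a from rfl, ← hc k,
          Matrix.mul_apply]
        simp [P, mul_comm]
      rw [inv_inv, Units.val_mul, Units.val_mul, mul_assoc, hPu, hgP, ← mul_assoc, ← hPu,
        Units.inv_mul, one_mul, Matrix.of_apply]
  have hcard : 2 ≤ Fintype.card F := Fintype.one_lt_card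
  have hpow : ∀ a : F, a ≠ 0 → a ^ (Fintype.card F - 1) = 1 := FiniteField.pow_card_sub_one_eq_one
  rcases (show Fintype.card F = 2 ∨ Fintype.card F = 3 ∨ Fintype.card F = 4 by omega) with
    h2 | h3 | h4
  · -- the sum of the basis vectors is fixed
    refine .inl ⟨F ∙ (∑ j, b j), ?_, ?_, le_subspaceStabilizer fun g hg v hv => ?_⟩
    · rw [Ne, Submodule.span_singleton_eq_bot]
      intro h0
      exact one_ne_zero (α := F) (Fintype.linearIndependent_iff.mp hli (fun _ => 1)
        (by simpa using h0) ⟨0, by omega⟩)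
    · intro htop
      have := congrArg (fun W : Submodule F (Fin n → F) => Module.finrank F W) htop
      simp only [finrank_top, Module.finrank_fintype_fun_eq_card, Fintype.card_fin] at this
      have h1 := (finrank_span_le_card (R := F) ({∑ j, b j} : Set (Fin n → F)))
      simp at h1
      omega
    · obtain ⟨a, rfl⟩ := Submodule.mem_span_singleton.mp hv
      obtain ⟨π, c, hc0, hc, -⟩ := hmono g hg
      have h1 : ∀ j, c j = 1 := fun j => by simpa [h2] using hpow (c j) (hc0 j)
      rw [Matrix.mulVec_smul, Matrix.mulVec_sum]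
      simp only [hc, h1, one_smul]
      rw [Equiv.sum_comp π b]
      exact Submodule.smul_mem _ a (Submodule.mem_span_singleton_self _)
  · refine .inr (.inr (.inr (.inr (.inr (.inl ⟨by rw [h3]; decide, ?_⟩)))))
    have hne2 : (2 : F) ≠ 0 := by
      intro h0
      have h30 : ((3 : ℕ) : F) = 0 := by rw [← h3]; exact Nat.cast_card_eq_zero F
      push_cast at h30
      exact one_ne_zero (α := F) (by linear_combination h30 - h0)
    set f := stdForm (RingHom.id F) Pu⁻¹
    have hpol : ∀ u v, QuadraticMap.polar (fun v => f v v) u v = 2 * f u v := by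
      intro u v
      have hfc : f v u = f u v := by simp [f, stdForm, mul_comm]
      simp only [QuadraticMap.polar, f, (stdForm_sesq _ _).add_left, (stdForm_sesq _ _).add_right]
      simp only [f] at hfc
      rw [hfc]; ring
    refine ⟨fun v => f v v, ⟨fun c v => ?_, ⟨?_, ?_, ?_, ?_⟩, fun v hv => ?_⟩, fun g hg => ?_⟩
    · simp only [f, (stdForm_sesq _ _).smul_left, (stdForm_sesq _ _).smul_right, RingHom.id_apply]
      ring
    · intro x y v; simp only [hpol, f, (stdForm_sesq _ _).add_left]; ring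
    · intro c x v; simp only [hpol, f, (stdForm_sesq _ _).smul_left]; ring
    · intro v x y; simp only [hpol, f, (stdForm_sesq _ _).add_right]; ring
    · intro c v x
      simp only [hpol, f, (stdForm_sesq _ _).smul_right, RingHom.id_apply]; ring
    · obtain ⟨⟨x, hx⟩, ⟨y, hy⟩⟩ := stdForm_nondegenerate (RingHom.id F) Pu⁻¹ v hv
      exact ⟨⟨x, by rw [hpol]; exact mul_ne_zero hne2 hx⟩,
        ⟨y, by rw [hpol]; exact mul_ne_zero hne2 hy⟩⟩
    · obtain ⟨π, c, hc0, -, hc⟩ := hmono g hg
      refine ⟨1, fun v => ?_⟩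
      rw [Units.val_one, one_mul]
      refine stdForm_monomial (fun j => ?_) hc v v
      have := hpow (c j) (hc0 j)
      rw [h3] at this
      simpa [pow_two] using this
  · have h40 : ((4 : ℕ) : F) = 0 := by rw [← h4]; exact Nat.cast_card_eq_zero F
    push_cast at h40
    haveI : CharP F 2 := CharTwo.of_one_ne_zero_of_two_eq_zero one_ne_zero
      (mul_self_eq_zero.1 (by linear_combination h40))
    haveI : ExpChar F 2 := ExpChar.prime Nat.prime_two
    haveI : PerfectRing F 2 := PerfectRing.ofFiniteOfIsReduced 2 F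
    let σ : F ≃+* F := frobeniusEquiv F 2
    have hσ : ∀ a, σ a = a ^ 2 := fun a => frobeniusEquiv_def F 2 a
    have hinv : ∀ a, σ (σ a) = a := fun a => by
      rw [hσ, hσ, ← pow_mul]
      have := FiniteField.pow_card a
      rwa [h4] at this
    have hne : σ ≠ RingEquiv.refl F := by
      intro e
      have h : ∀ a : F, a = 0 ∨ a = 1 := fun a => by
        have h1 := congrArg (fun τ : F ≃+* F => τ a) e
        simp only [hσ, RingEquiv.refl_apply] at h1
        rcases mul_eq_zero.mp (show a * (a - 1) = 0 by linear_combination h1) with h | h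
        · exact .inl h
        · exact .inr (sub_eq_zero.mp h)
      have hsub : (Finset.univ : Finset F) ⊆ {0, 1} := fun a _ => by
        rcases h a with h | h <;> simp [h]
      have := (Finset.card_le_card hsub).trans Finset.card_le_two
      rw [Finset.card_univ] at this
      omega
    refine .inr (.inr (.inr (.inr (.inr (.inr (.inl
      ⟨σ, _, stdForm_herm hinv hne Pu⁻¹, fun g hg => ?_⟩))))))
    obtain ⟨π, c, hc0, -, hc⟩ := hmono g hg
    refine ⟨1, fun u v => ?_⟩
    rw [Units.val_one, one_mul]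
    refine stdForm_monomial (fun j => ?_) hc u v
    show c j * σ (c j) = 1
    have := hpow (c j) (hc0 j)
    rw [h4] at this
    rw [hσ]
    linear_combination this

theorem extraspecial_outcome [Fintype F] (hn : n.Prime) (hodd : Odd n)
    {H R : Subgroup (GL (Fin n) F)} (hH : AllNormalAbsIrred H) (hRH : R ≤ H)
    (hRn : ∀ h ∈ H, ∀ x ∈ R, h * x * h⁻¹ ∈ R) (hR : RData R) : Outcome H := by
  classical
  obtain ⟨μ, B, S, hμ, hgen, hmono⟩ := hR.exists_monomial hn
  by_cases htop : Subfield.closure {μ} = ⊤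
  swap
  · obtain ⟨F₁, l, hle, -, hl, hcard⟩ := exists_prime_index _ htop
    refine .inr (.inr (.inr (.inl ⟨F₁, l, B⁻¹, hl, hcard, fun g hg => ?_⟩)))
    refine mem_subfieldSubgroup hn.pos hR.absIrr (fun s hs => ?_) (hRn g hg)
    have hRrat : R ≤ ratSubgroup F₁ B := by
      rw [hgen, Subgroup.closure_le]
      intro s hs i j
      obtain ⟨π, c, hc, hsc⟩ := hmono s hs
      rw [hsc]
      split
      · obtain ⟨k, hk⟩ := hc j
        rw [hk]
        exact F₁.pow_mem (hle (Subfield.subset_closure rfl)) k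
      · exact F₁.zero_mem
    exact hRrat hs
  -- `F` is the least field with `n`-th roots of unity
  obtain ⟨p, hp⟩ := CharP.exists F
  obtain ⟨e, hpp, hcard⟩ := FiniteField.card F p
  have hndvd : n ∣ p ^ (e : ℕ) - 1 := by
    rw [← hcard, hμ.eq_orderOf]
    exact orderOf_dvd_of_pow_eq_one (FiniteField.pow_card_sub_one_eq_one μ (hμ.ne_zero hn.ne_zero))
  have hmin : ∀ d : ℕ, 0 < d → d < e → ¬ n ∣ p ^ d - 1 := by
    intro d hd hde hdvd
    haveI : Fact p.Prime := ⟨hpp⟩
    have hfix : ∀ x : F, x ^ (p ^ d) = x := by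
      intro x
      have hloc : Subfield.closure {μ} ≤
          RingHom.eqLocusField (iterateFrobenius F p d) (RingHom.id F) := by
        rw [Subfield.closure_le]
        intro y hy
        rw [Set.mem_singleton_iff] at hy
        subst hy
        show iterateFrobenius F p d y = y
        rw [iterateFrobenius_def]
        obtain ⟨k, hk⟩ := hdvd
        have : p ^ d = n * k + 1 := by
          have := Nat.one_le_pow d p hpp.pos
          omega
        rw [this, pow_succ, pow_mul, hμ.pow_eq_one, one_pow, one_mul]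
      have hx : x ∈ RingHom.eqLocusField (iterateFrobenius F p d) (RingHom.id F) :=
        hloc (htop ▸ Subfield.mem_top x)
      have h1 : iterateFrobenius F p d x = x := hx
      rwa [iterateFrobenius_def] at h1
    obtain ⟨u, hu⟩ := IsCyclic.exists_ofOrder_eq_natCard (α := Fˣ)
    have h1 : u ^ (p ^ d - 1) = 1 := by
      have h := hfix (u : F)
      rw [← Nat.sub_add_cancel (Nat.one_le_pow d p hpp.pos), pow_succ] at h
      refine Units.ext ?_
      rw [Units.val_pow_eq_pow_val, Units.val_one]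
      exact mul_right_cancel₀ u.ne_zero (h.trans (one_mul _).symm)
    have h2 := orderOf_dvd_of_pow_eq_one h1
    rw [hu, Nat.card_units, Nat.card_eq_fintype_card, hcard] at h2
    have h3 : 0 < p ^ d - 1 := by
      have := Nat.one_lt_pow hd.ne' hpp.one_lt
      omega
    have := Nat.le_of_dvd h3 h2
    have := Nat.pow_lt_pow_right hpp.one_lt hde
    omega
  have hnp : n ≠ p := by
    rintro rfl
    exact hR.natCast_ne_zero hn (CharP.cast_eq_zero F n)
  rcases Nat.even_or_odd (e : ℕ) with ⟨m, hm⟩ | he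
  · -- a fixed unitary form
    haveI : Fact p.Prime := ⟨hpp⟩
    haveI : PerfectRing F p := PerfectRing.ofFiniteOfIsReduced p F
    have hm0 : 0 < m := by have := e.pos; omega
    have hdvd : n ∣ p ^ m + 1 := by
      have hsq : p ^ (e : ℕ) - 1 = (p ^ m + 1) * (p ^ m - 1) := by
        rw [hm, pow_add, ← Nat.sq_sub_sq, one_pow, pow_two]
      exact ((Nat.Prime.dvd_mul hn).mp (hsq ▸ hndvd)).resolve_right (hmin m hm0 (by omega))
    let σ : F ≃+* F := iterateFrobeniusEquiv F p m
    have hσ : ∀ a, σ a = a ^ p ^ m := fun a => iterateFrobeniusEquiv_def F p m a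
    have hinv : ∀ a, σ (σ a) = a := fun a => by
      rw [hσ, hσ, ← pow_mul, ← pow_add, ← hm, ← hcard]
      exact FiniteField.pow_card a
    have hroot : ∀ k, μ ^ k * σ (μ ^ k) = 1 := fun k => by
      obtain ⟨j, hj⟩ := hdvd
      rw [hσ, ← pow_succ', ← pow_mul, hj, mul_comm k, mul_assoc, pow_mul, hμ.pow_eq_one, one_pow]
    have hne : σ ≠ RingEquiv.refl F := fun e0 => by
      refine hmin m hm0 (by omega) ?_
      have h1 := congrArg (fun τ : F ≃+* F => τ μ) e0
      simp only [hσ, RingEquiv.refl_apply] at h1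
      rw [hμ.eq_orderOf]
      refine orderOf_dvd_of_pow_eq_one ?_
      rw [← Nat.sub_add_cancel (Nat.one_le_pow m p hpp.pos), pow_succ] at h1
      exact mul_right_cancel₀ (hμ.ne_zero hn.ne_zero) (h1.trans (one_mul _).symm)
    have hfix : FixesForm (matrixSet R) (stdForm σ.toRingHom B) := by
      rw [hgen]
      refine closure_fixesForm fun s hs => ?_
      obtain ⟨π, c, hc, hsc⟩ := hmono s hs
      refine stdForm_monomial (fun j => ?_) hsc
      obtain ⟨k, hk⟩ := hc j
      rw [hk]; exact hroot k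
    refine .inr (.inr (.inr (.inr (.inr (.inr (.inl
      ⟨σ, _, stdForm_herm hinv hne B, fun g hg => ?_⟩))))))
    obtain ⟨c, hc0, hc⟩ := exists_multiplier hn.pos (stdForm_sesq _ B)
      (stdForm_nondegenerate _ B) hR.absIrr hfix (hRn g hg)
    exact ⟨Units.mk0 c hc0, hc⟩
  · refine .inr (.inr (.inr (.inr (.inl ⟨p, e, R, hpp, hp, hcard, he, ?_, hndvd, hR, ?_, ?_⟩))))
    · by_contra hne
      have hlt : Nat.gcd (e : ℕ) (n - 1) < e := lt_of_le_of_ne (Nat.gcd_le_left _ e.pos)
        fun h => hne (h ▸ Nat.gcd_dvd_right _ _)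
      refine hmin _ (Nat.gcd_pos_of_pos_left _ e.pos) hlt ?_
      rw [← Nat.pow_sub_one_gcd_pow_sub_one]
      refine Nat.dvd_gcd hndvd ?_
      have hcop : p.Coprime n := (Nat.coprime_primes hpp hn).mpr hnp.symm
      have := Nat.ModEq.pow_totient hcop
      rw [Nat.totient_prime hn] at this
      exact (Nat.modEq_iff_dvd' (Nat.one_le_pow _ _ hpp.pos)).mp this.symm
    · exact ⟨hR.symplecticType hn hodd hH hRH hRn, hR.absIrr, p, e, hnp,
        ⟨hpp, hp, hcard, (hR.card_center hn).symm ▸ hndvd,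
          fun d h1 h2 => (hR.card_center hn).symm ▸ hmin d h1 h2⟩,
        .inl ⟨hodd, he, hR.card_center hn, 1, le_rfl, hR.card_eq hn⟩⟩
    · intro g hg
      refine Subgroup.mem_normalizer_iff.mpr fun x => ⟨hRn g hg x, fun hx => ?_⟩
      simpa [mul_assoc] using hRn g⁻¹ (H.inv_mem hg) _ hx

theorem simple_outcome [Fintype F] (hn : n.Prime) (hodd : Odd n)
    {H M : Subgroup (GL (Fin n) F)} (hH : AllNormalAbsIrred H) (hM : M ≤ H)
    (hMn : ∀ h ∈ H, ∀ x ∈ M, h * x * h⁻¹ ∈ M) (hM0 : ¬ M ≤ scalars (Fin n) F)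
    (hmin : ∀ L ≤ M, (∀ h ∈ H, ∀ x ∈ L, h * x * h⁻¹ ∈ L) → ¬ L ≤ scalars (Fin n) F → L = M)
    (hperf : ⁅M, M⁆ = M) : Outcome H := by
  obtain ⟨hsimp, hnab, hcent, habs⟩ := perfect_core hn hH hM hMn hM0 hmin hperf
  by_cases hsub : ∃ F₀ : Subfield F, F₀ ≠ ⊤ ∧ RealisableOver F₀ (matrixSet M)
  · obtain ⟨F₀, hF₀, hreal⟩ := hsub
    obtain ⟨B, hB⟩ := realisableOver_iff.mp hreal
    obtain ⟨F₁, l, hle, -, hl, hcard⟩ := exists_prime_index _ hF₀
    refine .inr (.inr (.inr (.inl ⟨F₁, l, B⁻¹, hl, hcard, fun g hg => ?_⟩)))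
    exact mem_subfieldSubgroup hn.pos habs (fun s hs => (hB s hs).mono hle) (hMn g hg)
  by_cases hquad : ∃ Q : (Fin n → F) → F,
      IsNondegenerateQuadraticForm Q ∧ FixesQuadForm (matrixSet M) Q
  · obtain ⟨Q, hQ, hfix⟩ := hquad
    have h2 := quad_two_ne_zero hodd hQ
    refine .inr (.inr (.inr (.inr (.inr (.inl
      ⟨odd_card_of_two_ne_zero h2, Q, hQ, fun g hg => ?_⟩)))))
    have hfix' : FixesForm (matrixSet M) (QuadraticMap.polar Q) := fun s hs u v => by
      simp only [QuadraticMap.polar, ← Matrix.mulVec_add, hfix s hs]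
    obtain ⟨c, hc0, hc⟩ := exists_multiplier hn.pos (isSesq_of_bilinear hQ.polar_bilinear)
      hQ.nondegenerate habs hfix' (hMn g hg)
    refine ⟨Units.mk0 c hc0, fun v => mul_left_cancel₀ h2 ?_⟩
    have := hc v v
    rw [polar_self hQ, polar_self hQ] at this
    rw [this, Units.val_mk0]; ring
  by_cases hunit : ∃ (σ : F ≃+* F) (f : (Fin n → F) → (Fin n → F) → F),
      IsUnitaryForm σ f ∧ FixesForm (matrixSet M) f
  · obtain ⟨σ, f, hf, hfix⟩ := hunit
    refine .inr (.inr (.inr (.inr (.inr (.inr (.inl ⟨σ, f, hf, fun g hg => ?_⟩))))))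
    obtain ⟨c, hc0, hc⟩ := exists_multiplier hn.pos (isSesq_of_unitary hf) hf.nondegenerate habs
      hfix (hMn g hg)
    exact ⟨Units.mk0 c hc0, hc⟩
  refine .inr (.inr (.inr (.inr (.inr (.inr (.inr ⟨M, ?_, hquad, ?_, hunit⟩))))))
  · exact ⟨hM, hMn, hperf, hsimp, hnab, hcent, habs, fun F₀ h h' => hsub ⟨F₀, h, h'⟩⟩
  · rintro ⟨f, hf, -⟩
    exact not_symplectic hodd hf

/-- Aschbacher's theorem in odd prime dimension. -/
theorem outcome [Fintype F] (hn : n.Prime) (hn3 : 3 ≤ n) (H : Subgroup (GL (Fin n) F))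
    (hsl : H ≤ specialLinear (Fin n) F) : Outcome H := by
  classical
  have hodd : Odd n := hn.odd_of_ne_two (by omega)
  by_cases hirr : ActsIrreducibly (matrixSet H)
  swap
  · rw [irr_iff] at hirr
    push Not at hirr
    obtain ⟨W, hW, h0, h1⟩ := hirr
    exact .inl ⟨W, h0, h1,
      le_subspaceStabilizer fun h hh v hv => hW _ (mem_matrixSet hh) v hv⟩
  by_cases hall : AllNormalAbsIrred H
  swap
  · simp only [AllNormalAbsIrred, not_forall] at hall
    obtain ⟨N, hN, hnorm, hN0, hnabs⟩ := hall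
    rcases clifford hn hN hnorm hirr with hi | hs | ⟨D, hD, hle, -⟩
    · refine .inr (.inr (.inl ⟨_, commutant_field hn hi fun h => hnabs ⟨hi, h⟩,
        le_normalizer_commutant hnorm⟩))
    · exact absurd hs hN0
    · by_cases h5 : 5 ≤ Fintype.card F
      · exact .inr (.inl ⟨h5, D, hD, hle⟩)
      · exact small_monomial hn3 hirr hD hle (by omega)
  have hH0 : ¬ H ≤ scalars (Fin n) F := fun hle => by
    refine not_absIrred_of_comm hn.two_le (fun x hx y _ => scalars_comm (hle hx) y) ⟨hirr, ?_⟩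
    intro M hM
    by_contra hne
    have hfield := commutant_field hn hirr fun h => hne (h M hM)
    have hmem : ∀ X : Mat n F, X ∈ Subalgebra.centralizer F (matrixSet H) := fun X => by
      rw [Subalgebra.mem_centralizer_iff]
      rintro _ ⟨x, hx, rfl⟩
      obtain ⟨c, hc⟩ := (mem_scalars_iff x).mp (hle hx)
      simp [hc]
    have hdim := hfield.finrank_eq
    rw [show Subalgebra.centralizer F (matrixSet H) = ⊤ from eq_top_iff.mpr fun X _ => hmem X,
      Subalgebra.topEquiv.toLinearEquiv.finrank_eq, Module.finrank_matrix, Module.finrank_self,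
      Fintype.card_fin] at hdim
    nlinarith [hn.two_le]
  have hex : ∃ d, ∃ L ≤ H, (∀ h ∈ H, ∀ x ∈ L, h * x * h⁻¹ ∈ L) ∧
      ¬ L ≤ scalars (Fin n) F ∧ Nat.card L = d :=
    ⟨_, H, le_rfl, fun h hh x hx => H.mul_mem (H.mul_mem hh hx) (H.inv_mem hh), hH0, rfl⟩
  obtain ⟨M, hM, hMn, hM0, hMd⟩ := Nat.find_spec hex
  have hmin : ∀ L ≤ M, (∀ h ∈ H, ∀ x ∈ L, h * x * h⁻¹ ∈ L) → ¬ L ≤ scalars (Fin n) F → L = M :=
    fun L h1 h2 h3 => Subgroup.eq_of_le_of_card_ge h1
      (hMd ▸ Nat.find_min' hex ⟨L, h1.trans hM, h2, h3, rfl⟩)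
  by_cases hMM : ⁅M, M⁆ ≤ scalars (Fin n) F
  · obtain ⟨R, hRH, hRn, hR⟩ := exists_RData hn hodd hall hsl hM hMn hM0
      fun x hx y hy => hMM (Subgroup.commutator_mem_commutator hx hy)
    exact extraspecial_outcome hn hodd hall hRH hRn hR
  · exact simple_outcome hn hodd hall hM hMn hM0 hmin
      (hmin _ (Subgroup.commutator_le_self M) (fun h hh => conj_commutator_mem (hMn h hh)) hMM)

/-- A maximal subgroup equals the member of the geometric class containing it. -/
theorem maximal_eq {H X : Subgroup (GL (Fin n) F)}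
    (hH : IsMaximalIn (specialLinear (Fin n) F) H) (hle : H ≤ X)
    (hX : ¬ specialLinear (Fin n) F ≤ X) : H = X ⊓ specialLinear (Fin n) F := by
  rcases hH.2 (X ⊓ specialLinear (Fin n) F) (le_inf hle hH.1.le) inf_le_right with h | h
  · exact h.symm
  · exact absurd (inf_eq_right.mp h) hX

/-- The maximal subgroups, with the members of the classes given exactly. -/
theorem maximal_cases [Fintype F] (hn : n.Prime) (hn3 : 3 ≤ n) {H : Subgroup (GL (Fin n) F)}
    (hH : IsMaximalIn (specialLinear (Fin n) F) H) :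
    (∃ W : Submodule F (Fin n → F), W ≠ ⊥ ∧ W ≠ ⊤ ∧
        H = subspaceStabilizer W ⊓ specialLinear (Fin n) F) ∨
    (5 ≤ Fintype.card F ∧ ∃ D : Fin n → Submodule F (Fin n → F), IsMDecomposition 1 D ∧
        H = decompositionStabilizer D ⊓ specialLinear (Fin n) F) ∨
    (∃ K : Subalgebra F (Mat n F), IsFieldSubalgebra n K ∧
        H = subalgebraNormalizer K ⊓ specialLinear (Fin n) F) ∨
    (∃ (F₀ : Subfield F) (l : ℕ) (P : GL (Fin n) F), l.Prime ∧
        Fintype.card F = Nat.card F₀ ^ l ∧ H = subfieldSubgroup F₀ P ⊓ specialLinear (Fin n) F) ∨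
    (∃ (p e : ℕ) (R : Subgroup (GL (Fin n) F)), p.Prime ∧ CharP F p ∧ Fintype.card F = p ^ e ∧
        Odd e ∧ e ∣ n - 1 ∧ n ∣ p ^ e - 1 ∧ IsLinearSymplecticTypeData n R ∧
        H = subgroupNormalizer R ⊓ specialLinear (Fin n) F) ∨
    (Odd (Fintype.card F) ∧ ∃ Q : (Fin n → F) → F, IsNondegenerateQuadraticForm Q ∧
        H = quadSimilarityGroup Q ⊓ specialLinear (Fin n) F) ∨
    (∃ (σ : F ≃+* F) (f : (Fin n → F) → (Fin n → F) → F), IsUnitaryForm σ f ∧
        H = similarityGroup f ⊓ specialLinear (Fin n) F) ∨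
    InLinearResidualClass H := by
  rcases outcome hn hn3 H hH.1.le with ⟨W, h0, h1, hle⟩ | ⟨h5, D, hD, hle⟩ | ⟨K, hK, hle⟩ |
    ⟨F₀, l, P, hl, hcard, hle⟩ | ⟨p, e, R, hp, hc, hcard, he, hen, hnd, hR, hdata, hle⟩ |
    ⟨hodd, Q, hQ, hle⟩ | ⟨σ, f, hf, hle⟩ | hres
  · exact .inl ⟨W, h0, h1, maximal_eq hH hle (not_sl_le_subspace (by omega) h0 h1)⟩
  · exact .inr (.inl ⟨h5, D, hD, maximal_eq hH hle (not_sl_le_decomp hn3 hD)⟩)
  · exact .inr (.inr (.inl ⟨K, hK, maximal_eq hH hle (not_sl_le_field hn3 hK)⟩))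
  · refine .inr (.inr (.inr (.inl ⟨F₀, l, P, hl, hcard,
      maximal_eq hH hle (not_sl_le_subfield hn3 (fun htop => ?_) P)⟩)))
    have hK : Nat.card F₀ = Fintype.card F := by
      rw [← Nat.card_eq_fintype_card]
      exact Nat.card_congr (Equiv.subtypeUnivEquiv fun x => htop ▸ Subfield.mem_top x)
    rw [hK] at hcard
    exact hl.one_lt.ne (Nat.pow_right_injective Fintype.one_lt_card ((pow_one _).trans hcard))
  · refine .inr (.inr (.inr (.inr (.inl ⟨p, e, R, hp, hc, hcard, he, hen, hnd, hdata,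
      maximal_eq hH hle (not_sl_le_normalizer hn3 ?_ (hR.natCast_ne_zero hn)
        (fun x hx hns => hR.trace_eq_zero hx hn hns) fun hle' => ?_)⟩))))
    · have h1 : 0 < p ^ e - 1 := by
        have := Nat.one_lt_pow he.pos.ne' hp.one_lt
        omega
      have := Nat.le_of_dvd h1 hnd
      omega
    · exact not_absIrred_of_comm hn.two_le (fun x hx y _ => scalars_comm (hle' hx) y) hR.absIrr
  · refine .inr (.inr (.inr (.inr (.inr (.inl ⟨hodd, Q, hQ, maximal_eq hH hle fun hall => ?_⟩)))))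
    have hf := isSesq_of_bilinear hQ.polar_bilinear
    refine not_sl_le_similarity hn3 (hf.isUnit_gram hQ.nondegenerate) (RingHom.id F) fun g hg => ?_
    obtain ⟨c, hc⟩ := hall hg
    exact ⟨c, hf.isometry.mp fun u v => by
      simp only [QuadraticMap.polar, ← Matrix.mulVec_add, hc]; ring⟩
  · refine .inr (.inr (.inr (.inr (.inr (.inr (.inl
      ⟨σ, f, hf, maximal_eq hH hle fun hall => ?_⟩))))))
    have hs := isSesq_of_unitary hf
    exact not_sl_le_similarity hn3 (hs.isUnit_gram hf.nondegenerate) _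
      fun g hg => similarity_sesq hs (hall hg)
  · exact .inr (.inr (.inr (.inr (.inr (.inr (.inr hres))))))

end CfsgLib.Classical.AschPrime
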