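import Cfsg.Agent.Lib.Classical.AschPrime.Basic

/-!
# Descent to subfields and invariant forms

An element normalising an absolutely irreducible group realised over a subfield lies in the
subfield group, and it is a similarity of every form fixed by that group.
-/

set_option autoImplicit false

namespace CfsgLib.Classical.AschPrime

open Matrix Cfsg Cfsg.Geo
open scoped MatrixGroups

variable {n : ℕ} {F : Type*} [Field F]

theorem exists_frob_fixed [Finite F] (F₀ : Subfield F) :
    ∃ τ : F →+* F, ∀ x, τ x = x ↔ x ∈ F₀ := by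
  classical
  haveI := Fintype.ofFinite F
  obtain ⟨p, hp⟩ := CharP.exists F
  haveI hF₀ : CharP F₀ p := inferInstance
  haveI hfact : Fact p.Prime := ⟨CharP.char_is_prime F p⟩
  obtain ⟨d, -, hd⟩ := FiniteField.card F₀ p
  refine ⟨iterateFrobenius F p d, fun x => ?_⟩
  simp only [iterateFrobenius_def]
  have hmem : ∀ y ∈ F₀, y ^ (p ^ (d : ℕ)) = y := fun y hy => by
    have := FiniteField.pow_card (⟨y, hy⟩ : F₀)
    rw [hd] at this
    exact congrArg Subtype.val this
  refine ⟨fun hx => ?_, hmem x⟩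
  have h1 : 1 < p ^ (d : ℕ) := Nat.one_lt_pow d.pos.ne' hfact.out.one_lt
  set P : Polynomial F := Polynomial.X ^ (p ^ (d : ℕ)) - Polynomial.X
  have hP0 : P ≠ 0 := FiniteField.X_pow_card_sub_X_ne_zero F h1
  have hdeg : P.natDegree = p ^ (d : ℕ) := FiniteField.X_pow_card_sub_X_natDegree_eq F h1
  have hsub : (Finset.univ.image (Subtype.val : F₀ → F)) ⊆ P.roots.toFinset := by
    intro y hy
    obtain ⟨⟨y, hy'⟩, -, rfl⟩ := Finset.mem_image.mp hy
    rw [Multiset.mem_toFinset, Polynomial.mem_roots hP0]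
    simp [P, hmem y hy']
  have hle : P.roots.toFinset.card ≤ (Finset.univ.image (Subtype.val : F₀ → F)).card := by
    rw [Finset.card_image_of_injective _ Subtype.val_injective, Finset.card_univ, hd, ← hdeg]
    exact (Multiset.toFinset_card_le _).trans (Polynomial.card_roots' P)
  have heq := Finset.eq_of_subset_of_card_le hsub hle
  have : x ∈ Finset.univ.image (Subtype.val : F₀ → F) := by
    rw [heq, Multiset.mem_toFinset, Polynomial.mem_roots hP0]
    simp [P, hx]
  obtain ⟨⟨y, hy⟩, -, rfl⟩ := Finset.mem_image.mp this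
  exact hy

/-- A proper subfield lies in a subfield of prime index. -/
theorem exists_prime_index [Fintype F] (F₀ : Subfield F) (h : F₀ ≠ ⊤) :
    ∃ (F₁ : Subfield F) (l : ℕ), F₀ ≤ F₁ ∧ F₁ ≠ ⊤ ∧ l.Prime ∧
      Fintype.card F = Nat.card F₁ ^ l := by
  classical
  haveI : Module.Finite F₀ F := Module.Finite.of_finite
  set m := Module.finrank F₀ F
  have hcard : Nat.card F = Nat.card F₀ ^ m := Module.natCard_eq_pow_finrank
  have hm : m ≠ 1 := fun hm1 => h (SetLike.ext' (Set.eq_of_subset_of_ncard_le (Set.subset_univ _)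
    (by
      rw [Subfield.coe_top, Set.ncard_univ, ← Nat.card_coe_set_eq, hcard, hm1, pow_one]
      exact le_rfl) (Set.toFinite _)))
  have hlp : (m.minFac).Prime := Nat.minFac_prime hm
  have haut : Nat.card (F ≃ₐ[F₀] F) = m := IsGalois.card_aut_eq_finrank F₀ F
  haveI : Fact m.minFac.Prime := ⟨hlp⟩
  obtain ⟨s, hs⟩ := exists_prime_orderOf_dvd_card' (G := F ≃ₐ[F₀] F) m.minFac
    (haut.symm ▸ Nat.minFac_dvd m)
  have hfix : Module.finrank (IntermediateField.fixedField (Subgroup.zpowers s)) F = m.minFac := by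
    rw [IntermediateField.finrank_fixedField_eq_card, Nat.card_zpowers, hs]
  set K := IntermediateField.fixedField (Subgroup.zpowers s)
  have hpow : Nat.card F = Nat.card K ^ m.minFac := hfix ▸ Module.natCard_eq_pow_finrank
  refine ⟨K.toSubfield, m.minFac, fun x hx => K.algebraMap_mem ⟨x, hx⟩, fun htop => ?_, hlp, ?_⟩
  · have : Nat.card K = Nat.card F := Nat.card_congr
      (Equiv.subtypeUnivEquiv fun x => (htop ▸ Subfield.mem_top x : x ∈ K.toSubfield))
    rw [this] at hpow
    have h1 : 1 < Nat.card F := Finite.one_lt_card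
    have := Nat.pow_right_injective h1 ((pow_one _).trans hpow)
    exact hlp.one_lt.ne this
  · rw [← Nat.card_eq_fintype_card]; exact hpow

/-- `g` has its entries in `F₀` after the change of basis `B`. -/
def RatAt (F₀ : Subfield F) (B g : GL (Fin n) F) : Prop :=
  ∀ i j, ((B * g * B⁻¹ : GL (Fin n) F) : Mat n F) i j ∈ F₀

theorem RatAt.mono {F₀ F₁ : Subfield F} (h : F₀ ≤ F₁) {B g : GL (Fin n) F} (hg : RatAt F₀ B g) :
    RatAt F₁ B g := fun i j => h (hg i j)

/-- The elements with entries in `F₀` after the change of basis `B`. -/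
def ratSubgroup [Finite F] (F₀ : Subfield F) (B : GL (Fin n) F) : Subgroup (GL (Fin n) F) where
  carrier := {g | RatAt F₀ B g}
  one_mem' := fun i j => by
    rw [mul_one, mul_inv_cancel, Units.val_one, Matrix.one_apply]
    split
    · exact F₀.one_mem
    · exact F₀.zero_mem
  mul_mem' := fun {a b} ha hb i j => by
    rw [show B * (a * b) * B⁻¹ = (B * a * B⁻¹) * (B * b * B⁻¹) by group, Units.val_mul,
      Matrix.mul_apply]
    exact F₀.sum_mem fun k _ => F₀.mul_mem (ha i k) (hb k j)
  inv_mem' := fun {a} ha => by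
    -- closure under inverses in a finite group
    have hpow : ∀ k : ℕ, RatAt F₀ B (a ^ k) := by
      intro k
      induction k with
      | zero =>
        intro i j
        rw [pow_zero, mul_one, mul_inv_cancel, Units.val_one, Matrix.one_apply]
        split
        · exact F₀.one_mem
        · exact F₀.zero_mem
      | succ k ih =>
        intro i j
        rw [pow_succ, show B * (a ^ k * a) * B⁻¹ = (B * a ^ k * B⁻¹) * (B * a * B⁻¹) by group,
          Units.val_mul, Matrix.mul_apply]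
        exact F₀.sum_mem fun l _ => F₀.mul_mem (ih i l) (ha l j)
    haveI : Finite (GL (Fin n) F) := inferInstance
    show RatAt F₀ B a⁻¹
    have e : a ^ (orderOf a - 1) = a⁻¹ := eq_inv_of_mul_eq_one_left (by
      rw [← pow_succ, Nat.sub_add_cancel (orderOf_pos a), pow_orderOf_eq_one])
    rw [← e]
    exact hpow _

theorem realisableOver_iff {F₀ : Subfield F} {P : Subgroup (GL (Fin n) F)} :
    RealisableOver F₀ (matrixSet P) ↔ ∃ B, ∀ g ∈ P, RatAt F₀ B g := by
  constructor
  · rintro ⟨B, hB⟩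
    exact ⟨B, fun g hg i j => by
      rw [Units.val_mul, Units.val_mul]; exact hB _ (mem_matrixSet hg) i j⟩
  · rintro ⟨B, hB⟩
    refine ⟨B, ?_⟩
    rintro _ ⟨g, hg, rfl⟩ i j
    have := hB g hg i j
    rwa [Units.val_mul, Units.val_mul] at this

/-- An element normalising an absolutely irreducible rational group is rational up to a scalar. -/
theorem mem_subfieldSubgroup [Finite F] (hn : 0 < n) {F₀ : Subfield F} {B : GL (Fin n) F}
    {S : Subgroup (GL (Fin n) F)} (hS : ActsAbsolutelyIrreducibly (matrixSet S))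
    (hrat : ∀ s ∈ S, RatAt F₀ B s) {g : GL (Fin n) F} (hg : ∀ s ∈ S, g * s * g⁻¹ ∈ S) :
    g ∈ subfieldSubgroup F₀ B⁻¹ := by
  classical
  obtain ⟨τ, hτ⟩ := exists_frob_fixed F₀
  let T : GL (Fin n) F →* GL (Fin n) F := Matrix.GeneralLinearGroup.map τ
  have hTrat : ∀ s ∈ S, T (B * s * B⁻¹) = B * s * B⁻¹ := fun s hs =>
    Units.ext (Matrix.ext fun i j => (hτ _).mpr (hrat s hs i j))
  set g' := B * g * B⁻¹ with hg'
  obtain ⟨c, hc⟩ := hS.2 (B⁻¹ * (g'⁻¹ * T g') * B : GL (Fin n) F) (by
    rintro _ ⟨s, hs, rfl⟩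
    rw [← Units.val_mul, ← Units.val_mul]
    refine congrArg Units.val ?_
    have e1 : T g' * (B * s * B⁻¹) * (T g')⁻¹ = B * (g * s * g⁻¹) * B⁻¹ := by
      conv_lhs => rw [← hTrat s hs, ← map_inv, ← map_mul, ← map_mul]
      rw [← hTrat _ (hg s hs)]
      congr 1
      rw [hg']; group
    have e2 : T g' * (B * s * B⁻¹) = B * (g * s * g⁻¹) * B⁻¹ * T g' := by
      rw [← e1, inv_mul_cancel_right]
    calc B⁻¹ * (g'⁻¹ * T g') * B * s = B⁻¹ * g'⁻¹ * (T g' * (B * s * B⁻¹)) * B := by group
      _ = s * (B⁻¹ * (g'⁻¹ * T g') * B) := by rw [e2, hg']; group)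
  have hX : ((g'⁻¹ * T g' : GL (Fin n) F) : Mat n F) = c • 1 := by
    have e : g'⁻¹ * T g' = B * (B⁻¹ * (g'⁻¹ * T g') * B) * B⁻¹ := by group
    rw [e, Units.val_mul, Units.val_mul _ (B⁻¹ * (g'⁻¹ * T g') * B), hc, Matrix.mul_smul,
      Matrix.mul_one, Matrix.smul_mul, Units.mul_inv]
  have hT : ∀ i j, τ ((g' : Mat n F) i j) = c * (g' : Mat n F) i j := by
    intro i j
    have e : T g' = g' * (g'⁻¹ * T g') := by group
    have e' := congrArg (fun x : GL (Fin n) F => (x : Mat n F) i j) e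
    simp only [Units.val_mul g', hX, Matrix.mul_smul, Matrix.mul_one, Matrix.smul_apply,
      smul_eq_mul] at e'
    exact e'
  obtain ⟨i₀, j₀, hij⟩ : ∃ i j, (g' : Mat n F) i j ≠ 0 := by
    by_contra hall
    push Not at hall
    haveI : NeZero n := ⟨hn.ne'⟩
    exact g'.ne_zero (Matrix.ext hall)
  set a := (g' : Mat n F) i₀ j₀
  have hc0 : c ≠ 0 := by
    rintro rfl
    have := hT i₀ j₀
    rw [zero_mul, map_eq_zero] at this
    exact hij this
  have hmem : ∀ i j, a⁻¹ * (g' : Mat n F) i j ∈ F₀ := by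
    intro i j
    rw [← hτ, map_mul, map_inv₀, hT, hT, mul_inv, mul_mul_mul_comm, inv_mul_cancel₀ hc0, one_mul]
  let M₀ : Matrix (Fin n) (Fin n) F₀ := fun i j => ⟨_, hmem i j⟩
  have hM₀ : M₀.map F₀.subtype = a⁻¹ • (g' : Mat n F) := rfl
  have hdet : M₀.det ≠ 0 := by
    intro h0
    have h1 : (a⁻¹ • (g' : Mat n F)).det = 0 := by
      rw [← hM₀, ← RingHom.mapMatrix_apply, ← RingHom.map_det, h0, map_zero]
    rw [Matrix.det_smul, mul_eq_zero] at h1
    rcases h1 with h1 | h1
    · exact pow_ne_zero _ (inv_ne_zero hij) h1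
    · exact (Matrix.isUnit_iff_isUnit_det _ |>.mp g'.isUnit).ne_zero h1
  let g₀ : GL (Fin n) F₀ := Matrix.GeneralLinearGroup.mkOfDetNeZero M₀ hdet
  let z : GL (Fin n) F := Units.map (Matrix.scalar (Fin n) : F →+* Mat n F).toMonoidHom
    (Units.mk0 a hij)
  refine Subgroup.mem_map.mpr ⟨g', ?_, ?_⟩
  · have e : g' = z * Matrix.GeneralLinearGroup.map F₀.subtype g₀ := by
      refine Units.ext ?_
      change (g' : Mat n F) = Matrix.scalar (Fin n) a * M₀.map F₀.subtype
      rw [hM₀, Matrix.scalar_apply, ← Matrix.smul_eq_diagonal_mul, smul_smul, mul_inv_cancel₀ hij,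
        one_smul]
    rw [e]
    exact Subgroup.mul_mem _ (Subgroup.mem_sup_right ⟨_, rfl⟩) (Subgroup.mem_sup_left ⟨_, rfl⟩)
  · show B⁻¹ * g' * B⁻¹⁻¹ = g
    rw [hg']; group

/-- The Gram description of a form semilinear in the second argument. -/
structure IsSesq (σ : F →+* F) (f : (Fin n → F) → (Fin n → F) → F) : Prop where
  add_left : ∀ x y v, f (x + y) v = f x v + f y v
  smul_left : ∀ (c : F) x v, f (c • x) v = c * f x v
  add_right : ∀ v x y, f v (x + y) = f v x + f v y
  smul_right : ∀ (c : F) v x, f v (c • x) = σ c * f v x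

theorem IsSesq.apply {σ : F →+* F} {f : (Fin n → F) → (Fin n → F) → F} (hf : IsSesq σ f)
    (u v : Fin n → F) : f u v = u ⬝ᵥ (gramMatrix f *ᵥ (σ ∘ v)) := by
  classical
  let L : ∀ v, (Fin n → F) →ₗ[F] F := fun v =>
    { toFun := fun x => f x v
      map_add' := fun x y => hf.add_left x y v
      map_smul' := fun c x => hf.smul_left c x v }
  let R : ∀ x, (Fin n → F) →+ F := fun x => AddMonoidHom.mk' (fun v => f x v) (hf.add_right x)
  have h1 : f u v = ∑ a, u a * f (Pi.single a 1) v := by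
    change L v u = _
    conv_lhs => rw [pi_eq_sum_univ' u]
    rw [map_sum]
    exact Finset.sum_congr rfl fun a _ => by rw [map_smul]; rfl
  rw [h1, dotProduct]
  refine Finset.sum_congr rfl fun a _ => congrArg (u a * ·) ?_
  change R (Pi.single a 1) v = _
  conv_lhs => rw [pi_eq_sum_univ' v]
  rw [map_sum, Matrix.mulVec, dotProduct]
  refine Finset.sum_congr rfl fun b _ => ?_
  show f (Pi.single a 1) (v b • Pi.single b 1) = _
  rw [hf.smul_right, gramMatrix, mul_comm]
  rfl

theorem IsSesq.isometry {σ : F →+* F} {f : (Fin n → F) → (Fin n → F) → F} (hf : IsSesq σ f)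
    {A : Mat n F} {c : F} :
    (∀ u v, f (A *ᵥ u) (A *ᵥ v) = c * f u v) ↔
      Aᵀ * gramMatrix f * A.map σ = c • gramMatrix f := by
  classical
  have key : ∀ u v, f (A *ᵥ u) (A *ᵥ v) =
      u ⬝ᵥ ((Aᵀ * gramMatrix f * A.map σ) *ᵥ (σ ∘ v)) := by
    intro u v
    have hmap : σ ∘ (A *ᵥ v) = A.map σ *ᵥ (σ ∘ v) := by
      funext i; exact RingHom.map_mulVec σ A v i
    rw [hf.apply, hmap, Matrix.mul_assoc, ← Matrix.mulVec_mulVec, ← Matrix.mulVec_mulVec,
      Matrix.dotProduct_mulVec u Aᵀ, Matrix.vecMul_transpose]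
  refine ⟨fun h => ?_, fun h u v => ?_⟩
  · ext a b
    have e := h (Pi.single a 1) (Pi.single b 1)
    rw [key] at e
    have hs : σ ∘ (Pi.single b 1 : Fin n → F) = Pi.single b 1 := by
      funext i; by_cases hi : i = b <;> simp [hi]
    rw [hs] at e
    simpa [gramMatrix, single_one_dotProduct, Matrix.mulVec_single_one] using e
  · rw [key, h, Matrix.smul_mulVec, dotProduct_smul, smul_eq_mul, ← hf.apply]

theorem IsSesq.isUnit_gram [Finite F] {σ : F →+* F} {f : (Fin n → F) → (Fin n → F) → F}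
    (hf : IsSesq σ f) (hnd : IsNondegenerateForm f) : IsUnit (gramMatrix f) := by
  rw [← Matrix.mulVec_injective_iff_isUnit]
  intro x y hxy
  by_contra hne
  have hσ : Function.Surjective σ := Finite.injective_iff_surjective.mp σ.injective
  choose τ hτ using hσ
  have hv : σ ∘ (fun i => τ ((x - y) i)) = x - y := funext fun i => hτ _
  obtain ⟨u, hu⟩ := (hnd (fun i => τ ((x - y) i)) (fun e => hne (sub_eq_zero.mp (by
    rw [← hv, e]; funext i; simp)))).1
  refine hu ?_
  rw [hf.apply, hv, Matrix.mulVec_sub, hxy, sub_self, dotProduct_zero]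

/-- An element normalising an absolutely irreducible group is a similarity of each fixed form. -/
theorem exists_multiplier [Finite F] (hn : 0 < n) {σ : F →+* F}
    {f : (Fin n → F) → (Fin n → F) → F} (hf : IsSesq σ f) (hnd : IsNondegenerateForm f)
    {S : Subgroup (GL (Fin n) F)} (hS : ActsAbsolutelyIrreducibly (matrixSet S))
    (hfix : FixesForm (matrixSet S) f) {g : GL (Fin n) F} (hg : ∀ s ∈ S, g * s * g⁻¹ ∈ S) :
    ∃ c : F, c ≠ 0 ∧ ∀ u v, f ((g : Mat n F) *ᵥ u) ((g : Mat n F) *ᵥ v) = c * f u v := by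
  classical
  set M := gramMatrix f
  have hS' : ∀ s ∈ S, (s : Mat n F)ᵀ * M * (s : Mat n F).map σ = M := fun s hs => by
    rw [hf.isometry.mp fun u v => by rw [one_mul]; exact hfix _ (mem_matrixSet hs) u v, one_smul]
  obtain ⟨Mu, hMu⟩ : ∃ Mu : (Mat n F)ˣ, (Mu : Mat n F) = M := hf.isUnit_gram hnd
  set M' := (g : Mat n F)ᵀ * M * (g : Mat n F).map σ with hM'
  have hM'fix : ∀ s ∈ S, (s : Mat n F)ᵀ * M' * (s : Mat n F).map σ = M' := by
    intro s hs
    have e : (g : Mat n F) * (s : Mat n F) = ((g * s * g⁻¹ : GL (Fin n) F) : Mat n F) * g := by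
      rw [← Units.val_mul, ← Units.val_mul, inv_mul_cancel_right]
    calc (s : Mat n F)ᵀ * M' * (s : Mat n F).map σ
        = ((g : Mat n F) * (s : Mat n F))ᵀ * M * ((g : Mat n F) * (s : Mat n F)).map σ := by
          rw [hM', Matrix.transpose_mul, Matrix.map_mul]; simp only [mul_assoc]
      _ = M' := by
          rw [e, Matrix.transpose_mul, Matrix.map_mul, hM']
          conv_rhs => rw [← hS' _ (hg s hs)]
          simp only [mul_assoc]
  set X := M' * ((Mu⁻¹ : (Mat n F)ˣ) : Mat n F) with hXdef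
  have hXM : X * M = M' := by rw [hXdef, ← hMu, mul_assoc, Units.inv_mul, mul_one]
  obtain ⟨c, hc⟩ := hS.2 Xᵀ (by
    rintro _ ⟨s, hs, rfl⟩
    have hunit : IsUnit (M * (s : Mat n F).map σ) := by
      rw [← hMu]
      exact Mu.isUnit.mul (s.isUnit.map (RingHom.mapMatrix σ))
    have e : (s : Mat n F)ᵀ * X * (M * (s : Mat n F).map σ) =
        X * (s : Mat n F)ᵀ * (M * (s : Mat n F).map σ) := by
      calc (s : Mat n F)ᵀ * X * (M * (s : Mat n F).map σ)
          = (s : Mat n F)ᵀ * (X * M) * (s : Mat n F).map σ := by simp only [mul_assoc]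
        _ = X * M := by rw [hXM, hM'fix s hs]
        _ = X * ((s : Mat n F)ᵀ * M * (s : Mat n F).map σ) := by rw [hS' s hs]
        _ = _ := by simp only [mul_assoc]
    have := congrArg Matrix.transpose (hunit.mul_left_injective e)
    simpa [Matrix.transpose_mul] using this)
  have hX : X = c • 1 := by
    have := congrArg Matrix.transpose hc
    simpa using this
  have hM'c : M' = c • M := by rw [← hXM, hX, Matrix.smul_mul, one_mul]
  refine ⟨c, ?_, hf.isometry.mpr hM'c⟩
  rintro rfl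
  rw [zero_smul] at hM'c
  haveI : NeZero n := ⟨hn.ne'⟩
  have hu : IsUnit M' := by
    rw [hM', ← hMu]
    exact ((Matrix.isUnit_transpose _).mpr g.isUnit |>.mul Mu.isUnit).mul
      (g.isUnit.map (RingHom.mapMatrix σ))
  exact hu.ne_zero hM'c

/-- An alternating matrix of odd size is singular. -/
theorem det_alternating (hn : Odd n) {M : Mat n F} (hskew : ∀ i j, M i j = -M j i)
    (hdiag : ∀ i, M i i = 0) : M.det = 0 := by
  classical
  rw [Matrix.det_apply']
  refine Finset.sum_involution (fun σ _ => σ⁻¹) (fun σ _ => ?_) (fun σ _ hσ h => ?_)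
    (fun _ _ => Finset.mem_univ _) (fun σ _ => inv_inv σ)
  · rw [Equiv.Perm.sign_inv]
    have : (∏ i, M (σ⁻¹ i) i) = - ∏ i, M (σ i) i := by
      rw [← Equiv.prod_comp σ fun i => M (σ⁻¹ i) i]
      simp only [Equiv.Perm.coe_inv, Equiv.symm_apply_apply]
      rw [Finset.prod_congr rfl fun i _ => hskew i (σ i), Finset.prod_neg, Finset.card_univ,
        Fintype.card_fin, hn.neg_one_pow, neg_one_mul]
    rw [this]; ring
  · haveI : Fact (Nat.Prime 2) := ⟨Nat.prime_two⟩
    have h2 : σ ^ (2 ^ 1) = 1 := by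
      rw [pow_one, pow_two]; nth_rewrite 1 [← h]; exact inv_mul_cancel σ
    obtain ⟨a, ha⟩ := Equiv.Perm.exists_fixed_point_of_prime
      (by rw [Fintype.card_fin]; exact hn.not_two_dvd_nat) h2
    refine hσ ?_
    rw [Finset.prod_eq_zero (Finset.mem_univ a) (by rw [ha]; exact hdiag a), mul_zero]

end CfsgLib.Classical.AschPrime
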