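import Cfsg.Agent.Lib.Classical.AschPrime.Descent

/-!
# Groups with an abelian minimal normal subgroup modulo scalars: the extraspecial group

In odd prime dimension `n` one finds a normal subgroup of exponent `n` and order `n ^ 3`; it is
monomial over the field generated by the `n`-th roots of unity.
-/

set_option autoImplicit false

namespace CfsgLib.Classical.AschPrime

open Matrix Cfsg Cfsg.Geo
open scoped MatrixGroups

variable {n : ℕ} {F : Type*} [Field F]

/-- Every non-scalar normal subgroup acts absolutely irreducibly. -/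
def AllNormalAbsIrred (H : Subgroup (GL (Fin n) F)) : Prop :=
  ∀ N ≤ H, (∀ h ∈ H, ∀ x ∈ N, h * x * h⁻¹ ∈ N) → ¬ N ≤ scalars (Fin n) F →
    ActsAbsolutelyIrreducibly (matrixSet N)

theorem AllNormalAbsIrred.comm_le_scalars {H : Subgroup (GL (Fin n) F)} (hH : AllNormalAbsIrred H)
    (hn : 2 ≤ n) {A : Subgroup (GL (Fin n) F)} (hA : A ≤ H)
    (hnorm : ∀ h ∈ H, ∀ x ∈ A, h * x * h⁻¹ ∈ A) (hc : ∀ x ∈ A, ∀ y ∈ A, x * y = y * x) :
    A ≤ scalars (Fin n) F := by
  by_contra hA'
  exact not_absIrred_of_comm hn hc (hH A hA hnorm hA')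

theorem pow_mul_shift {G : Type*} [Group G] {x y c : G} (hc : ∀ g : G, Commute c g)
    (h : y * x = c * x * y) (k : ℕ) : y ^ k * x = c ^ k * x * y ^ k := by
  induction k with
  | zero => simp
  | succ k ih =>
    calc y ^ (k + 1) * x = y ^ k * (c * x * y) := by rw [pow_succ, mul_assoc, h]
      _ = c * (y ^ k * x) * y := by
          rw [← mul_assoc, ← mul_assoc, ((hc (y ^ k)).eq).symm, mul_assoc c]
      _ = c ^ (k + 1) * x * y ^ (k + 1) := by
          rw [ih, pow_succ' c, pow_succ y]; simp only [mul_assoc]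

theorem mul_pow_shift {G : Type*} [Group G] {x y c : G} (hc : ∀ g : G, Commute c g)
    (h : y * x = c * x * y) (k : ℕ) : (x * y) ^ k = x ^ k * y ^ k * c ^ (k.choose 2) := by
  induction k with
  | zero => simp
  | succ k ih =>
    have hcc : ∀ g : G, Commute (c ^ (k.choose 2)) g := fun g => (hc g).pow_left _
    calc (x * y) ^ (k + 1) = x ^ k * (y ^ k * x) * y * c ^ (k.choose 2) := by
          rw [pow_succ, ih, mul_assoc _ (c ^ _), (hcc (x * y)).eq]; simp only [mul_assoc]
      _ = x ^ k * c ^ k * x * y ^ k * y * c ^ (k.choose 2) := by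
          rw [pow_mul_shift hc h]; simp only [mul_assoc]
      _ = x ^ (k + 1) * y ^ (k + 1) * (c ^ k * c ^ (k.choose 2)) := by
          rw [mul_assoc (x ^ k), ((hc x).pow_left k).eq, ← mul_assoc, ← pow_succ]
          simp only [mul_assoc]
          rw [← mul_assoc (c ^ k) (y ^ k), ((hc (y ^ k)).pow_left k).eq, mul_assoc,
            ← mul_assoc (c ^ k) y, ((hc y).pow_left k).eq, pow_succ y]
          simp only [mul_assoc]
      _ = _ := by rw [← pow_add, Nat.choose_succ_succ' k 1, Nat.choose_one_right]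

/-- The data of the extraspecial normal subgroup. -/
structure RData (R : Subgroup (GL (Fin n) F)) : Prop where
  le_sl : R ≤ specialLinear (Fin n) F
  absIrr : ActsAbsolutelyIrreducibly (matrixSet R)
  pow_eq_one : ∀ x ∈ R, x ^ n = 1
  comm : ∀ x ∈ R, ∀ y ∈ R, x * y * x⁻¹ * y⁻¹ ∈ scalars (Fin n) F

theorem exists_RData [Finite F] (hn : n.Prime) (hodd : Odd n) {H M : Subgroup (GL (Fin n) F)}
    (hH : AllNormalAbsIrred H) (hsl : H ≤ specialLinear (Fin n) F) (hM : M ≤ H)
    (hMn : ∀ h ∈ H, ∀ x ∈ M, h * x * h⁻¹ ∈ M) (hM0 : ¬ M ≤ scalars (Fin n) F)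
    (hMM : ∀ x ∈ M, ∀ y ∈ M, x * y * x⁻¹ * y⁻¹ ∈ scalars (Fin n) F) :
    ∃ R ≤ H, (∀ h ∈ H, ∀ x ∈ R, h * x * h⁻¹ ∈ R) ∧ RData R := by
  classical
  have hdet : ∀ g ∈ H, (g : Mat n F).det = 1 := fun g hg => by
    have h := MonoidHom.mem_ker.mp (hsl hg)
    have := congrArg Units.val h
    rwa [Matrix.GeneralLinearGroup.val_det_apply, Units.val_one] at this
  have hcn : ∀ x ∈ M, ∀ y ∈ M, (x * y * x⁻¹ * y⁻¹) ^ n = 1 := by
    intro x hx y hy
    obtain ⟨a, ha⟩ := (mem_scalars_iff _).mp (hMM x hx y hy)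
    have hd := hdet _ (H.mul_mem (H.mul_mem (H.mul_mem (hM hx) (hM hy)) (H.inv_mem (hM hx)))
      (H.inv_mem (hM hy)))
    rw [ha, Matrix.det_smul, Matrix.det_one, mul_one, Fintype.card_fin] at hd
    exact Units.ext (by rw [Units.val_pow_eq_pow_val, ha, smul_pow, hd, one_pow, one_smul]; rfl)
  have hshift : ∀ x ∈ M, ∀ y ∈ M, ∃ c : GL (Fin n) F, (∀ g, Commute c g) ∧ c ^ n = 1 ∧
      y * x = c * x * y := fun x hx y hy =>
    ⟨y * x * y⁻¹ * x⁻¹, fun g => scalars_comm (hMM y hy x hx) g, hcn y hy x hx, by group⟩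
  have hpc : ∀ x ∈ M, x ^ n ∈ scalars (Fin n) F := by
    have hcent : ∀ x ∈ M, ∀ y ∈ M, x ^ n * y = y * x ^ n := by
      intro x hx y hy
      obtain ⟨c, hc, hcp, he⟩ := hshift y hy x hx
      rw [pow_mul_shift hc he, hcp, one_mul]
    intro x hx
    refine hH.comm_le_scalars hn.two_le (A := M ⊓ Subgroup.centralizer (M : Set (GL (Fin n) F)))
      (inf_le_left.trans hM) ?_ ?_ ⟨M.pow_mem hx n, fun y hy => (hcent x hx y hy).symm⟩
    · intro h hh z hz
      refine ⟨hMn h hh z hz.1, fun y hy => ?_⟩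
      have hy' : h⁻¹ * y * h ∈ M := by simpa using hMn h⁻¹ (H.inv_mem hh) y hy
      have e := congrArg (fun t => h * t * h⁻¹) (hz.2 _ hy')
      simpa [mul_assoc] using e
    · exact fun a ha b hb => (ha.2 b hb.1).symm
  let R : Subgroup (GL (Fin n) F) :=
    { carrier := {x | x ∈ M ∧ x ^ n = 1}
      one_mem' := ⟨M.one_mem, one_pow n⟩
      mul_mem' := fun {x y} hx hy => by
        obtain ⟨c, hc, hcp, he⟩ := hshift x hx.1 y hy.1
        refine ⟨M.mul_mem hx.1 hy.1, ?_⟩
        obtain ⟨k, hk⟩ := hn.dvd_choose_self (show 2 ≠ 0 by norm_num)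
          (lt_of_le_of_ne hn.two_le (by rintro rfl; exact absurd hodd (by decide)))
        rw [mul_pow_shift hc he, hx.2, hy.2, hk, pow_mul, hcp]
        simp
      inv_mem' := fun {x} hx => ⟨M.inv_mem hx.1, by rw [inv_pow, hx.2, inv_one]⟩ }
  have hRn : ∀ h ∈ H, ∀ x ∈ R, h * x * h⁻¹ ∈ R := fun h hh x hx =>
    ⟨hMn h hh x hx.1, by rw [conj_pow, hx.2]; simp⟩
  refine ⟨R, fun x hx => hM hx.1, hRn, fun x hx => hsl (hM hx.1), ?_, fun x hx => hx.2,
    fun x hx y hy => hMM x hx.1 y hy.1⟩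
  refine hH R (fun x hx => hM hx.1) hRn fun hR => hM0 ?_
  refine hH.comm_le_scalars hn.two_le hM hMn ?_
  -- the image of the power map is cyclic and its kernel is scalar
  let φ : M →* GL (Fin n) F :=
    { toFun := fun x => x.1 ^ n
      map_one' := one_pow n
      map_mul' := fun x y => by
        obtain ⟨c, hc, hcp, he⟩ := hshift x.1 x.2 y.1 y.2
        obtain ⟨k, hk⟩ := hn.dvd_choose_self (show 2 ≠ 0 by norm_num)
          (lt_of_le_of_ne hn.two_le (by rintro rfl; exact absurd hodd (by decide)))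
        show (x.1 * y.1) ^ n = _
        rw [mul_pow_shift hc he, hk, pow_mul, hcp, one_pow, mul_one] }
  haveI : IsCyclic (scalars (Fin n) F) :=
    isCyclic_of_surjective _ (Units.map (Matrix.scalar (Fin n) : F →+* Mat n F).toMonoidHom).rangeRestrict_surjective
  have hle : φ.range ≤ scalars (Fin n) F := by
    rintro _ ⟨x, rfl⟩; exact hpc x.1 x.2
  haveI : IsCyclic φ.range :=
    isCyclic_of_injective (Subgroup.inclusion hle) (Subgroup.inclusion_injective hle)
  obtain ⟨⟨_, x₀, rfl⟩, hgen⟩ := IsCyclic.exists_generator (α := φ.range)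
  intro x hx y hy
  have key : ∀ z : M, ∃ a : ℤ, ∃ s ∈ scalars (Fin n) F, z.1 = x₀.1 ^ a * s := by
    intro z
    obtain ⟨a, ha⟩ := Subgroup.mem_zpowers_iff.mp (hgen ⟨φ z, z, rfl⟩)
    have e : φ (x₀ ^ a) = φ z := by
      rw [map_zpow]; exact congrArg Subtype.val ha
    refine ⟨a, (x₀.1 ^ a)⁻¹ * z.1, hR ?_, by rw [mul_inv_cancel_left]⟩
    refine ⟨M.mul_mem (M.inv_mem (M.zpow_mem x₀.2 a)) z.2, ?_⟩
    have e2 : φ ((x₀ ^ a)⁻¹ * z) = 1 := by rw [map_mul, map_inv, e, inv_mul_cancel]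
    exact e2
  obtain ⟨a, s, hs, hxe⟩ := key ⟨x, hx⟩
  obtain ⟨b, t, ht, hye⟩ := key ⟨y, hy⟩
  change x = _ at hxe
  change y = _ at hye
  subst hxe hye
  have hsc : ∀ g, Commute s g := fun g => scalars_comm hs g
  have htc : ∀ g, Commute t g := fun g => scalars_comm ht g
  exact (((Commute.refl x₀.1).zpow_zpow a b).mul_left (hsc _)).mul_right
    ((htc (x₀.1 ^ a * s)).symm) |>.eq

variable {R : Subgroup (GL (Fin n) F)}

/-- The scalar by which two elements fail to commute. -/
theorem RData.shift (hR : RData R) {x y : GL (Fin n) F} (hx : x ∈ R) (hy : y ∈ R) :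
    ∃ μ : F, μ ^ n = 1 ∧ (y : Mat n F) * x = μ • ((x : Mat n F) * y) := by
  obtain ⟨c, hc⟩ := (mem_scalars_iff _).mp (hR.comm y hy x hx)
  refine ⟨c, ?_, ?_⟩
  · have hmem : y * x * y⁻¹ * x⁻¹ ∈ R :=
      R.mul_mem (R.mul_mem (R.mul_mem hy hx) (R.inv_mem hy)) (R.inv_mem hx)
    have h := congrArg Units.val (MonoidHom.mem_ker.mp (hR.le_sl hmem))
    rw [Matrix.GeneralLinearGroup.val_det_apply, hc, Matrix.det_smul, Matrix.det_one, mul_one,
      Fintype.card_fin, Units.val_one] at h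
    exact h
  · have e : y * x = y * x * y⁻¹ * x⁻¹ * (x * y) := by group
    have := congrArg (Units.val (α := Mat n F)) e
    rwa [Units.val_mul (y * x * y⁻¹ * x⁻¹), hc, Matrix.smul_mul, Matrix.one_mul, Units.val_mul,
      Units.val_mul] at this

theorem RData.exists_shift (hR : RData R) (hn : n.Prime) :
    ∃ x ∈ R, ∃ y ∈ R, ∃ μ : F, μ ≠ 1 ∧ IsPrimitiveRoot μ n ∧
      (y : Mat n F) * x = μ • ((x : Mat n F) * y) := by
  by_contra hall
  push Not at hall
  refine not_absIrred_of_comm hn.two_le (fun x hx y hy => ?_) hR.absIrr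
  obtain ⟨μ, hμ, he⟩ := hR.shift hx hy
  rcases eq_or_ne μ 1 with rfl | hne
  · rw [one_smul] at he
    exact Units.ext he.symm
  · exact absurd he (hall x hx y hy μ hne (by
      rw [IsPrimitiveRoot.iff_orderOf]
      haveI : Fact n.Prime := ⟨hn⟩
      exact orderOf_eq_prime hμ hne))

theorem RData.natCast_ne_zero (hR : RData R) (hn : n.Prime) : (n : F) ≠ 0 := by
  obtain ⟨x, -, y, -, μ, hne, hμ, -⟩ := hR.exists_shift hn
  intro h0
  haveI : Fact n.Prime := ⟨hn⟩
  obtain ⟨p, hp⟩ := CharP.exists F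
  have hd : p ∣ n := (CharP.cast_eq_zero_iff F p n).mp h0
  rcases (Nat.dvd_prime hn).mp hd with rfl | rfl
  · exact CharP.char_ne_one F 1 rfl
  · refine hne (sub_eq_zero.mp (pow_eq_zero_iff hn.ne_zero |>.mp ?_))
    rw [sub_pow_char (p := p), hμ.pow_eq_one, one_pow, sub_self]

theorem RData.trace_eq_zero (hR : RData R) {x : GL (Fin n) F} (hx : x ∈ R) (hn : n.Prime)
    (hns : x ∉ scalars (Fin n) F) : (x : Mat n F).trace = 0 := by
  by_contra h0
  refine hns ?_
  obtain ⟨c, hc⟩ := hR.absIrr.2 x (by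
    rintro _ ⟨y, hy, rfl⟩
    obtain ⟨μ, -, he⟩ := hR.shift hx hy
    have hμ : μ = 1 := by
      have e2 : ((y : Mat n F) * x * ((y⁻¹ : GL (Fin n) F) : Mat n F)) = μ • (x : Mat n F) := by
        rw [he, Matrix.smul_mul, mul_assoc, Units.mul_inv, mul_one]
      have e3 := congrArg Matrix.trace e2
      rw [Matrix.trace_mul_cycle, Units.inv_mul, one_mul, Matrix.trace_smul, smul_eq_mul] at e3
      exact mul_right_cancel₀ h0 (e3.symm.trans (one_mul _).symm)
    rw [hμ, one_smul] at he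
    exact he.symm)
  exact mem_scalars_of_eq hn.pos hc

theorem RData.center_eq (hR : RData R) (hn : n.Prime) :
    Subgroup.center R = (scalars (Fin n) F).subgroupOf R := by
  ext ⟨x, hx⟩
  rw [Subgroup.mem_center_iff, Subgroup.mem_subgroupOf]
  constructor
  · intro h
    obtain ⟨c, hc⟩ := hR.absIrr.2 x (by
      rintro _ ⟨y, hy, rfl⟩
      exact (congrArg (fun z : R => (z.1 : Mat n F)) (h ⟨y, hy⟩)).symm)
    exact mem_scalars_of_eq hn.pos hc
  · exact fun h y => Subtype.ext (scalars_comm h y.1).symm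

theorem RData.card_center [Finite F] (hR : RData R) (hn : n.Prime) :
    Nat.card (Subgroup.center R) = n := by
  classical
  haveI : NeZero n := ⟨hn.ne_zero⟩
  haveI : Fact n.Prime := ⟨hn⟩
  obtain ⟨x, hx, y, hy, μ, hne, hμ, he⟩ := hR.exists_shift hn
  refine le_antisymm ?_ ?_
  · -- scalars of exponent `n`
    haveI := Fintype.ofFinite F
    have hz : ∀ z : Subgroup.center R, ∃ c : F, c ^ n = 1 ∧ (z.1.1 : Mat n F) = c • 1 := by
      rintro ⟨⟨z, hzR⟩, hz⟩
      rw [hR.center_eq hn, Subgroup.mem_subgroupOf] at hz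
      obtain ⟨c, hc⟩ := (mem_scalars_iff z).mp hz
      refine ⟨c, ?_, hc⟩
      have := congrArg Units.val (hR.pow_eq_one z hzR)
      rw [Units.val_pow_eq_pow_val, hc, smul_pow, one_pow, Units.val_one] at this
      have h00 := congrArg (fun A : Mat n F => A 0 0) this
      simpa using h00
    choose c hc1 hc2 using hz
    have hinj : Function.Injective fun z => (⟨c z, (Polynomial.mem_nthRootsFinset hn.pos (1 : F)).mpr (hc1 z)⟩ :
        {a : F // a ∈ Polynomial.nthRootsFinset n (1 : F)}) := fun z z' h => by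
      have h' : c z = c z' := congrArg Subtype.val h
      exact Subtype.ext (Subtype.ext (Units.ext (by rw [hc2, hc2, h'])))
    refine (Nat.card_le_card_of_injective _ hinj).trans ?_
    rw [Nat.card_eq_fintype_card, Fintype.card_coe, hμ.card_nthRootsFinset]
  · -- the commutator has order `n`
    have hmem : y * x * y⁻¹ * x⁻¹ ∈ R :=
      R.mul_mem (R.mul_mem (R.mul_mem hy hx) (R.inv_mem hy)) (R.inv_mem hx)
    have hz : (⟨_, hmem⟩ : R) ∈ Subgroup.center R := by
      rw [hR.center_eq hn, Subgroup.mem_subgroupOf]; exact hR.comm y hy x hx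
    have hne1 : y * x * y⁻¹ * x⁻¹ ≠ 1 := by
      intro h1
      refine hne ?_
      have e : y * x = x * y := by
        calc y * x = y * x * y⁻¹ * x⁻¹ * (x * y) := by group
          _ = x * y := by rw [h1, one_mul]
      have e' : (y : Mat n F) * x = (x : Mat n F) * y := congrArg Units.val e
      rw [he] at e'
      by_contra hμ1
      have h0 : ((x : Mat n F) * y) = 0 := by
        have : (μ - 1) • ((x : Mat n F) * y) = 0 := by rw [sub_smul, e', one_smul, sub_self]
        exact (smul_eq_zero.mp this).resolve_left (sub_ne_zero.mpr hμ1)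
      exact (x.isUnit.mul y.isUnit).ne_zero h0
    have hord : orderOf (⟨⟨_, hmem⟩, hz⟩ : Subgroup.center R) = n := by
      rw [← Subgroup.orderOf_coe, ← Subgroup.orderOf_coe]
      exact orderOf_eq_prime (hR.pow_eq_one _ hmem) hne1
    calc n = orderOf (⟨⟨_, hmem⟩, hz⟩ : Subgroup.center R) := hord.symm
      _ ≤ _ := Nat.le_of_dvd Nat.card_pos (orderOf_dvd_natCard _)

theorem RData.isPGroup [Finite F] (hR : RData R) (hn : n.Prime) : IsPGroup n R := by
  haveI : Fact n.Prime := ⟨hn⟩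
  exact fun x => ⟨1, by rw [pow_one]; exact Subtype.ext (hR.pow_eq_one x.1 x.2)⟩

theorem RData.card_le [Finite F] (hR : RData R) (hn : n.Prime) : Nat.card R ≤ n ^ 3 := by
  classical
  haveI := Fintype.ofFinite (R ⧸ Subgroup.center R)
  let f : R ⧸ Subgroup.center R → Mat n F := fun q => (q.out.1 : Mat n F)
  have htr : ∀ p q : R ⧸ Subgroup.center R, p ≠ q → ((((p.out : R)⁻¹ * q.out : R).1 : GL (Fin n) F) : Mat n F).trace = 0 := by
    intro p q hpq
    refine hR.trace_eq_zero (Subtype.coe_prop _) hn fun h => hpq ?_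
    rw [← QuotientGroup.out_eq' p, ← QuotientGroup.out_eq' q]
    exact QuotientGroup.eq.mpr ((SetLike.ext_iff.mp (hR.center_eq hn) _).mpr h)
  have hli : LinearIndependent F f := by
    rw [Fintype.linearIndependent_iff]
    intro g hg p
    have e := congrArg (fun X => ((((p.out : R)⁻¹).1 : GL (Fin n) F) : Mat n F) * X) hg
    simp only [Finset.mul_sum, Matrix.mul_smul, mul_zero] at e
    have e2 := congrArg Matrix.trace e
    rw [Matrix.trace_sum, Matrix.trace_zero, Finset.sum_eq_single p] at e2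
    · rw [Matrix.trace_smul, ← Units.val_mul, ← Subgroup.coe_mul, inv_mul_cancel, Subgroup.coe_one,
        Units.val_one, Matrix.trace_one, Fintype.card_fin, smul_eq_mul, mul_eq_zero] at e2
      exact e2.resolve_right (hR.natCast_ne_zero hn)
    · intro q _ hqp
      rw [Matrix.trace_smul, ← Units.val_mul, ← Subgroup.coe_mul, htr p q hqp.symm, smul_zero]
    · exact fun h => absurd (Finset.mem_univ p) h
  have hcard := hli.fintype_card_le_finrank
  rw [Module.finrank_matrix, Module.finrank_self, Fintype.card_fin, mul_one] at hcard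
  have h := Subgroup.card_eq_card_quotient_mul_card_subgroup (Subgroup.center R)
  rw [hR.card_center hn, Nat.card_eq_fintype_card (α := R ⧸ Subgroup.center R)] at h
  rw [h, pow_succ]
  exact Nat.mul_le_mul_right n (by rw [pow_two]; exact hcard)

theorem card_ge_of_not_comm {G : Type*} [Group G] [Finite G] {p : ℕ} [hp : Fact p.Prime]
    (hG : IsPGroup p G) (hnc : ¬ ∀ a b : G, a * b = b * a) : p ^ 3 ≤ Nat.card G := by
  obtain ⟨k, hk⟩ := IsPGroup.iff_card.mp hG
  rw [hk]
  by_contra hlt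
  refine hnc ?_
  have hk3 : k < 3 := by
    by_contra h3
    exact hlt (Nat.pow_le_pow_right hp.out.pos (by omega))
  interval_cases k
  · haveI : Subsingleton G := (Nat.card_eq_one_iff_unique.mp (by simpa using hk)).1
    exact fun a b => Subsingleton.elim _ _
  · haveI := isCyclic_of_prime_card (p := p) (by simpa using hk)
    exact fun a b => mul_comm' a b
  · exact IsPGroup.commutative_of_card_eq_prime_sq hk

theorem RData.card_eq [Finite F] (hR : RData R) (hn : n.Prime) : Nat.card R = n ^ 3 := by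
  haveI : Fact n.Prime := ⟨hn⟩
  refine le_antisymm (hR.card_le hn) (card_ge_of_not_comm (hR.isPGroup hn) fun h => ?_)
  exact not_absIrred_of_comm hn.two_le
    (fun x hx y hy => congrArg Subtype.val (h ⟨x, hx⟩ ⟨y, hy⟩)) hR.absIrr

theorem RData.symplecticType [Finite F] (hR : RData R) (hn : n.Prime) (hodd : Odd n)
    {H : Subgroup (GL (Fin n) F)} (hH : AllNormalAbsIrred H) (hRH : R ≤ H)
    (hnorm : ∀ h ∈ H, ∀ x ∈ R, h * x * h⁻¹ ∈ R) : IsSymplecticTypeGroup n R := by
  classical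
  refine ⟨hn, hR.isPGroup hn, fun A hA hAc => ?_, ?_⟩
  · have hle : A.map R.subtype ≤ scalars (Fin n) F := by
      refine hH.comm_le_scalars hn.two_le ((Subgroup.map_subtype_le A).trans hRH) ?_ ?_
      · rintro h hh _ ⟨a, ha, rfl⟩
        let e : R ≃* R :=
          { toFun := fun x => ⟨h * x.1 * h⁻¹, hnorm h hh x.1 x.2⟩
            invFun := fun x => ⟨h⁻¹ * x.1 * h, by simpa using hnorm h⁻¹ (H.inv_mem hh) x.1 x.2⟩
            left_inv := fun x => Subtype.ext (by simp [mul_assoc])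
            right_inv := fun x => Subtype.ext (by simp [mul_assoc])
            map_mul' := fun x y => Subtype.ext (by simp [mul_assoc]) }
        have hmem : a ∈ A.comap e.toMonoidHom := by rw [hA.fixed e]; exact ha
        exact ⟨e a, hmem, rfl⟩
      · rintro _ ⟨a, ha, rfl⟩ _ ⟨b, hb, rfl⟩
        exact congrArg (fun z : A => R.subtype z.1) (hAc.is_comm.comm ⟨a, ha⟩ ⟨b, hb⟩)
    haveI : IsCyclic (scalars (Fin n) F) :=
      isCyclic_of_surjective _
        (Units.map (Matrix.scalar (Fin n) : F →+* Mat n F).toMonoidHom).rangeRestrict_surjective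
    let ι : A →* scalars (Fin n) F :=
      { toFun := fun a => ⟨a.1.1, hle ⟨a.1, a.2, rfl⟩⟩
        map_one' := rfl
        map_mul' := fun _ _ => rfl }
    exact isCyclic_of_injective ι fun a b h => Subtype.ext (Subtype.ext (congrArg Subtype.val h :))
  · rw [show Nat.gcd 2 n = 1 from Nat.coprime_two_left.mpr hodd, mul_one]
    have hd : Monoid.exponent R ∣ n :=
      Monoid.exponent_dvd_of_forall_pow_eq_one fun x => Subtype.ext (hR.pow_eq_one x.1 x.2)
    refine ((Nat.dvd_prime hn).mp hd).resolve_left fun h1 => ?_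
    haveI := Monoid.exp_eq_one_iff.mp h1
    refine not_absIrred_of_comm hn.two_le (fun x hx y hy => ?_) hR.absIrr
    exact congrArg Subtype.val (Subsingleton.elim ((⟨x, hx⟩ : R) * ⟨y, hy⟩) (⟨y, hy⟩ * ⟨x, hx⟩))

/-- In a suitable basis `R` is generated by a diagonal and a permutation matrix. -/
theorem RData.exists_monomial [Finite F] (hR : RData R) (hn : n.Prime) :
    ∃ (μ : F) (B : GL (Fin n) F) (S : Set (GL (Fin n) F)), IsPrimitiveRoot μ n ∧
      R = Subgroup.closure S ∧
      ∀ s ∈ S, ∃ (π : Equiv.Perm (Fin n)) (c : Fin n → F), (∀ i, ∃ k : ℕ, c i = μ ^ k) ∧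
        ∀ i j, ((B * s * B⁻¹ : GL (Fin n) F) : Mat n F) i j = if i = π j then c j else 0 := by
  classical
  haveI : Fact n.Prime := ⟨hn⟩
  haveI : NeZero n := ⟨hn.ne_zero⟩
  obtain ⟨x, hx, y, hy, μ, hne, hμ, he⟩ := hR.exists_shift hn
  have hgen : R = Subgroup.closure {x, y} := by
    have hle : Subgroup.closure {x, y} ≤ R := by
      rw [Subgroup.closure_le]
      rintro z (rfl | rfl)
      exacts [hx, hy]
    refine (Subgroup.eq_of_le_of_card_ge hle ?_).symm
    rw [hR.card_eq hn]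
    refine card_ge_of_not_comm ((hR.isPGroup hn).to_le hle) fun h => hne ?_
    have e := congrArg (fun z : Subgroup.closure {x, y} => (z.1 : Mat n F))
      (h ⟨y, Subgroup.subset_closure (by simp)⟩ ⟨x, Subgroup.subset_closure (by simp)⟩)
    change (y : Mat n F) * x = (x : Mat n F) * y at e
    rw [he] at e
    by_contra hμ1
    have : (μ - 1) • ((x : Mat n F) * y) = 0 := by rw [sub_smul, e, one_smul, sub_self]
    exact (x.isUnit.mul y.isUnit).ne_zero ((smul_eq_zero.mp this).resolve_left (sub_ne_zero.mpr hμ1))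
  -- an eigenvector of `x`
  have hxn : (x : Mat n F) ^ n = 1 := by
    rw [← Units.val_pow_eq_pow_val, hR.pow_eq_one x hx, Units.val_one]
  obtain ⟨ζ, hζ, v₀, hv₀, hev⟩ : ∃ ζ : F, ζ ^ n = 1 ∧ ∃ v, v ≠ 0 ∧ (x : Mat n F) *ᵥ v = ζ • v := by
    have h1 := congrArg (Polynomial.aeval (x : Mat n F))
      (Polynomial.X_pow_sub_one_eq_prod hn.pos hμ)
    rw [map_sub, map_pow, Polynomial.aeval_X, map_one, hxn, sub_self] at h1
    by_contra hall
    push Not at hall
    have hu : ∀ ζ ∈ Polynomial.nthRootsFinset n (1 : F),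
        IsUnit (Polynomial.aeval (x : Mat n F) (Polynomial.X - Polynomial.C ζ)) := by
      intro ζ hζ
      rw [← Matrix.mulVec_injective_iff_isUnit]
      intro v w hvw
      by_contra hne'
      have h0 : Polynomial.aeval (x : Mat n F) (Polynomial.X - Polynomial.C ζ) *ᵥ (v - w) = 0 := by
        rw [Matrix.mulVec_sub]; exact sub_eq_zero.mpr hvw
      rw [map_sub, Polynomial.aeval_X, Polynomial.aeval_C, one_smul_eq, Matrix.sub_mulVec,
        Matrix.smul_mulVec, Matrix.one_mulVec, sub_eq_zero] at h0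
      exact hall ζ ((Polynomial.mem_nthRootsFinset hn.pos (1 : F)).mp hζ) (v - w) (sub_ne_zero.mpr hne') h0
    have : ∀ s : Finset F, (∀ ζ ∈ s, IsUnit (Polynomial.aeval (x : Mat n F)
        (Polynomial.X - Polynomial.C ζ))) →
        IsUnit (Polynomial.aeval (x : Mat n F) (∏ ζ ∈ s, (Polynomial.X - Polynomial.C ζ))) := by
      intro s
      induction s using Finset.induction_on with
      | empty => intro _; simp
      | insert a s ha ih =>
        intro h
        rw [Finset.prod_insert ha, map_mul]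
        exact (h a (Finset.mem_insert_self a s)).mul (ih fun ζ hζ => h ζ (Finset.mem_insert_of_mem hζ))
    have hunit := this _ hu
    rw [← h1] at hunit
    exact hunit.ne_zero rfl
  -- the orbit of `v₀` under `y`
  have hxy : (x : Mat n F) * y = μ⁻¹ • ((y : Mat n F) * x) := by
    rw [he, smul_smul, inv_mul_cancel₀ (hμ.ne_zero hn.ne_zero), one_smul]
  let v : Fin n → (Fin n → F) := fun i => ((y : Mat n F) ^ (i : ℕ)) *ᵥ v₀
  have hyn : (y : Mat n F) ^ n = 1 := by
    rw [← Units.val_pow_eq_pow_val, hR.pow_eq_one y hy, Units.val_one]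
  have hxv : ∀ k : ℕ, (x : Mat n F) *ᵥ (((y : Mat n F) ^ k) *ᵥ v₀) =
      (μ⁻¹ ^ k * ζ) • (((y : Mat n F) ^ k) *ᵥ v₀) := by
    intro k
    induction k with
    | zero => simp [hev]
    | succ k ih =>
      rw [pow_succ', ← Matrix.mulVec_mulVec, Matrix.mulVec_mulVec _ (x : Mat n F), hxy,
        Matrix.smul_mulVec, ← Matrix.mulVec_mulVec, ih, Matrix.mulVec_smul, smul_smul, pow_succ',
        mul_assoc]
  have hv0 : ∀ i, v i ≠ 0 := by
    intro i h
    refine hv₀ (Matrix.mulVec_injective_iff_isUnit.2 (y.isUnit.pow (i : ℕ)) ?_)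
    rw [Matrix.mulVec_zero]; exact h
  have hinj : Function.Injective fun i : Fin n => μ⁻¹ ^ (i : ℕ) * ζ := fun i j h => by
    have hζ0 : ζ ≠ 0 := fun e => by simp [e, zero_pow hn.ne_zero] at hζ
    exact Fin.ext (hμ.inv.pow_inj i.2 j.2 (mul_right_cancel₀ hζ0 h))
  have hli : LinearIndependent F v :=
    Module.End.eigenvectors_linearIndependent' (Matrix.toLin' (x : Mat n F)) _ hinj v fun i =>
      ⟨Module.End.mem_eigenspace_iff.mpr (by rw [Matrix.toLin'_apply]; exact hxv i), hv0 i⟩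
  let P : Mat n F := Matrix.of fun i j => v j i
  have hP : IsUnit P := by
    rw [← Matrix.linearIndependent_cols_iff_isUnit]
    exact hli
  obtain ⟨Pu, hPu⟩ := hP
  have hcol : ∀ (A : Mat n F) i j, (A * P) i j = (A *ᵥ v j) i := fun A i j => rfl
  have key : ∀ (g : GL (Fin n) F) (π : Equiv.Perm (Fin n)) (c : Fin n → F),
      (∀ j, (g : Mat n F) *ᵥ v j = c j • v (π j)) → ∀ i j,
        ((Pu⁻¹ * g * Pu⁻¹⁻¹ : GL (Fin n) F) : Mat n F) i j = if i = π j then c j else 0 := by
    intro g π c hg i j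
    have hgP : (g : Mat n F) * P = P * Matrix.of fun i j => if i = π j then c j else 0 := by
      ext a b
      rw [hcol, hg, Matrix.mul_apply]
      simp [P, mul_comm]
    rw [inv_inv, Units.val_mul, Units.val_mul, mul_assoc, hPu, hgP, ← mul_assoc, ← hPu,
      Units.inv_mul, one_mul, Matrix.of_apply]
  refine ⟨μ, Pu⁻¹, {x, y}, hμ, hgen, ?_⟩
  rintro s hs
  rcases Set.mem_insert_iff.mp hs with h | h
  · rw [h]
    refine ⟨1, fun j => μ⁻¹ ^ (j : ℕ) * ζ, fun i => ?_,
      key _ 1 _ fun j => hxv j⟩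
    obtain ⟨a, -, ha⟩ := hμ.eq_pow_of_pow_eq_one (ξ := μ⁻¹ ^ (i : ℕ) * ζ) (by
      rw [mul_pow, ← pow_mul, mul_comm (i : ℕ), pow_mul, inv_pow, hμ.pow_eq_one, inv_one, one_pow,
        one_mul, hζ])
    exact ⟨a, ha.symm⟩
  · rw [Set.mem_singleton_iff.mp h]
    refine ⟨Equiv.addRight (1 : Fin n), fun _ => 1, fun i => ⟨0, (pow_zero μ).symm⟩,
      key _ _ _ fun j => ?_⟩
    rw [one_smul, Equiv.coe_addRight]
    show (y : Mat n F) *ᵥ (((y : Mat n F) ^ (j : ℕ)) *ᵥ v₀) =
      ((y : Mat n F) ^ ((j + 1 : Fin n) : ℕ)) *ᵥ v₀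
    rw [Matrix.mulVec_mulVec, ← pow_succ']
    congr 1
    rw [Fin.val_add, Fin.val_one', Nat.add_mod_mod]
    exact pow_eq_pow_mod _ hyn

end CfsgLib.Classical.AschPrime
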