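import Cfsg.Agent.Lib.Classical.AschPrime.Clifford
import Cfsg.Agent.Lib.Classical.AschPrime.Symplectic

/-!
# A perfect minimal normal subgroup is quasi-simple in prime dimension
-/

set_option autoImplicit false

namespace CfsgLib.Classical.AschPrime

open Matrix Cfsg Cfsg.Geo
open scoped MatrixGroups commutatorElement

variable {n : ℕ} {F : Type*} [Field F]

/-- A map `c` acting by scalars on `N` centralises the derived group of `N`. -/
theorem commute_commutator {c : GL (Fin n) F} {N : Subgroup (GL (Fin n) F)}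
    (hc : ∀ x ∈ N, c * x * c⁻¹ * x⁻¹ ∈ scalars (Fin n) F) :
    ∀ x ∈ ⁅N, N⁆, c * x = x * c := by
  suffices h : ⁅N, N⁆ ≤ Subgroup.centralizer {c} by
    exact fun x hx => (Subgroup.mem_centralizer_singleton_iff.mp (h hx)).symm
  refine Subgroup.commutator_le.mpr fun a ha b hb => Subgroup.mem_centralizer_singleton_iff.mpr ?_
  set l := c * a * c⁻¹ * a⁻¹ with hl
  set m := c * b * c⁻¹ * b⁻¹ with hm
  have hla : c * a * c⁻¹ = l * a := by rw [hl]; group
  have hmb : c * b * c⁻¹ = m * b := by rw [hm]; group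
  have hlc : ∀ g, l * g = g * l := fun g => scalars_comm (hc a ha) g
  have hmc : ∀ g, m * g = g * m := fun g => scalars_comm (hc b hb) g
  have e1 : l * a * (m * b) = l * m * (a * b) := by
    rw [mul_assoc l a, ← mul_assoc a, ← hmc a, mul_assoc m, ← mul_assoc]
  have e2 : m * b * (l * a) = l * m * (b * a) := by
    rw [mul_assoc m b, ← mul_assoc b, ← hlc b, mul_assoc l, ← mul_assoc, hmc l]
  have key : c * ⁅a, b⁆ * c⁻¹ = ⁅a, b⁆ := by
    calc c * ⁅a, b⁆ * c⁻¹ = (c * a * c⁻¹) * (c * b * c⁻¹) * ((c * b * c⁻¹) * (c * a * c⁻¹))⁻¹ := by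
          simp only [commutatorElement_def]; group
      _ = l * m * ((a * b) * (b * a)⁻¹) * (l * m)⁻¹ := by rw [hla, hmb, e1, e2]; group
      _ = (a * b) * (b * a)⁻¹ := by
          rw [mul_assoc l m, hmc, ← mul_assoc l, hlc, mul_assoc _ l m, mul_inv_cancel_right]
      _ = ⁅a, b⁆ := by simp only [commutatorElement_def]; group
  exact (mul_inv_eq_iff_eq_mul.mp key).symm

theorem conj_commutator_mem {N : Subgroup (GL (Fin n) F)} {g : GL (Fin n) F}
    (hg : ∀ x ∈ N, g * x * g⁻¹ ∈ N) : ∀ x ∈ ⁅N, N⁆, g * x * g⁻¹ ∈ ⁅N, N⁆ := by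
  intro x hx
  have hle : N.map (MulAut.conj g).toMonoidHom ≤ N := by
    rintro _ ⟨y, hy, rfl⟩; exact hg y hy
  have := Subgroup.mem_map_of_mem (MulAut.conj g).toMonoidHom hx
  rw [Subgroup.map_commutator] at this
  exact Subgroup.commutator_mono hle hle this

theorem perfect_core [Finite F] (hn : n.Prime) {H M : Subgroup (GL (Fin n) F)}
    (hH : AllNormalAbsIrred H) (hM : M ≤ H) (hMn : ∀ h ∈ H, ∀ x ∈ M, h * x * h⁻¹ ∈ M)
    (hM0 : ¬ M ≤ scalars (Fin n) F)
    (hmin : ∀ L ≤ M, (∀ h ∈ H, ∀ x ∈ L, h * x * h⁻¹ ∈ L) → ¬ L ≤ scalars (Fin n) F → L = M)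
    (hperf : ⁅M, M⁆ = M) :
    IsSimpleGroup (M ⧸ (scalars (Fin n) F).subgroupOf M) ∧
      ¬ IsMulCommutative (M ⧸ (scalars (Fin n) F).subgroupOf M) ∧
      (∀ h ∈ H, (∀ x ∈ M, h * x * h⁻¹ * x⁻¹ ∈ scalars (Fin n) F) → h ∈ scalars (Fin n) F) ∧
      ActsAbsolutelyIrreducibly (matrixSet M) := by
  classical
  have habs := hH M hM hMn hM0
  -- minimal subgroups normalised by `M`
  have hex : ∃ d, ∃ L ≤ M, (∀ g ∈ M, ∀ x ∈ L, g * x * g⁻¹ ∈ L) ∧ ¬ L ≤ scalars (Fin n) F ∧
      Nat.card L = d :=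
    ⟨_, M, le_rfl, fun g hg x hx => M.mul_mem (M.mul_mem hg hx) (M.inv_mem hg), hM0, rfl⟩
  obtain ⟨N, hNM, hNn, hN0, hNd⟩ := Nat.find_spec hex
  have hmin' : ∀ L ≤ M, (∀ g ∈ M, ∀ x ∈ L, g * x * g⁻¹ ∈ L) → ¬ L ≤ scalars (Fin n) F →
      Nat.card N ≤ Nat.card L := fun L h1 h2 h3 =>
    hNd ▸ Nat.find_min' hex ⟨L, h1, h2, h3, rfl⟩
  let C : H → Subgroup (GL (Fin n) F) := fun h => N.map (MulAut.conj h.1).toMonoidHom
  have hCmem : ∀ (h : H) x, x ∈ C h ↔ h.1⁻¹ * x * h.1 ∈ N := by
    intro h x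
    refine ⟨?_, fun hx => ⟨_, hx, by simp [mul_assoc]⟩⟩
    rintro ⟨y, hy, rfl⟩
    simpa [mul_assoc] using hy
  have hCcard : ∀ h, Nat.card (C h) = Nat.card N := fun h =>
    Subgroup.card_map_of_injective (MulAut.conj h.1).injective
  have hCM : ∀ h, C h ≤ M := by
    rintro h _ ⟨y, hy, rfl⟩; exact hMn h.1 h.2 y (hNM hy)
  have hCn : ∀ h, ∀ g ∈ M, ∀ x ∈ C h, g * x * g⁻¹ ∈ C h := by
    intro h g hg x hx
    rw [hCmem] at hx ⊢
    have hg' : h.1⁻¹ * g * h.1 ∈ M := by simpa using hMn _ (H.inv_mem h.2) g hg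
    simpa [mul_assoc] using hNn _ hg' _ hx
  have hC0 : ∀ h, ¬ C h ≤ scalars (Fin n) F := fun h hle => hN0 fun x hx => by
    have := scalars_normal.conj_mem _ (hle (Subgroup.mem_map_of_mem _ hx : _ ∈ C h)) h.1⁻¹
    simpa [mul_assoc] using this
  have hdis : ∀ h h', C h ≠ C h' → ⁅C h, C h'⁆ ≤ scalars (Fin n) F := by
    intro h h' hne
    have hle : ⁅C h, C h'⁆ ≤ C h ⊓ C h' := by
      refine Subgroup.commutator_le.mpr fun a ha b hb => ⟨?_, ?_⟩
      · have := hCn h b (hCM h' hb) a⁻¹ ((C h).inv_mem ha)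
        simpa [commutatorElement_def, mul_assoc] using (C h).mul_mem ha this
      · have := hCn h' a (hCM h ha) b hb
        simpa [commutatorElement_def, mul_assoc] using (C h').mul_mem this ((C h').inv_mem hb)
    by_contra hsc
    have hge := hmin' (C h ⊓ C h') (inf_le_left.trans (hCM h))
      (fun g hg x hx => ⟨hCn h g hg x hx.1, hCn h' g hg x hx.2⟩) fun e => hsc (hle.trans e)
    have e1 : C h ⊓ C h' = C h := Subgroup.eq_of_le_of_card_ge inf_le_left (by rw [hCcard]; exact hge)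
    have e2 : C h ⊓ C h' = C h' :=
      Subgroup.eq_of_le_of_card_ge inf_le_right (by rw [hCcard]; exact hge)
    exact hne (e1.symm.trans e2)
  have hgen : ⨆ h, C h = M := by
    refine hmin _ (iSup_le hCM) (fun g hg x hx => ?_) fun e => hC0 1 ((le_iSup C 1).trans e)
    induction hx using Subgroup.iSup_induction' with
    | hp h x hx =>
      refine Subgroup.mem_iSup_of_mem (⟨g, hg⟩ * h) ?_
      rw [hCmem] at hx ⊢
      simpa [mul_assoc] using hx
    | h1 => simp
    | hmul a b _ _ iha ihb =>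
      have : g * (a * b) * g⁻¹ = g * a * g⁻¹ * (g * b * g⁻¹) := by group
      rw [this]; exact mul_mem iha ihb
  -- `N` is perfect
  have hNperf : ⁅N, N⁆ = N := by
    have hle : ⁅N, N⁆ ≤ N := Subgroup.commutator_le_self N
    refine Subgroup.eq_of_le_of_card_ge hle (hmin' _ (hle.trans hNM)
      (fun g hg => conj_commutator_mem (hNn g hg)) fun hsc => ?_)
    let π := QuotientGroup.mk' (scalars (Fin n) F)
    have hcomm : ∀ h h', (C h).map π ≤ Subgroup.centralizer ((C h').map π : Set _) := by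
      intro h h'
      rw [← Subgroup.commutator_eq_bot_iff_le_centralizer, ← Subgroup.map_commutator,
        Subgroup.map_eq_bot_iff, QuotientGroup.ker_mk']
      by_cases e : C h = C h'
      · rw [e, ← Subgroup.map_commutator]
        rintro _ ⟨y, hy, rfl⟩
        exact scalars_normal.conj_mem _ (hsc hy) h'.1
      · exact hdis h h' e
    have hMc : M.map π ≤ Subgroup.centralizer (M.map π : Set _) := by
      rw [← hgen, Subgroup.map_iSup]
      exact iSup_le fun h => Subgroup.le_centralizer_iff.mp (iSup_le fun h' => hcomm h' h)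
    refine hM0 ?_
    rw [← hperf]
    rw [← Subgroup.commutator_eq_bot_iff_le_centralizer, ← Subgroup.map_commutator,
      Subgroup.map_eq_bot_iff, QuotientGroup.ker_mk'] at hMc
    exact hMc
  -- `N = M`
  have hNeq : N = M := by
    by_cases hall : ∀ h : H, C h = N
    · refine hmin N hNM (fun g hg x hx => ?_) hN0
      have : g * x * g⁻¹ ∈ C ⟨g, hg⟩ := Subgroup.mem_map_of_mem _ hx
      rwa [hall] at this
    · exfalso
      push Not at hall
      obtain ⟨h, hh⟩ := hall
      have h1 : C 1 = N := by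
        ext x; rw [hCmem]; simp
      have hsc := hdis h 1 (by rw [h1]; exact hh)
      rw [h1] at hsc
      have hcom : ∀ c ∈ C h, ∀ x ∈ N, c * x = x * c := fun c hc x hx =>
        commute_commutator (c := c) (N := N)
          (fun y hy => hsc (Subgroup.commutator_mem_commutator hc hy)) x (hNperf.symm ▸ hx)
      rcases clifford hn hNM hNn habs.1 with hirr | hs | ⟨D, -, -, hNc, -⟩
      · have hfield := commutant_field hn hirr fun hall' => hC0 h fun c hc => by
          obtain ⟨a, ha⟩ := hall' c (by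
            rintro _ ⟨x, hx, rfl⟩
            exact congrArg Units.val (hcom c hc x hx))
          exact mem_scalars_of_eq hn.pos ha
        have hCc : ∀ a ∈ C h, ∀ b ∈ C h, a * b = b * a := fun a ha b hb => by
          refine Units.ext (hfield.comm _ ?_ _ ?_) <;>
            · rw [Subalgebra.mem_centralizer_iff]
              rintro _ ⟨x, hx, rfl⟩
              first
                | exact (congrArg Units.val (hcom a ha x hx)).symm
                | exact (congrArg Units.val (hcom b hb x hx)).symm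
        refine hN0 ?_
        rw [← hNperf]
        refine Subgroup.commutator_le.mpr fun a ha b hb => ?_
        have e := hCc _ (Subgroup.mem_map_of_mem _ ha) _ (Subgroup.mem_map_of_mem _ hb)
        rw [← map_mul, ← map_mul] at e
        rw [commutatorElement_eq_one_iff_mul_comm.mpr ((MulAut.conj h.1).injective e)]
        exact one_mem _
      · exact hN0 hs
      · refine hN0 ?_
        rw [← hNperf]
        refine Subgroup.commutator_le.mpr fun a ha b hb => ?_
        rw [commutatorElement_eq_one_iff_mul_comm.mpr (hNc a ha b hb)]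
        exact one_mem _
  have hsimple : ∀ L ≤ M, (∀ g ∈ M, ∀ x ∈ L, g * x * g⁻¹ ∈ L) → ¬ L ≤ scalars (Fin n) F →
      L = M := fun L h1 h2 h3 => Subgroup.eq_of_le_of_card_ge h1 (hNeq ▸ hmin' L h1 h2 h3)
  refine ⟨?_, fun hab => hM0 ?_, ?_, habs⟩
  · haveI : Nontrivial (M ⧸ (scalars (Fin n) F).subgroupOf M) := by
      rw [QuotientGroup.nontrivial_iff]
      exact fun e => hM0 (Subgroup.subgroupOf_eq_top.mp e)
    refine ⟨fun L hL => ?_⟩
    set π := QuotientGroup.mk' ((scalars (Fin n) F).subgroupOf M)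
    let L' := (L.comap π).map M.subtype
    have hL'n : ∀ g ∈ M, ∀ x ∈ L', g * x * g⁻¹ ∈ L' := by
      intro g hg y hy
      obtain ⟨x, hx, hxy⟩ := Subgroup.mem_map.mp hy
      let gM : M := ⟨g, hg⟩
      refine Subgroup.mem_map.mpr ⟨gM * x * gM⁻¹, ?_, ?_⟩
      · exact (Subgroup.Normal.comap hL π).conj_mem x hx gM
      · rw [map_mul, map_mul, map_inv, hxy]; rfl
    by_cases hsc : L' ≤ scalars (Fin n) F
    · left
      rw [Subgroup.eq_bot_iff_forall]
      intro z hz
      obtain ⟨x, rfl⟩ := QuotientGroup.mk'_surjective _ z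
      exact (QuotientGroup.eq_one_iff x).mpr (hsc ⟨x, hz, rfl⟩)
    · right
      have e := hsimple L' (Subgroup.map_subtype_le _) hL'n hsc
      refine eq_top_iff.mpr fun z _ => ?_
      obtain ⟨x, rfl⟩ := QuotientGroup.mk'_surjective _ z
      obtain ⟨y, hy, hyx⟩ := (e.symm ▸ x.2 : x.1 ∈ L')
      rw [show x = y from Subtype.ext hyx.symm]
      exact hy
  · rw [← hperf]
    refine Subgroup.commutator_le.mpr fun a ha b hb => ?_
    have := hab.is_comm.comm ((⟨a, ha⟩ : M) : M ⧸ (scalars (Fin n) F).subgroupOf M)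
      ((⟨b, hb⟩ : M) : M ⧸ (scalars (Fin n) F).subgroupOf M)
    rw [← QuotientGroup.mk_mul, ← QuotientGroup.mk_mul, eq_comm, QuotientGroup.eq,
      Subgroup.mem_subgroupOf] at this
    have := scalars_normal.conj_mem _ this (b * a)
    simpa [commutatorElement_def, mul_assoc] using this
  · intro h _ hx
    obtain ⟨c, hc⟩ := habs.2 h (by
      rintro _ ⟨x, hxM, rfl⟩
      exact congrArg Units.val (commute_commutator hx x (hperf.symm ▸ hxM)))
    exact mem_scalars_of_eq hn.pos hc

end CfsgLib.Classical.AschPrime
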