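import Cfsg.Agent.Lib.Classical.AschPrime.UnitaryBasic
import Cfsg.Agent.Lib.Classical.HermMatrixSimple

/-!
# The special unitary group lies in no member of a geometric class
-/

set_option autoImplicit false

namespace CfsgLib.Classical.AschPrime

open Matrix Cfsg Cfsg.Geo
open scoped MatrixGroups commutatorElement

variable {n : ℕ} {F : Type*} [Field F] {q : ℕ}

theorem mem_suG {g : GL (Fin n) F} :
    g ∈ suG n F q ↔ g ∈ Cfsg.GU n F q ∧ (g : Mat n F).det = 1 := by
  rw [Subgroup.mem_inf, mem_sl_iff]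

theorem perfect_dichotomy {S T : Type*} [Group S] [Group T] (hp : commutator S = ⊤)
    (hs : IsSimpleGroup (S ⧸ Subgroup.center S)) (e : S ≃* T) :
    commutator T = ⊤ ∧ ∀ N : Subgroup T, N.Normal → N ≤ Subgroup.center T ∨ N = ⊤ := by
  constructor
  · rw [commutator_def] at hp ⊢
    have h := congrArg (Subgroup.map e.toMonoidHom) hp
    rwa [Subgroup.map_commutator, Subgroup.map_top_of_surjective e.toMonoidHom e.surjective] at h
  intro N hN
  set M := N.comap e.toMonoidHom with hM
  haveI : M.Normal := hN.comap _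
  set π := QuotientGroup.mk' (Subgroup.center S)
  haveI hMn : (M.map π).Normal := Subgroup.Normal.map inferInstance π (QuotientGroup.mk'_surjective _)
  rcases hs.eq_bot_or_eq_top_of_normal _ hMn with h | h
  · left
    intro x hx
    obtain ⟨y, rfl⟩ := e.surjective x
    have hy : y ∈ Subgroup.center S := by
      rw [← QuotientGroup.eq_one_iff]
      exact (Subgroup.eq_bot_iff_forall _).mp h _ (Subgroup.mem_map_of_mem π (show y ∈ M from hx))
    refine Subgroup.mem_center_iff.mpr fun z => ?_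
    obtain ⟨w, rfl⟩ := e.surjective z
    rw [← map_mul, ← map_mul, Subgroup.mem_center_iff.mp hy w]
  · right
    have hdec : ∀ s : S, ∃ m ∈ M, ∃ c ∈ Subgroup.center S, s = m * c := by
      intro s
      obtain ⟨m, hm, hms⟩ := (h ▸ Subgroup.mem_top (π s) : π s ∈ M.map π)
      exact ⟨m, hm, m⁻¹ * s, (QuotientGroup.eq.mp hms), (mul_inv_cancel_left m s).symm⟩
    have hle : commutator S ≤ M := by
      rw [commutator_def, Subgroup.commutator_le]
      intro a _ b _
      obtain ⟨a', ha', c, hc, rfl⟩ := hdec a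
      obtain ⟨b', hb', d, hd, rfl⟩ := hdec b
      have key : ⁅a' * c, b' * d⁆ = ⁅a', b'⁆ := by
        have h1 : ∀ z, z * c = c * z := fun z => Subgroup.mem_center_iff.mp hc z
        have h2 : ∀ z, z * d = d * z := fun z => Subgroup.mem_center_iff.mp hd z
        rw [commutatorElement_def, commutatorElement_def, _root_.mul_inv_rev, _root_.mul_inv_rev]
        calc a' * c * (b' * d) * (c⁻¹ * a'⁻¹) * (d⁻¹ * b'⁻¹)
            = a' * (c * (b' * d)) * c⁻¹ * a'⁻¹ * d⁻¹ * b'⁻¹ := by group
          _ = a' * ((b' * d) * c) * c⁻¹ * a'⁻¹ * d⁻¹ * b'⁻¹ := by rw [h1 (b' * d)]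
          _ = a' * b' * (d * a'⁻¹) * d⁻¹ * b'⁻¹ := by group
          _ = a' * b' * (a'⁻¹ * d) * d⁻¹ * b'⁻¹ := by rw [h2 a'⁻¹]
          _ = _ := by group
      rw [key]
      exact M.mul_mem (M.mul_mem (M.mul_mem ha' hb') (M.inv_mem ha')) (M.inv_mem hb')
    rw [hp] at hle
    refine eq_top_iff.mpr fun x _ => ?_
    obtain ⟨y, rfl⟩ := e.surjective x
    exact hle (Subgroup.mem_top y)

variable [Fintype F]

theorem suG_commutant (hF : Fintype.card F = q ^ 2) (hn : 2 ≤ n) (M : Mat n F)
    (h : ∀ g ∈ suG n F q, M * (g : Mat n F) = (g : Mat n F) * M) : ∃ c : F, M = c • 1 :=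
  scalar_of_commute hF hn M fun g hg hd => h g ⟨hg, MonoidHom.mem_ker.mpr hd⟩

theorem suG_irr (hF : Fintype.card F = q ^ 2) (hn : 3 ≤ n) :
    ActsIrreducibly (matrixSet (suG n F q)) := by
  classical
  obtain ⟨σ, hσ, hc⟩ := exists_frob hF
  have hq := two_le_of_card_sq hF
  rw [irr_iff]
  intro W hW
  by_cases h0 : W = ⊥
  · exact .inl h0
  right
  obtain ⟨l, hlK, hl1, hl2⟩ : ∃ l : Fˣ, l ∈ (normHom σ).ker ∧ (l : F) ≠ 1 ∧ (l : F) ≠ (l : F)⁻¹ := by
    by_contra hall
    push Not at hall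
    have : Nat.card (normHom σ).ker ≤ 2 := card_roots_pow_le 2 two_pos _ fun u hu => by
      by_cases h1 : (u : F) = 1
      · rw [show u = 1 from Units.ext h1, one_pow]
      · refine Units.ext ?_
        rw [Units.val_pow_eq_pow_val, Units.val_one, pow_two]
        nth_rewrite 2 [hall u hu h1]
        exact mul_inv_cancel₀ u.ne_zero
    rw [(frob_cards hF hσ hc).2] at this
    omega
  obtain ⟨w, hw, hw0⟩ := Submodule.exists_mem_ne_zero_of_ne_bot h0
  obtain ⟨i, hi⟩ := Function.ne_iff.mp hw0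
  have hi : w i ≠ 0 := by simpa using hi
  -- diagonal elements give the projection to a coordinate line
  have hcoord : ∀ j, j ≠ i → (Pi.single i 1 : Fin n → F) ∈ W := by
    intro j hj
    let d : Fin n → Fˣ := fun k => if k = i then l else if k = j then l⁻¹ else 1
    have hd : ∀ k, d k ∈ (normHom σ).ker := fun k => by
      simp only [d]
      split_ifs
      exacts [hlK, inv_mem hlK, one_mem _]
    have hdet : (diagGL d : Mat n F).det = 1 := by
      have h := congrArg Units.val (diagGL_det d)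
      rw [Matrix.GeneralLinearGroup.val_det_apply] at h
      rw [h, Units.coe_prod, ← Finset.mul_prod_erase Finset.univ _ (Finset.mem_univ i),
        ← Finset.mul_prod_erase (Finset.univ.erase i) _ (Finset.mem_erase.2 ⟨hj, Finset.mem_univ j⟩),
        Finset.prod_eq_one fun k hk => ?_, mul_one]
      · simp [d, hj]
      · simp only [Finset.mem_erase] at hk
        simp [d, hk.1, hk.2.1]
    have hmem : diagGL d ∈ suG n F q := mem_suG.mpr ⟨diagGL_mem_GU hσ d hd, hdet⟩
    set D := (diagGL d : Mat n F) with hDdef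
    have hDv : ∀ (v : Fin n → F) k, (D *ᵥ v) k = (d k : F) * v k := fun v k => by
      simp [hDdef, diagGL, Matrix.mulVec_diagonal]
    have h1 := W.sub_mem (hW _ (mem_matrixSet hmem) w hw) hw
    have h2 := W.sub_mem (hW _ (mem_matrixSet hmem) _ h1) (W.smul_mem ((l⁻¹ : Fˣ) : F) h1)
    have e : D *ᵥ (D *ᵥ w - w) - ((l⁻¹ : Fˣ) : F) • (D *ᵥ w - w) =
        (((l : F) - (l : F)⁻¹) * ((l : F) - 1) * w i) • (Pi.single i 1 : Fin n → F) := by
      funext k
      simp only [Pi.sub_apply, Pi.smul_apply, hDv, smul_eq_mul, Units.val_inv_eq_inv_val]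
      by_cases hki : k = i
      · subst hki
        simp only [d, if_true, Pi.single_eq_same]
        ring
      · by_cases hkj : k = j
        · subst hkj
          simp only [d, if_neg hki, if_true, Pi.single_eq_of_ne hki, Units.val_inv_eq_inv_val]
          ring
        · simp only [d, if_neg hki, if_neg hkj, Pi.single_eq_of_ne hki, Units.val_one]
          ring
    rw [e] at h2
    have := W.smul_mem (((l : F) - (l : F)⁻¹) * ((l : F) - 1) * w i)⁻¹ h2
    rwa [smul_smul, inv_mul_cancel₀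
      (mul_ne_zero (mul_ne_zero (sub_ne_zero.mpr hl2) (sub_ne_zero.mpr hl1)) hi), one_smul] at this
  obtain ⟨j₀, hj₀⟩ : ∃ j : Fin n, j ≠ i :=
    Fintype.exists_ne_of_one_lt_card (by rw [Fintype.card_fin]; omega) i
  have hiW := hcoord j₀ hj₀
  -- signed transpositions
  have hall : ∀ j, (Pi.single j 1 : Fin n → F) ∈ W := by
    intro j
    rcases eq_or_ne j i with rfl | hji
    · exact hiW
    let P : Mat n F :=
      Matrix.diagonal (Function.update 1 i (-1)) * (Equiv.swap i j).permMatrix F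
    have hPdet : P.det = 1 := by
      simp [P, det_diagonal, det_permutation, Finset.prod_update_of_mem,
        Equiv.Perm.sign_swap hji.symm]
    let g : GL (Fin n) F := GeneralLinearGroup.mk'' P (by rw [hPdet]; exact isUnit_one)
    have hgu : g ∈ Cfsg.GU n F q := by
      refine (mem_GU_iff hσ).2 fun x y => ?_
      change stdHerm σ n (P *ᵥ x) (P *ᵥ y) = _
      simp only [P, ← mulVec_mulVec, permMatrix_mulVec, stdHerm_apply, mulVec_diagonal, map_mul]
      refine Eq.trans (Finset.sum_congr rfl fun k _ => ?_)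
        (Equiv.sum_comp (Equiv.swap i j) fun k => σ (x k) * y k)
      rcases eq_or_ne k i with rfl | hk
      · simp
      · simp [hk]
    have h1 := hW _ (mem_matrixSet (g := g) (mem_suG.mpr ⟨hgu, hPdet⟩)) _ hiW
    have e : P *ᵥ (Pi.single i 1 : Fin n → F) = Pi.single j 1 := by
      funext k
      simp only [P, ← mulVec_mulVec, permMatrix_mulVec, mulVec_diagonal, Function.comp_apply]
      rcases eq_or_ne k i with rfl | hki
      · simp [hji, hji.symm]
      · rcases eq_or_ne k j with rfl | hkj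
        · simp [hki]
        · simp [hki, hkj, Equiv.swap_apply_of_ne_of_ne hki hkj]
    change P *ᵥ _ ∈ W at h1
    rwa [e] at h1
  refine eq_top_iff.mpr fun x _ => ?_
  rw [pi_eq_sum_univ' x]
  exact W.sum_mem fun k _ => W.smul_mem _ (hall k)

theorem suG_absIrr (hF : Fintype.card F = q ^ 2) (hn : 3 ≤ n) :
    ActsAbsolutelyIrreducibly (matrixSet (suG n F q)) :=
  ⟨suG_irr hF hn, fun M hM => suG_commutant hF (by omega) M fun g hg => hM _ (mem_matrixSet hg)⟩

/-- `SU` as a subgroup of the general linear group. -/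
noncomputable def suGEquiv : Cfsg.SU n F q ≃* suG n F q :=
  MulEquiv.ofBijective
    ((SpecialLinearGroup.toGL.comp (Cfsg.SU n F q).subtype).codRestrict _ fun A =>
      mem_suG.mpr ⟨A.2, A.1.2⟩)
    ⟨fun A B h => Subtype.ext (Subtype.ext (congrArg (fun g : suG n F q => (g.1 : Mat n F)) h)),
      fun g => ⟨⟨⟨(g.1 : Mat n F), (mem_suG.mp g.2).2⟩, (mem_suG.mp g.2).1⟩,
        Subtype.ext (Units.ext rfl)⟩⟩

theorem suG_perfect_and_normal (hF : Fintype.card F = q ^ 2) (hn : 3 ≤ n) (hd : 3 ≤ q ∨ 4 ≤ n) :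
    ⁅suG n F q, suG n F q⁆ = suG n F q ∧ ∀ N ≤ suG n F q,
      (∀ h ∈ suG n F q, ∀ x ∈ N, h * x * h⁻¹ ∈ N) → N ≤ scalars (Fin n) F ∨ N = suG n F q := by
  obtain ⟨σ, hσ, hc⟩ := exists_frob hF
  have hd' : BigFixed σ ∧ 3 ≤ Module.finrank F (Fin n → F) ∨ 4 ≤ Module.finrank F (Fin n → F) := by
    rw [Module.finrank_fintype_fun_eq_card, Fintype.card_fin]
    rcases hd with h | h
    · exact .inl ⟨bigFixed_of_le hF hσ hc h, hn⟩
    · exact .inr h
  have hB := stdHerm_isHermitian hc n
  obtain ⟨hp, hN⟩ := perfect_dichotomy (hB.sIsom_perfect (stdHerm_sepRight n) hd')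
    (hB.sIsom_quotient_simple (stdHerm_sepRight n) hd') ((suEquiv hσ).symm.trans suGEquiv)
  constructor
  · refine le_antisymm (Subgroup.commutator_le_self _) fun g hg => ?_
    have h : (⟨g, hg⟩ : suG n F q) ∈ commutator (suG n F q) := hp ▸ Subgroup.mem_top _
    have h2 := Subgroup.mem_map_of_mem (suG n F q).subtype h
    rwa [commutator_def, Subgroup.map_commutator, ← MonoidHom.range_eq_map,
      Subgroup.range_subtype] at h2
  intro N hNle hNn
  haveI hnorm : (N.subgroupOf (suG n F q)).Normal := ⟨fun x hx h => hNn h h.2 x hx⟩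
  rcases hN _ hnorm with h | h
  · left
    intro x hx
    have hxc := h (show (⟨x, hNle hx⟩ : suG n F q) ∈ N.subgroupOf (suG n F q) from hx)
    obtain ⟨c, hcx⟩ := suG_commutant hF (by omega) (x : Mat n F) fun g hg =>
      congrArg (fun z : suG n F q => (z.1 : Mat n F))
        (Subgroup.mem_center_iff.mp hxc ⟨g, hg⟩).symm
    exact mem_scalars_of_eq (by omega) hcx
  · right
    exact le_antisymm hNle (Subgroup.subgroupOf_eq_top.mp h)

theorem suG_not_scalar (hF : Fintype.card F = q ^ 2) (hn : 3 ≤ n) :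
    ¬ suG n F q ≤ scalars (Fin n) F := fun hle =>
  not_absIrred_of_comm (by omega) (fun x hx y _ => scalars_comm (hle hx) y) (suG_absIrr hF hn)

theorem suG_card_ge (hF : Fintype.card F = q ^ 2) (hn : 1 ≤ n) :
    q ^ (n * (n - 1) / 2) ≤ Nat.card (suG n F q) := by
  have hq := two_le_of_card_sq hF
  have h := card_SU_mul hF hn
  rw [Nat.card_congr suGEquiv.toEquiv, card_GU hF n] at h
  obtain ⟨m, rfl⟩ : ∃ m, n = m + 1 := ⟨n - 1, by omega⟩
  rw [Finset.prod_range_succ', show (if Even 0 then q ^ (0 + 1) + 1 else q ^ (0 + 1) - 1) = q + 1 by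
    simp, ← mul_assoc, mul_comm (q + 1)] at h
  have h1 : 1 ≤ ∏ i ∈ Finset.range m,
      (if Even (i + 1) then q ^ (i + 1 + 1) + 1 else q ^ (i + 1 + 1) - 1) :=
    Finset.one_le_prod fun i _ => by
      have : 2 ≤ q ^ (i + 1 + 1) := le_trans hq (Nat.le_self_pow (by omega) q)
      split <;> omega
  rw [Nat.eq_of_mul_eq_mul_right (by omega) h]
  exact Nat.le_mul_of_pos_right _ h1

theorem suG_not_le_subspace (hF : Fintype.card F = q ^ 2) (hn : 3 ≤ n)
    {W : Submodule F (Fin n → F)} (h0 : W ≠ ⊥) (h1 : W ≠ ⊤) :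
    ¬ suG n F q ≤ subspaceStabilizer W := by
  intro hle
  rcases irr_iff.mp (suG_irr hF hn) W (by
    rintro _ ⟨g, hg, rfl⟩ v hv
    exact (hle hg v).mp hv) with h | h
  exacts [h0 h, h1 h]

theorem suG_not_le_decomp (hF : Fintype.card F = q ^ 2) (hn : 3 ≤ n) (hd : 3 ≤ q ∨ 4 ≤ n)
    (hsize : n.factorial * n < q ^ (n * (n - 1) / 2))
    {D : Fin n → Submodule F (Fin n → F)} (hD : IsMDecomposition 1 D) :
    ¬ suG n F q ≤ decompositionStabilizer D := by
  classical
  intro hle
  choose π hπ using fun g : suG n F q => hle g.2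
  have hDinj : Function.Injective D := by
    intro i j hij
    by_contra hne
    have h : D i ≤ ⨆ k, ⨆ _ : k ≠ i, D k :=
      hij ▸ le_iSup₂ (f := fun k (_ : k ≠ i) => D k) j (Ne.symm hne)
    have h' := eq_bot_iff.mpr ((le_inf le_rfl h).trans (disjoint_iff.mp (hD.indep i)).le)
    have := hD.finrank_eq i
    rw [h', finrank_bot] at this
    exact absurd this (by norm_num)
  let φ : suG n F q →* Equiv.Perm (Fin n) := MonoidHom.mk' π fun a b => by
    refine Equiv.ext fun i => hDinj ?_
    rw [← hπ, Equiv.Perm.mul_apply, ← hπ a, ← hπ b, Subgroup.coe_mul, Units.val_mul,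
      Matrix.toLin'_mul, Submodule.map_comp]
  set N := φ.ker.map (suG n F q).subtype with hN
  have hNn : ∀ h ∈ suG n F q, ∀ x ∈ N, h * x * h⁻¹ ∈ N := by
    rintro h hh _ ⟨x, hx, rfl⟩
    exact ⟨⟨h, hh⟩ * x * ⟨h, hh⟩⁻¹, (MonoidHom.normal_ker φ).conj_mem x hx _, rfl⟩
  rcases (suG_perfect_and_normal hF hn hd).2 N (Subgroup.map_subtype_le _) hNn with h | h
  · have hinj : Nat.card φ.ker ≤ n := by
      rw [Nat.card_congr (φ.ker.equivMapOfInjective (suG n F q).subtype
        (Subgroup.subtype_injective _)).toEquiv]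
      have hsc : ∀ x : N, ∃ c : F, c ^ n = 1 ∧ (x.1 : Mat n F) = c • 1 := fun x => by
        obtain ⟨c, hc⟩ := (mem_scalars_iff _).mp (h x.2)
        refine ⟨c, ?_, hc⟩
        have hd := (mem_suG.mp (Subgroup.map_subtype_le _ x.2)).2
        rwa [hc, Matrix.det_smul, Matrix.det_one, mul_one, Fintype.card_fin] at hd
      choose c hc hcx using hsc
      let f : N → (Polynomial.nthRoots n (1 : F)).toFinset := fun x =>
        ⟨c x, Multiset.mem_toFinset.mpr ((Polynomial.mem_nthRoots (by omega)).mpr (hc x))⟩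
      have hf : Function.Injective f := fun x y e => Subtype.ext (Units.ext (by
        rw [hcx x, hcx y, show c x = c y from congrArg Subtype.val e]))
      refine (Nat.card_le_card_of_injective f hf).trans ?_
      rw [Nat.card_eq_fintype_card, Fintype.card_coe]
      exact (Multiset.toFinset_card_le _).trans (Polynomial.card_nthRoots _ _)
    have h2 : Nat.card φ.range ≤ n.factorial := by
      refine (Nat.card_le_card_of_injective _ Subtype.val_injective).trans ?_
      rw [Nat.card_eq_fintype_card, Fintype.card_perm, Fintype.card_fin]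
    have h3 := suG_card_ge (n := n) hF (by omega)
    have h4 : Nat.card φ.range * Nat.card φ.ker = Nat.card (suG n F q) := by
      rw [← Subgroup.index_ker, mul_comm, Subgroup.card_mul_index]
    have := Nat.mul_le_mul h2 hinj
    omega
  · -- every line would be invariant
    let i₀ : Fin n := ⟨0, by omega⟩
    have hinv : ∀ g ∈ suG n F q, ∀ v ∈ D i₀, (g : Mat n F) *ᵥ v ∈ D i₀ := by
      intro g hg v hv
      obtain ⟨x, hx, rfl⟩ := (h.ge hg : g ∈ N)
      have e := hπ x i₀
      rw [show π x = 1 from hx, Equiv.Perm.one_apply] at e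
      rw [← e]
      exact ⟨v, hv, rfl⟩
    refine suG_not_le_subspace hF hn (W := D i₀) (fun e => ?_) (fun e => ?_)
      (le_subspaceStabilizer hinv)
    · have := hD.finrank_eq i₀
      rw [e, finrank_bot] at this
      omega
    · have := hD.finrank_eq i₀
      rw [e, finrank_top, Module.finrank_fintype_fun_eq_card, Fintype.card_fin] at this
      omega

theorem suG_not_le_field (hF : Fintype.card F = q ^ 2) (hn : 3 ≤ n) (hd : 3 ≤ q ∨ 4 ≤ n)
    {K : Subalgebra F (Mat n F)} (hK : IsFieldSubalgebra n K) :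
    ¬ suG n F q ≤ subalgebraNormalizer K := by
  classical
  intro hle
  haveI : Nontrivial (Mat n F) := ⟨⟨0, 1, fun h => by
    have := congrFun (congrFun h ⟨0, by omega⟩) ⟨0, by omega⟩
    simp at this⟩⟩
  letI : Field K := IsField.toField
    { exists_pair_ne := ⟨0, 1, fun h => zero_ne_one (α := Mat n F) (congrArg Subtype.val h)⟩
      mul_comm := fun a b => Subtype.ext (hK.comm a a.2 b b.2)
      mul_inv_cancel := fun {a} ha => by
        obtain ⟨b, hb, hab⟩ := hK.inv a a.2 fun h => ha (Subtype.ext h)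
        exact ⟨⟨b, hb⟩, Subtype.ext hab⟩ }
  haveI : Finite K := inferInstance
  letI : Fintype K := Fintype.ofFinite K
  obtain ⟨z, hz⟩ := IsCyclic.exists_generator (α := Kˣ)
  have hconj : ∀ g ∈ suG n F q, ∀ k ∈ K,
      (g : Mat n F) * k * ((g⁻¹ : GL (Fin n) F) : Mat n F) ∈ K := fun g hg k hk => (hle hg k).mp hk
  set Z := ((z : K) : Mat n F)
  have hmul : ∀ (g : GL (Fin n) F) (a b : Mat n F),
      (g : Mat n F) * (a * b) * ((g⁻¹ : GL (Fin n) F) : Mat n F) =
        ((g : Mat n F) * a * ((g⁻¹ : GL (Fin n) F) : Mat n F)) *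
          ((g : Mat n F) * b * ((g⁻¹ : GL (Fin n) F) : Mat n F)) := fun g a b => by
    simp [mul_assoc]
  have hgen : ∀ g ∈ suG n F q, ∃ a : ℕ,
      (g : Mat n F) * Z * ((g⁻¹ : GL (Fin n) F) : Mat n F) = Z ^ a := by
    intro g hg
    have hne : (⟨_, hconj g hg Z (z : K).2⟩ : K) ≠ 0 := fun h => by
      have h' : (g : Mat n F) * Z * ((g⁻¹ : GL (Fin n) F) : Mat n F) = 0 := congrArg Subtype.val h
      rw [Units.mul_left_eq_zero, Units.mul_right_eq_zero] at h'
      exact z.ne_zero (Subtype.ext h')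
    obtain ⟨a, ha⟩ := mem_powers_iff_mem_zpowers.mpr (hz (Units.mk0 _ hne))
    exact ⟨a, by simpa using (congrArg (fun u : Kˣ => ((u : K) : Mat n F)) ha).symm⟩
  have hfix : ∀ g ∈ ⁅suG n F q, suG n F q⁆, (g : Mat n F) * Z = Z * (g : Mat n F) := by
    suffices h : ⁅suG n F q, suG n F q⁆ ≤
        (Subgroup.centralizer {Units.map (K.val : K →ₐ[F] Mat n F).toMonoidHom z}) from
      fun g hg => congrArg Units.val (Subgroup.mem_centralizer_singleton_iff.mp (h hg))
    set W := Units.map (K.val : K →ₐ[F] Mat n F).toMonoidHom z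
    have key : ∀ g ∈ suG n F q, ∀ h ∈ suG n F q,
        (g * h) * W * (g * h)⁻¹ = (h * g) * W * (h * g)⁻¹ := by
      intro g hg h hh
      obtain ⟨a, ha⟩ := hgen g hg
      obtain ⟨b, hb⟩ := hgen h hh
      have ha' : g * W * g⁻¹ = W ^ a := Units.ext (by simpa [W] using ha)
      have hb' : h * W * h⁻¹ = W ^ b := Units.ext (by simpa [W] using hb)
      calc (g * h) * W * (g * h)⁻¹ = g * (h * W * h⁻¹) * g⁻¹ := by group
        _ = (g * W * g⁻¹) ^ b := by rw [hb', conj_pow]
        _ = W ^ (b * a) := by rw [ha', ← pow_mul, mul_comm]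
        _ = (h * W * h⁻¹) ^ a := by rw [hb', ← pow_mul]
        _ = h * (g * W * g⁻¹) * h⁻¹ := by rw [ha', conj_pow]
        _ = (h * g) * W * (h * g)⁻¹ := by group
    refine Subgroup.commutator_le.mpr fun g hg h hh => ?_
    rw [Subgroup.mem_centralizer_singleton_iff]
    refine mul_inv_eq_iff_eq_mul.mp ?_
    calc ⁅g, h⁆ * W * ⁅g, h⁆⁻¹
        = (g * h) * ((g⁻¹ * h⁻¹) * W * (g⁻¹ * h⁻¹)⁻¹) * (g * h)⁻¹ := by
          rw [commutatorElement_def]; group
      _ = (g * h) * ((h⁻¹ * g⁻¹) * W * (h⁻¹ * g⁻¹)⁻¹) * (g * h)⁻¹ := by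
          rw [key _ (inv_mem hg) _ (inv_mem hh)]
      _ = W := by group
  rw [(suG_perfect_and_normal hF hn hd).1] at hfix
  obtain ⟨c, hc⟩ := suG_commutant hF (by omega) Z fun g hg => (hfix g hg).symm
  have hbot : ∀ k : K, ∃ a : F, (k : Mat n F) = a • 1 := by
    intro k
    by_cases hk : k = 0
    · exact ⟨0, by simp [hk]⟩
    obtain ⟨a, ha⟩ := mem_powers_iff_mem_zpowers.mpr (hz (Units.mk0 k hk))
    refine ⟨c ^ a, ?_⟩
    have := (congrArg (fun u : Kˣ => ((u : K) : Mat n F)) ha).symm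
    simp only [Units.val_mk0, Units.val_pow_eq_pow_val, SubmonoidClass.coe_pow] at this
    rw [this, show ((z : K) : Mat n F) = c • 1 from hc, smul_pow, one_pow]
  have hle' : Subalgebra.toSubmodule K ≤ F ∙ (1 : Mat n F) := fun k hk => by
    obtain ⟨a, ha⟩ := hbot ⟨k, hk⟩
    exact Submodule.mem_span_singleton.mpr ⟨a, ha.symm⟩
  have h1 := Submodule.finrank_mono hle'
  rw [finrank_span_singleton one_ne_zero, Subalgebra.finrank_toSubmodule, hK.finrank_eq] at h1
  omega

theorem suG_not_le_normalizer (hF : Fintype.card F = q ^ 2) (hn : 3 ≤ n) (hd : 3 ≤ q ∨ 4 ≤ n)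
    {R : Subgroup (GL (Fin n) F)} (hR : RData R) (hRG : R ≤ suG n F q) :
    ¬ suG n F q ≤ subgroupNormalizer R := by
  intro hle
  have hns : ¬ R ≤ scalars (Fin n) F := fun h =>
    not_absIrred_of_comm (by omega) (fun x hx y _ => scalars_comm (h hx) y) hR.absIrr
  obtain ⟨hperf, hnor⟩ := suG_perfect_and_normal hF hn hd
  rcases hnor R hRG fun h hh x hx => (Subgroup.mem_normalizer_iff.mp (hle hh) x).mp hx with h | h
  · exact hns h
  · refine hns ?_
    rw [h, ← hperf, ← h]
    exact Subgroup.commutator_le.mpr fun x hx y hy => hR.comm x hx y hy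

theorem exists_norm_one_order (hF : Fintype.card F = q ^ 2) :
    ∃ ζ : Fˣ, orderOf ζ = q + 1 ∧ ∀ σ : F →+* F, (∀ x, σ x = x ^ q) → ζ ∈ (normHom σ).ker := by
  have hq := two_le_of_card_sq hF
  obtain ⟨z, hz⟩ := IsCyclic.exists_ofOrder_eq_natCard (α := Fˣ)
  have hsq : Nat.card Fˣ = (q + 1) * (q - 1) := by
    rw [Nat.card_units, Nat.card_eq_fintype_card, hF, ← Nat.sq_sub_sq, one_pow]
  refine ⟨z ^ (q - 1), ?_, fun σ hσ => ?_⟩
  · rw [orderOf_pow, hz, hsq, Nat.gcd_eq_right (Dvd.intro_left _ rfl),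
      Nat.mul_div_cancel _ (by omega)]
  · rw [MonoidHom.mem_ker, Units.ext_iff, normHom_apply, hσ, ← pow_succ', ← Units.val_pow_eq_pow_val,
      ← pow_mul, mul_comm, ← hsq, ← hz, pow_orderOf_eq_one]

theorem fixed_by_proper (hF : Fintype.card F = q ^ 2) {ζ : Fˣ} (hζ : orderOf ζ = q + 1)
    {F₀ : Subfield F} (hmem : (ζ : F) ∈ F₀) : F₀ = ⊤ := by
  classical
  have hq := two_le_of_card_sq hF
  haveI : Fintype F₀ := Fintype.ofFinite F₀
  obtain ⟨p, hp⟩ := CharP.exists F
  haveI : CharP F₀ p := inferInstance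
  obtain ⟨d, hpp, hd⟩ := FiniteField.card F₀ p
  obtain ⟨e, -, he⟩ := FiniteField.card F p
  obtain ⟨k, hke, hk⟩ := (Nat.dvd_prime_pow hpp).1
    (show q ∣ p ^ (e : ℕ) by rw [← he, hF]; exact dvd_pow_self q two_ne_zero)
  have hu : ζ ^ (p ^ (d : ℕ) - 1) = 1 := by
    have h := FiniteField.pow_card_sub_one_eq_one (⟨ζ, hmem⟩ : F₀) fun h0 =>
      ζ.ne_zero (congrArg Subtype.val h0)
    rw [hd] at h
    refine Units.ext ?_
    have := congrArg Subtype.val h
    simpa using this
  have hdvd : q + 1 ∣ p ^ (d : ℕ) - 1 := hζ ▸ orderOf_dvd_of_pow_eq_one hu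
  have h1d := Nat.one_lt_pow d.pos.ne' hpp.one_lt
  have hle := Nat.le_of_dvd (by omega) hdvd
  have hkd : k < d := (Nat.pow_lt_pow_iff_right hpp.one_lt).mp (by omega)
  -- `d ≥ 2 k`
  have h2k : 2 * k ≤ d := by
    by_contra hlt
    push Not at hlt
    obtain ⟨j, hj⟩ : ∃ j, (d : ℕ) = k + j := ⟨d - k, by omega⟩
    have hj0 : 0 < j := by omega
    have hjk : j < k := by omega
    have hmod : ((p : ZMod (q + 1)) ^ (d : ℕ)) = 1 := by
      have := (ZMod.natCast_eq_zero_iff _ (q + 1)).mpr hdvd |>.symm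
      rw [Nat.cast_sub (by omega), Nat.cast_pow, Nat.cast_one] at this
      exact sub_eq_zero.mp this.symm
    have hqm : (p : ZMod (q + 1)) ^ k = -1 := by
      have h0 : ((q + 1 : ℕ) : ZMod (q + 1)) = 0 := ZMod.natCast_self _
      rw [Nat.cast_add, Nat.cast_one] at h0
      have h1 : (p : ZMod (q + 1)) ^ k = (q : ZMod (q + 1)) := by rw [← Nat.cast_pow, ← hk]
      rw [h1]
      exact eq_neg_of_add_eq_zero_left h0
    rw [hj, pow_add, hqm] at hmod
    have h0 : ((p ^ j + 1 : ℕ) : ZMod (q + 1)) = 0 := by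
      push_cast
      linear_combination -hmod
    have := Nat.le_of_dvd (by omega) ((ZMod.natCast_eq_zero_iff _ _).mp h0)
    have := Nat.pow_lt_pow_right hpp.one_lt hjk
    omega
  refine SetLike.ext' (Set.eq_of_subset_of_ncard_le (Set.subset_univ _) ?_ (Set.toFinite _))
  rw [Subfield.coe_top, Set.ncard_univ, ← Nat.card_coe_set_eq, Nat.card_eq_fintype_card (α := F), hF]
  change q ^ 2 ≤ Nat.card F₀
  rw [Nat.card_eq_fintype_card, hd, hk, ← pow_mul]
  exact Nat.pow_le_pow_right hpp.pos (by omega)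

theorem suG_not_le_subfield (hF : Fintype.card F = q ^ 2) (hn : 3 ≤ n) (hd : 3 ≤ q ∨ 4 ≤ n)
    {F₀ : Subfield F} (hF₀ : F₀ ≠ ⊤) (P : GL (Fin n) F) :
    ¬ suG n F q ≤ subfieldSubgroup F₀ P := by
  classical
  intro hle
  obtain ⟨σ, hσ, hc⟩ := exists_frob hF
  have hq := two_le_of_card_sq hF
  -- the group is rational over `F₀`
  have hrat : ∀ g ∈ suG n F q, RatAt F₀ P⁻¹ g := by
    have hdec : ∀ g ∈ suG n F q, ∃ (t : GL (Fin n) F₀) (z : GL (Fin n) F), z ∈ scalars (Fin n) F ∧
        P⁻¹ * g * P = Matrix.GeneralLinearGroup.map F₀.subtype t * z := by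
      intro g hg
      obtain ⟨x, hx, rfl⟩ := Subgroup.mem_map.mp (hle hg)
      obtain ⟨_, ⟨t, rfl⟩, z, hz, rfl⟩ := Subgroup.mem_sup_of_normal_right.mp hx
      refine ⟨t, z, hz, ?_⟩
      change P⁻¹ * (P * (_ * z) * P⁻¹) * P = _
      group
    intro g hg
    rw [← (suG_perfect_and_normal hF hn hd).1] at hg
    suffices h : ⁅suG n F q, suG n F q⁆ ≤ ratSubgroup F₀ P⁻¹ from h hg
    refine Subgroup.commutator_le.mpr fun a ha b hb => ?_
    obtain ⟨t, z, hz, ht⟩ := hdec a ha
    obtain ⟨s, w, hw, hs⟩ := hdec b hb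
    have e : P⁻¹ * ⁅a, b⁆ * P⁻¹⁻¹ = Matrix.GeneralLinearGroup.map F₀.subtype ⁅t, s⁆ := by
      rw [map_commutatorElement, inv_inv]
      calc P⁻¹ * ⁅a, b⁆ * P = ⁅P⁻¹ * a * P, P⁻¹ * b * P⁆ := by
            simp only [commutatorElement_def]; group
        _ = _ := by
          rw [ht, hs, commutatorElement_def, commutatorElement_def, _root_.mul_inv_rev, _root_.mul_inv_rev]
          set T := Matrix.GeneralLinearGroup.map F₀.subtype t
          set S := Matrix.GeneralLinearGroup.map F₀.subtype s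
          calc T * z * (S * w) * (z⁻¹ * T⁻¹) * (w⁻¹ * S⁻¹)
              = T * (z * (S * w)) * z⁻¹ * T⁻¹ * w⁻¹ * S⁻¹ := by group
            _ = T * S * (w * T⁻¹) * w⁻¹ * S⁻¹ := by rw [scalars_comm hz]; group
            _ = _ := by rw [scalars_comm hw]; group
    intro i j
    rw [e]
    exact (((⁅t, s⁆ : GL (Fin n) F₀) : Matrix (Fin n) (Fin n) F₀) i j).2
  obtain ⟨τ, hτ⟩ := exists_frob_fixed F₀
  obtain ⟨ζ, hζ, hζK⟩ := exists_norm_one_order hF
  have hζK := hζK σ hσ
  refine hF₀ (fixed_by_proper hF hζ ((hτ _).mp ?_))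
  let i₀ : Fin n := ⟨0, by omega⟩
  let i₁ : Fin n := ⟨1, by omega⟩
  let i₂ : Fin n := ⟨2, by omega⟩
  let d : Fin n → Fˣ := fun k =>
    if k = i₀ then ζ else if k = i₁ then ζ else if k = i₂ then (ζ ^ 2)⁻¹ else 1
  have h01 : i₀ ≠ i₁ := by simp [i₀, i₁]
  have h02 : i₀ ≠ i₂ := by simp [i₀, i₂]
  have h12 : i₁ ≠ i₂ := by simp [i₁, i₂]
  have hd1 : ∀ k, d k ∈ (normHom σ).ker := fun k => by
    simp only [d]
    split_ifs
    exacts [hζK, hζK, inv_mem (pow_mem hζK 2), one_mem _]
  have hdet : (diagGL d : Mat n F).det = 1 := by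
    have h := congrArg Units.val (diagGL_det d)
    rw [Matrix.GeneralLinearGroup.val_det_apply] at h
    have hprod : ∏ k, d k = 1 := by
      rw [← Finset.prod_subset (Finset.subset_univ ({i₀, i₁, i₂} : Finset (Fin n))) fun k _ hk => by
          simp only [Finset.mem_insert, Finset.mem_singleton, not_or] at hk
          simp [d, hk.1, hk.2.1, hk.2.2]]
      rw [Finset.prod_insert (by simp [h01, h02]), Finset.prod_insert (by simp [h12]),
        Finset.prod_singleton]
      simp [d, h01.symm, h02.symm, h12.symm]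
      rw [← mul_assoc, ← pow_two, mul_inv_cancel]
    rw [h, hprod, Units.val_one]
  have hmem : diagGL d ∈ suG n F q := mem_suG.mpr ⟨diagGL_mem_GU hσ d hd1, hdet⟩
  -- the eigenvalues are permuted by `τ`
  have hroots : (Finset.univ.val.map fun k => τ (d k : F)) = Finset.univ.val.map fun k => (d k : F) := by
    set g := diagGL d
    set X := P⁻¹ * g * P⁻¹⁻¹ with hX
    have hXτ : (X : Mat n F).map τ = X := by
      ext i j
      exact (hτ _).mpr (hrat g hmem i j)
    have hchar : (X : Mat n F).charpoly = ∏ k, (Polynomial.X - Polynomial.C (d k : F)) := by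
      rw [hX, inv_inv, Units.val_mul, Units.val_mul, Matrix.coe_units_inv, Matrix.charpoly_units_conj',
        show (g : Mat n F) = Matrix.diagonal fun k => (d k : F) from rfl, Matrix.charpoly_diagonal]
    have h := congrArg Matrix.charpoly hXτ
    rw [Matrix.charpoly_map, hchar, Polynomial.map_prod] at h
    simp only [Polynomial.map_sub, Polynomial.map_X, Polynomial.map_C] at h
    have h' := congrArg Polynomial.roots h
    simp only [← Finset.prod_map_val, Finset.prod_eq_multiset_prod] at h'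
    have e1 : ∀ f : Fin n → F, (Finset.univ.val.map fun k => Polynomial.X - Polynomial.C (f k)) =
        (Finset.univ.val.map f).map fun a => Polynomial.X - Polynomial.C a := fun f => by
      rw [Multiset.map_map]; rfl
    rw [e1 fun k => τ (d k : F), e1 fun k => (d k : F), Polynomial.roots_multiset_prod_X_sub_C,
      Polynomial.roots_multiset_prod_X_sub_C] at h'
    exact h'
  have hζ1 : (ζ : F) ≠ 1 := fun h => by
    rw [show ζ = 1 from Units.ext h, orderOf_one] at hζ
    omega
  have hcnt : 2 ≤ (Finset.univ.filter fun k => τ (ζ : F) = (d k : F)).card := by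
    have e : Multiset.count (τ (ζ : F)) (Finset.univ.val.map fun k => (d k : F)) =
        Multiset.count (τ (ζ : F)) (Finset.univ.val.map fun k => τ (d k : F)) := by rw [hroots]
    rw [Multiset.count_map, Multiset.count_map, ← Finset.filter_val, ← Finset.filter_val,
      Finset.card_val, Finset.card_val] at e
    rw [e]
    refine le_trans (le_of_eq ?_) (Finset.card_le_card
      (show ({i₀, i₁} : Finset (Fin n)) ⊆ _ from fun k hk => ?_))
    · rw [Finset.card_pair h01]
    · simp only [Finset.mem_insert, Finset.mem_singleton] at hk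
      rcases hk with rfl | rfl <;> simp [d, h01.symm]
  obtain ⟨k, hk⟩ := Finset.card_pos.mp (lt_of_lt_of_le two_pos hcnt)
  have hk' : τ (ζ : F) = (d k : F) := (Finset.mem_filter.mp hk).2
  by_cases hk0 : k = i₀
  · simpa [d, hk0] using hk'
  by_cases hk1 : k = i₁
  · simpa [d, hk1] using hk'
  by_cases hk2 : k = i₂
  · subst hk2
    by_contra hne
    have hsub : (Finset.univ.filter fun j => τ (ζ : F) = (d j : F)) ⊆ {i₂} := by
      intro j hj
      rw [Finset.mem_singleton]
      have hj' := (Finset.mem_filter.mp hj).2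
      by_contra hj2
      by_cases hj0 : j = i₀
      · exact hne (by simpa [d, hj0] using hj')
      by_cases hj1 : j = i₁
      · exact hne (by simpa [d, hj1] using hj')
      simp only [d, if_neg hj0, if_neg hj1, if_neg hj2, Units.val_one] at hj'
      exact hζ1 (τ.injective (hj'.trans (map_one τ).symm))
    have := Finset.card_le_card hsub
    simp at this
    omega
  · simp only [d, if_neg hk0, if_neg hk1, if_neg hk2, Units.val_one] at hk'
    exact absurd (τ.injective (hk'.trans (map_one τ).symm)) hζ1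

end CfsgLib.Classical.AschPrime
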