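import Cfsg.Agent.Lib.Classical.AschPrime.UnitaryDescent
import Cfsg.Agent.Lib.Classical.AschPrime.UnitaryGroup

/-!
# Maximal subgroups of the special unitary group in odd prime dimension
-/

set_option autoImplicit false

namespace CfsgLib.Classical.AschPrime

open Matrix Cfsg Cfsg.Geo
open scoped MatrixGroups commutatorElement

variable {n : ℕ} {F : Type*} [Field F] {q : ℕ} {σ : F →+* F}

/-- Lines carrying distinct characters of a unitary normal subgroup are orthogonal. -/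
theorem decomp_orthogonal (hσ : ∀ x, σ x = x ^ q) (hc : IsConjugation σ) (hodd : Odd n)
    {H N : Subgroup (GL (Fin n) F)} (hH : H ≤ Cfsg.GU n F q) (hN : N ≤ H)
    (hirr : ActsIrreducibly (matrixSet H))
    {D : Fin n → Submodule F (Fin n → F)} (hD : IsMDecomposition 1 D)
    (hle : H ≤ decompositionStabilizer D) {χ : Fin n → N → F} (hχ : Function.Injective χ)
    (heig : ∀ (x : N) i, ∀ v ∈ D i, (x.1 : Mat n F) *ᵥ v = χ i x • v) :
    IsNondegenerateMDecomposition (Cfsg.hermForm n F q) 1 D := by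
  classical
  have hs := herm_sesq (n := n) hσ
  let R : Fin n → Fin n → Prop := fun i j => ∃ u ∈ D i, ∃ v ∈ D j, Cfsg.hermForm n F q u v ≠ 0
  have hR : ∀ i j, R i j → ∀ x : N, χ i x * σ (χ j x) = 1 := by
    rintro i j ⟨u, hu, v, hv, hne⟩ x
    have h := hH (hN x.2) u v
    change Cfsg.hermForm n F q ((x.1 : Mat n F) *ᵥ u) ((x.1 : Mat n F) *ᵥ v) = Cfsg.hermForm n F q u v at h
    rw [heig x i u hu, heig x j v hv, hs.smul_left, hs.smul_right, ← mul_assoc] at h
    exact mul_right_cancel₀ hne (h.trans (one_mul _).symm)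
  have huniq : ∀ i j k, R i j → R i k → j = k := by
    intro i j k hj hk
    refine hχ (funext fun x => σ.injective ?_)
    have h := (hR i j hj x).trans (hR i k hk x).symm
    refine mul_left_cancel₀ (fun e => ?_) h
    have := hR i j hj x
    rw [e, zero_mul] at this
    exact zero_ne_one this
  have hline : ∀ i, ∃ v ∈ D i, v ≠ 0 := fun i =>
    Submodule.exists_mem_ne_zero_of_ne_bot fun e => by
      have := hD.finrank_eq i
      rw [e, finrank_bot] at this
      exact absurd this (by norm_num)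
  have hex : ∀ i, ∃ j, R i j := by
    intro i
    obtain ⟨u, hu, hu0⟩ := hline i
    obtain ⟨x, hx⟩ := (herm_nondeg hσ u hu0).2
    by_contra hno
    push Not at hno
    refine hx ?_
    clear hx
    have hxm : x ∈ iSup D := hD.iSup_eq_top ▸ Submodule.mem_top
    induction hxm using Submodule.iSup_induction' with
    | mem j v hv =>
      by_contra h
      exact hno j ⟨u, hu, v, hv, h⟩
    | zero => simp [Cfsg.hermForm, ← hσ]
    | add a b _ _ iha ihb => rw [hs.add_right, iha, ihb, add_zero]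
  choose π hπ using hex
  have hRsymm : ∀ i j, R i j → R j i := by
    rintro i j ⟨u, hu, v, hv, hne⟩
    exact ⟨v, hv, u, hu, fun e => hne (herm_eq_zero_comm hσ hc e)⟩
  have hinv : ∀ i, π (π i) = i := fun i => huniq _ _ _ (hπ _) (hRsymm _ _ (hπ i))
  let P : Equiv.Perm (Fin n) := Function.Involutive.toPerm π hinv
  haveI : Fact (Nat.Prime 2) := ⟨Nat.prime_two⟩
  obtain ⟨i₀, hi₀⟩ := Equiv.Perm.exists_fixed_point_of_prime (p := 2) (n := 1) (σ := P)
    (by rw [Fintype.card_fin]; exact hodd.not_two_dvd_nat)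
    (by rw [pow_one, pow_two]; exact Equiv.ext fun i => hinv i)
  -- the fixed lines span an invariant subspace
  let W : Submodule F (Fin n → F) := ⨆ i : {i // π i = i}, D i.1
  have hW := irr_iff.mp hirr W (by
    rintro _ ⟨h, hh, rfl⟩ v hv
    obtain ⟨τ, hτ⟩ := hle hh
    induction hv using Submodule.iSup_induction' with
    | mem i v hv =>
      have hfix : π (τ i.1) = τ i.1 := by
        refine huniq _ _ _ (hπ _) ?_
        obtain ⟨a, ha, b, hb, hab⟩ := hπ i.1
        rw [i.2] at hb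
        refine ⟨(h : Mat n F) *ᵥ a, ?_, (h : Mat n F) *ᵥ b, ?_, ?_⟩
        · rw [← hτ]; exact ⟨a, ha, by simp⟩
        · rw [← hτ]; exact ⟨b, hb, by simp⟩
        · intro e
          exact hab ((hH hh a b).symm.trans e)
      refine Submodule.mem_iSup_of_mem ⟨τ i.1, hfix⟩ ?_
      change _ ∈ D (τ i.1)
      rw [← hτ]
      exact ⟨v, hv, by simp⟩
    | zero => simp
    | add a b _ _ iha ihb => rw [Matrix.mulVec_add]; exact add_mem iha ihb)
  have htop : W = ⊤ := hW.resolve_left fun e => by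
    obtain ⟨v, hv, hv0⟩ := hline i₀
    have : v ∈ W := Submodule.mem_iSup_of_mem ⟨i₀, hi₀⟩ hv
    rw [e, Submodule.mem_bot] at this
    exact hv0 this
  have hall : ∀ k, π k = k := by
    intro k
    by_contra hk
    have hle' : W ≤ ⨆ j, ⨆ _ : j ≠ k, D j :=
      iSup_le fun i => le_iSup₂ (f := fun j (_ : j ≠ k) => D j) i.1 fun e => hk (e ▸ i.2)
    have h := eq_bot_iff.mpr ((le_inf le_rfl (le_top.trans (htop.ge.trans hle'))).trans
      (disjoint_iff.mp (hD.indep k)).le)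
    have := hD.finrank_eq k
    rw [h, finrank_bot] at this
    exact absurd this (by norm_num)
  refine ⟨hD, fun i w hw hw0 => ?_, fun i j hij u hu v hv => ?_⟩
  · obtain ⟨a, ha, b, hb, hab⟩ := hπ i
    rw [hall] at hb
    have hmul : ∀ x ∈ D i, ∃ c : F, x = c • w := fun x hx => by
      obtain ⟨c, hc'⟩ := exists_smul_eq_of_finrank_eq_one (hD.finrank_eq i)
        (x := (⟨w, hw⟩ : D i)) (fun e => hw0 (congrArg Subtype.val e)) ⟨x, hx⟩
      exact ⟨c, (congrArg Subtype.val hc').symm⟩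
    have hww : Cfsg.hermForm n F q w w ≠ 0 := fun e => by
      obtain ⟨c, rfl⟩ := hmul a ha
      obtain ⟨d, rfl⟩ := hmul b hb
      exact hab (by rw [hs.smul_left, hs.smul_right, e, mul_zero, mul_zero])
    exact ⟨⟨w, hw, hww⟩, ⟨w, hw, hww⟩⟩
  · by_contra hne
    exact hij ((hall i).symm.trans (huniq _ _ _ (hπ i) ⟨u, hu, v, hv, hne⟩))

/-- The possibilities for a subgroup of `SU(n,q)` in odd prime dimension `n`. -/
def UOutcome [Fintype F] (q : ℕ) (H : Subgroup (GL (Fin n) F)) : Prop :=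
  (∃ W : Submodule F (Fin n → F), W ≠ ⊥ ∧ W ≠ ⊤ ∧
      IsTotallySingularFor (Cfsg.hermForm n F q) W ∧ H ≤ subspaceStabilizer W) ∨
  (∃ W : Submodule F (Fin n → F), W ≠ ⊥ ∧ W ≠ ⊤ ∧ IsNondegenerateOn (Cfsg.hermForm n F q) W ∧
      2 * Module.finrank F W < n ∧ H ≤ subspaceStabilizer W) ∨
  (∃ D : Fin n → Submodule F (Fin n → F),
      IsNondegenerateMDecomposition (Cfsg.hermForm n F q) 1 D ∧ H ≤ decompositionStabilizer D) ∨
  (∃ K : Subalgebra F (Mat n F), IsFieldSubalgebra n K ∧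
      IsAdjointClosedFor (Cfsg.hermForm n F q) K ∧ H ≤ subalgebraNormalizer K) ∨
  (∃ (F₀ : Subfield F) (l : ℕ) (P : GL (Fin n) F), l.Prime ∧ (Odd l ∨ (l = 2 ∧ Odd q)) ∧
      Fintype.card F = Nat.card F₀ ^ l ∧ IsFormRationalStructure (Cfsg.hermForm n F q) F₀ 1 P ∧
      H ≤ subfieldSubgroup F₀ P) ∨
  (∃ (p k : ℕ) (R : Subgroup (GL (Fin n) F)), p.Prime ∧ CharP F p ∧ q = p ^ k ∧ 0 < k ∧
      2 * k ∣ n - 1 ∧ n ∣ p ^ (2 * k) - 1 ∧
      (∀ d : ℕ, 0 < d → d < 2 * k → ¬ n ∣ p ^ d - 1) ∧ RData R ∧ IsSymplecticTypeGroup n R ∧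
      R ≤ H ∧ H ≤ subgroupNormalizer R) ∨
  InUnitaryResidualClass H

theorem unitary_extraspecial [Fintype F] (hF : Fintype.card F = q ^ 2) (hn : n.Prime)
    (hodd : Odd n) {H R : Subgroup (GL (Fin n) F)} (hHG : H ≤ Cfsg.GU n F q)
    (hH : AllNormalAbsIrred H) (hRH : R ≤ H) (hRn : ∀ h ∈ H, ∀ x ∈ R, h * x * h⁻¹ ∈ R)
    (hR : RData R) : UOutcome q H := by
  classical
  obtain ⟨σ, hσ, hc⟩ := exists_frob hF
  obtain ⟨μ, B, S, hμ, hgen, hmono⟩ := hR.exists_monomial hn
  by_cases htop : Subfield.closure {μ} = ⊤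
  swap
  · obtain ⟨F₁, l, hle, -, hl, hcard⟩ := exists_prime_index _ htop
    have hRrat : R ≤ ratSubgroup F₁ B := by
      rw [hgen, Subgroup.closure_le]
      intro s hs i j
      obtain ⟨π, c, hc', hsc⟩ := hmono s hs
      rw [hsc]
      split
      · obtain ⟨k, hk⟩ := hc' j
        rw [hk]
        exact F₁.pow_mem (hle (Subfield.subset_closure rfl)) k
      · exact F₁.zero_mem
    obtain ⟨hlq, P, hP, hHP⟩ := descend hF hσ hc hn.two_le hodd hR.absIrr (hRH.trans hHG) hRn hl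
      hcard fun s hs => hRrat hs
    exact .inr (.inr (.inr (.inr (.inl ⟨F₁, l, P, hl, hlq, hcard, hP, hHP⟩))))
  obtain ⟨p, hp⟩ := CharP.exists F
  obtain ⟨e, hpp, hcard⟩ := FiniteField.card F p
  have hndvd : n ∣ p ^ (e : ℕ) - 1 := by
    rw [← hcard, hμ.eq_orderOf]
    exact orderOf_dvd_of_pow_eq_one (FiniteField.pow_card_sub_one_eq_one μ (hμ.ne_zero hn.ne_zero))
  have hmin : ∀ d : ℕ, 0 < d → d < e → ¬ n ∣ p ^ d - 1 := by
    intro d hd hde hdvd
    haveI : Fact p.Prime := ⟨hpp⟩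
    have hfix : ∀ x : F, x ^ (p ^ d) = x := by
      intro x
      have hloc : Subfield.closure {μ} ≤
          RingHom.eqLocusField (iterateFrobenius F p d) (RingHom.id F) := by
        rw [Subfield.closure_le]
        intro y hy
        rw [Set.mem_singleton_iff] at hy
        subst hy
        show iterateFrobenius F p d y = y
        rw [iterateFrobenius_def]
        obtain ⟨k, hk⟩ := hdvd
        have : p ^ d = n * k + 1 := by
          have := Nat.one_le_pow d p hpp.pos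
          omega
        rw [this, pow_succ, pow_mul, hμ.pow_eq_one, one_pow, one_mul]
      have hx : x ∈ RingHom.eqLocusField (iterateFrobenius F p d) (RingHom.id F) :=
        hloc (htop ▸ Subfield.mem_top x)
      have h1 : iterateFrobenius F p d x = x := hx
      rwa [iterateFrobenius_def] at h1
    obtain ⟨u, hu⟩ := IsCyclic.exists_ofOrder_eq_natCard (α := Fˣ)
    have h1 : u ^ (p ^ d - 1) = 1 := by
      have h := hfix (u : F)
      rw [← Nat.sub_add_cancel (Nat.one_le_pow d p hpp.pos), pow_succ] at h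
      refine Units.ext ?_
      rw [Units.val_pow_eq_pow_val, Units.val_one]
      exact mul_right_cancel₀ u.ne_zero (h.trans (one_mul _).symm)
    have h2 := orderOf_dvd_of_pow_eq_one h1
    rw [hu, Nat.card_units, Nat.card_eq_fintype_card, hcard] at h2
    have h3 : 0 < p ^ d - 1 := by
      have := Nat.one_lt_pow hd.ne' hpp.one_lt
      omega
    have := Nat.le_of_dvd h3 h2
    have := Nat.pow_lt_pow_right hpp.one_lt hde
    omega
  obtain ⟨k, -, hk⟩ := (Nat.dvd_prime_pow hpp).1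
    (show q ∣ p ^ (e : ℕ) by rw [← hcard, hF]; exact dvd_pow_self q two_ne_zero)
  have he : (e : ℕ) = 2 * k := by
    refine Nat.pow_right_injective hpp.two_le ?_
    change p ^ (e : ℕ) = p ^ (2 * k)
    rw [← hcard, hF, hk, ← pow_mul, mul_comm]
  have hk0 : 0 < k := by have := e.pos; omega
  refine .inr (.inr (.inr (.inr (.inr (.inl ⟨p, k, R, hpp, hp, hk, hk0, ?_, he ▸ hndvd, he ▸ hmin,
    hR, hR.symplecticType hn hodd hH hRH hRn, hRH, fun g hg =>
      Subgroup.mem_normalizer_iff.mpr fun x => ⟨hRn g hg x, fun hx => ?_⟩⟩)))))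
  · rw [← he]
    by_contra hne
    have hlt : Nat.gcd (e : ℕ) (n - 1) < e := lt_of_le_of_ne (Nat.gcd_le_left _ e.pos)
      fun h => hne (h ▸ Nat.gcd_dvd_right _ _)
    refine hmin _ (Nat.gcd_pos_of_pos_left _ e.pos) hlt ?_
    rw [← Nat.pow_sub_one_gcd_pow_sub_one]
    refine Nat.dvd_gcd hndvd ?_
    have hnp : n ≠ p := by
      rintro rfl
      exact hR.natCast_ne_zero hn (CharP.cast_eq_zero F n)
    have hcop : p.Coprime n := (Nat.coprime_primes hpp hn).mpr hnp.symm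
    have := Nat.ModEq.pow_totient hcop
    rw [Nat.totient_prime hn] at this
    exact (Nat.modEq_iff_dvd' (Nat.one_le_pow _ _ hpp.pos)).mp this.symm
  · simpa [mul_assoc] using hRn g⁻¹ (H.inv_mem hg) _ hx

theorem unitary_simple [Fintype F] (hF : Fintype.card F = q ^ 2) (hn : n.Prime) (hodd : Odd n)
    {H M : Subgroup (GL (Fin n) F)} (hHG : H ≤ Cfsg.GU n F q) (hH : AllNormalAbsIrred H)
    (hM : M ≤ H) (hMn : ∀ h ∈ H, ∀ x ∈ M, h * x * h⁻¹ ∈ M) (hM0 : ¬ M ≤ scalars (Fin n) F)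
    (hmin : ∀ L ≤ M, (∀ h ∈ H, ∀ x ∈ L, h * x * h⁻¹ ∈ L) → ¬ L ≤ scalars (Fin n) F → L = M)
    (hperf : ⁅M, M⁆ = M) : UOutcome q H := by
  obtain ⟨σ, hσ, hc⟩ := exists_frob hF
  obtain ⟨hsimp, hnab, hcent, habs⟩ := perfect_core hn hH hM hMn hM0 hmin hperf
  by_cases hsub : ∃ F₀ : Subfield F, F₀ ≠ ⊤ ∧ RealisableOver F₀ (matrixSet M)
  · obtain ⟨F₀, hF₀, hreal⟩ := hsub
    obtain ⟨B, hB⟩ := realisableOver_iff.mp hreal
    obtain ⟨F₁, l, hle, -, hl, hcard⟩ := exists_prime_index _ hF₀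
    obtain ⟨hlq, P, hP, hHP⟩ := descend hF hσ hc hn.two_le hodd habs (hM.trans hHG) hMn hl hcard
      fun s hs => (hB s hs).mono hle
    exact .inr (.inr (.inr (.inr (.inl ⟨F₁, l, P, hl, hlq, hcard, hP, hHP⟩))))
  refine .inr (.inr (.inr (.inr (.inr (.inr ⟨M,
    ⟨hM, hMn, hperf, hsimp, hnab, hcent, habs, fun F₀ h h' => hsub ⟨F₀, h, h'⟩⟩, ?_, ?_⟩)))))
  · rintro ⟨Q, hQ, hfix⟩
    exact hsub (realisable_of_bilinear hσ hc hn.pos habs (hM.trans hHG) hQ.polar_bilinear
      hQ.nondegenerate fun s hs u v => by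
        simp only [QuadraticMap.polar, ← Matrix.mulVec_add, hfix s hs])
  · rintro ⟨f, hf, -⟩
    exact not_symplectic hodd hf

/-- Aschbacher's theorem for the unitary group in odd prime dimension. -/
theorem unitary_outcome [Fintype F] (hF : Fintype.card F = q ^ 2) (hn : n.Prime) (hn3 : 3 ≤ n)
    (H : Subgroup (GL (Fin n) F)) (hHG : H ≤ suG n F q) : UOutcome q H := by
  classical
  obtain ⟨σ, hσ, hc⟩ := exists_frob hF
  have hodd : Odd n := hn.odd_of_ne_two (by omega)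
  have hgu : H ≤ Cfsg.GU n F q := hHG.trans inf_le_left
  by_cases hirr : ActsIrreducibly (matrixSet H)
  swap
  · rw [irr_iff] at hirr
    push Not at hirr
    obtain ⟨W, hW, h0, h1⟩ := hirr
    rcases reducible_cases hσ hc hodd hgu h0 h1
      (fun h hh v hv => hW _ (mem_matrixSet hh) v hv) with h | h
    · exact .inl h
    · exact .inr (.inl h)
  by_cases hall : AllNormalAbsIrred H
  swap
  · simp only [AllNormalAbsIrred, not_forall] at hall
    obtain ⟨N, hN, hnorm, hN0, hnabs⟩ := hall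
    rcases clifford hn hN hnorm hirr with hi | hs | ⟨D, hD, hle, -, χ, hχ, heig⟩
    · exact .inr (.inr (.inr (.inl ⟨_, commutant_field hn hi fun h => hnabs ⟨hi, h⟩,
        adjointClosed_commutant hσ hc (hN.trans hgu), le_normalizer_commutant hnorm⟩)))
    · exact absurd hs hN0
    · exact .inr (.inr (.inl ⟨D, decomp_orthogonal hσ hc hodd hgu hN hirr hD hle hχ heig, hle⟩))
  have hH0 : ¬ H ≤ scalars (Fin n) F := fun hle => by
    refine not_absIrred_of_comm hn.two_le (fun x hx y _ => scalars_comm (hle hx) y) ⟨hirr, ?_⟩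
    intro M hM
    by_contra hne
    have hfield := commutant_field hn hirr fun h => hne (h M hM)
    have hmem : ∀ X : Mat n F, X ∈ Subalgebra.centralizer F (matrixSet H) := fun X => by
      rw [Subalgebra.mem_centralizer_iff]
      rintro _ ⟨x, hx, rfl⟩
      obtain ⟨c, hc⟩ := (mem_scalars_iff x).mp (hle hx)
      simp [hc]
    have hdim := hfield.finrank_eq
    rw [show Subalgebra.centralizer F (matrixSet H) = ⊤ from eq_top_iff.mpr fun X _ => hmem X,
      Subalgebra.topEquiv.toLinearEquiv.finrank_eq, Module.finrank_matrix, Module.finrank_self,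
      Fintype.card_fin] at hdim
    nlinarith [hn.two_le]
  have hex : ∃ d, ∃ L ≤ H, (∀ h ∈ H, ∀ x ∈ L, h * x * h⁻¹ ∈ L) ∧
      ¬ L ≤ scalars (Fin n) F ∧ Nat.card L = d :=
    ⟨_, H, le_rfl, fun h hh x hx => H.mul_mem (H.mul_mem hh hx) (H.inv_mem hh), hH0, rfl⟩
  obtain ⟨M, hM, hMn, hM0, hMd⟩ := Nat.find_spec hex
  have hmin : ∀ L ≤ M, (∀ h ∈ H, ∀ x ∈ L, h * x * h⁻¹ ∈ L) → ¬ L ≤ scalars (Fin n) F → L = M :=
    fun L h1 h2 h3 => Subgroup.eq_of_le_of_card_ge h1
      (hMd ▸ Nat.find_min' hex ⟨L, h1.trans hM, h2, h3, rfl⟩)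
  by_cases hMM : ⁅M, M⁆ ≤ scalars (Fin n) F
  · obtain ⟨R, hRH, hRn, hR⟩ := exists_RData hn hodd hall (hHG.trans inf_le_right) hM hMn hM0
      fun x hx y hy => hMM (Subgroup.commutator_mem_commutator hx hy)
    exact unitary_extraspecial hF hn hodd hgu hall hRH hRn hR
  · exact unitary_simple hF hn hodd hgu hall hM hMn hM0 hmin
      (hmin _ (Subgroup.commutator_le_self M) (fun h hh => conj_commutator_mem (hMn h hh)) hMM)

theorem maximal_eq_inf {G H X : Subgroup (GL (Fin n) F)} (hH : IsMaximalIn G H) (hle : H ≤ X)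
    (hX : ¬ G ≤ X) : H = X ⊓ G := by
  rcases hH.2 (X ⊓ G) (le_inf hle hH.1.le) inf_le_right with h | h
  · exact h.symm
  · exact absurd (inf_eq_right.mp h) hX

/-- The maximal subgroups of `SU(n,q)` in odd prime dimension. -/
theorem unitary_maximal [Fintype F] (hF : Fintype.card F = q ^ 2) (hn : n.Prime) (hn3 : 3 ≤ n)
    (hd : 3 ≤ q ∨ 4 ≤ n) (hsize : n.factorial * n < q ^ (n * (n - 1) / 2))
    {H : Subgroup (GL (Fin n) F)} (hH : IsMaximalIn (suG n F q) H) :
    (∃ W : Submodule F (Fin n → F), W ≠ ⊥ ∧ IsTotallySingularFor (Cfsg.hermForm n F q) W ∧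
        H = subspaceStabilizer W ⊓ suG n F q) ∨
    (∃ W : Submodule F (Fin n → F), W ≠ ⊥ ∧ IsNondegenerateOn (Cfsg.hermForm n F q) W ∧
        2 * Module.finrank F W < n ∧ H = subspaceStabilizer W ⊓ suG n F q) ∨
    (∃ D : Fin n → Submodule F (Fin n → F),
        IsNondegenerateMDecomposition (Cfsg.hermForm n F q) 1 D ∧
        H = decompositionStabilizer D ⊓ suG n F q) ∨
    (∃ K : Subalgebra F (Mat n F), IsFieldSubalgebra n K ∧
        IsAdjointClosedFor (Cfsg.hermForm n F q) K ∧ H = subalgebraNormalizer K ⊓ suG n F q) ∨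
    (∃ (F₀ : Subfield F) (r : ℕ) (P : GL (Fin n) F), r.Prime ∧ Odd r ∧
        Fintype.card F = Nat.card F₀ ^ r ∧
        IsFormRationalStructure (Cfsg.hermForm n F q) F₀ 1 P ∧
        H = subfieldSubgroup F₀ P ⊓ suG n F q) ∨
    (Odd q ∧ ∃ (F₀ : Subfield F) (P : GL (Fin n) F), Fintype.card F = Nat.card F₀ ^ 2 ∧
        IsFormRationalStructure (Cfsg.hermForm n F q) F₀ 1 P ∧
        H = subfieldSubgroup F₀ P ⊓ suG n F q) ∨
    (∃ (p k : ℕ) (R : Subgroup (GL (Fin n) F)), p.Prime ∧ CharP F p ∧ q = p ^ k ∧ 0 < k ∧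
        2 * k ∣ n - 1 ∧ n ∣ p ^ (2 * k) - 1 ∧
        (∀ d : ℕ, 0 < d → d < 2 * k → ¬ n ∣ p ^ d - 1) ∧ IsSymplecticTypeGroup n R ∧
        ActsAbsolutelyIrreducibly (matrixSet R) ∧ R ≤ Cfsg.GU n F q ∧ Nat.card R = n ^ 3 ∧
        Nat.card (Subgroup.center R) = n ∧ H = subgroupNormalizer R ⊓ suG n F q) ∨
    InUnitaryResidualClass H := by
  rcases unitary_outcome hF hn hn3 H hH.1.le with ⟨W, h0, h1, hts, hle⟩ |
    ⟨W, h0, h1, hnd, hdim, hle⟩ | ⟨D, hD, hle⟩ | ⟨K, hK, hadj, hle⟩ |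
    ⟨F₀, l, P, hl, hlq, hcard, hP, hle⟩ |
    ⟨p, k, R, hp, hc, hq, hk, hkn, hnd, hmin, hR, hsymp, hRH, hle⟩ | hres
  · exact .inl ⟨W, h0, hts, maximal_eq_inf hH hle (suG_not_le_subspace hF hn3 h0 h1)⟩
  · exact .inr (.inl ⟨W, h0, hnd, hdim, maximal_eq_inf hH hle (suG_not_le_subspace hF hn3 h0 h1)⟩)
  · exact .inr (.inr (.inl ⟨D, hD, maximal_eq_inf hH hle
      (suG_not_le_decomp hF hn3 hd hsize hD.decomp)⟩))
  · exact .inr (.inr (.inr (.inl ⟨K, hK, hadj, maximal_eq_inf hH hle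
      (suG_not_le_field hF hn3 hd hK)⟩)))
  · have hne : F₀ ≠ ⊤ := by
      intro htop
      have h' : Nat.card F₀ = Fintype.card F := by
        rw [← Nat.card_eq_fintype_card]
        exact Nat.card_congr (Equiv.subtypeUnivEquiv fun x => htop ▸ Subfield.mem_top x)
      rw [h'] at hcard
      exact hl.one_lt.ne (Nat.pow_right_injective Fintype.one_lt_card ((pow_one _).trans hcard))
    have he := maximal_eq_inf hH hle (suG_not_le_subfield hF hn3 hd hne P)
    rcases hlq with h | ⟨rfl, hoq⟩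
    · exact .inr (.inr (.inr (.inr (.inl ⟨F₀, l, P, hl, h, hcard, hP, he⟩))))
    · exact .inr (.inr (.inr (.inr (.inr (.inl ⟨hoq, F₀, P, hcard, hP, he⟩)))))
  · have hRG : R ≤ suG n F q := hRH.trans hH.1.le
    exact .inr (.inr (.inr (.inr (.inr (.inr (.inl ⟨p, k, R, hp, hc, hq, hk, hkn, hnd, hmin, hsymp,
      hR.absIrr, hRG.trans inf_le_left, hR.card_eq hn, hR.card_center hn,
      maximal_eq_inf hH hle (suG_not_le_normalizer hF hn3 hd hR hRG)⟩))))))
  · exact .inr (.inr (.inr (.inr (.inr (.inr (.inr hres))))))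

end CfsgLib.Classical.AschPrime
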