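import Cfsg.Agent.Lib.Classical.AschPrime.Linear
import Cfsg.Agent.Lib.Classical.HermField

/-!
# The standard Hermitian form and the special unitary group
-/

set_option autoImplicit false

namespace CfsgLib.Classical.AschPrime

open Matrix Cfsg Cfsg.Geo
open scoped MatrixGroups

variable {n : ℕ} {F : Type*} [Field F] {q : ℕ} {σ : F →+* F}

/-- The special unitary group inside the general linear group. -/
abbrev suG (n : ℕ) (F : Type*) [Field F] (q : ℕ) : Subgroup (GL (Fin n) F) :=
  Cfsg.GU n F q ⊓ specialLinear (Fin n) F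

theorem herm_eq_stdForm (hσ : ∀ x, σ x = x ^ q) (u v : Fin n → F) :
    Cfsg.hermForm n F q u v = stdForm σ 1 u v := by
  simp [Cfsg.hermForm, stdForm, hσ]

theorem herm_sesq (hσ : ∀ x, σ x = x ^ q) : IsSesq σ (Cfsg.hermForm n F q) := by
  rw [show Cfsg.hermForm n F q = stdForm σ 1 from funext fun u => funext (herm_eq_stdForm hσ u)]
  exact stdForm_sesq σ 1

theorem herm_nondeg (hσ : ∀ x, σ x = x ^ q) : IsNondegenerateForm (Cfsg.hermForm n F q) := by
  rw [show Cfsg.hermForm n F q = stdForm σ 1 from funext fun u => funext (herm_eq_stdForm hσ u)]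
  exact stdForm_nondegenerate σ 1

theorem herm_symm (hσ : ∀ x, σ x = x ^ q) (hc : IsConjugation σ) (u v : Fin n → F) :
    σ (Cfsg.hermForm n F q u v) = Cfsg.hermForm n F q v u := by
  simp [Cfsg.hermForm, ← hσ, hc.invol, mul_comm]

theorem herm_eq_zero_comm (hσ : ∀ x, σ x = x ^ q) (hc : IsConjugation σ) {u v : Fin n → F}
    (h : Cfsg.hermForm n F q u v = 0) : Cfsg.hermForm n F q v u = 0 := by
  rw [← herm_symm hσ hc, h, map_zero]

theorem herm_single_right (hσ : ∀ x, σ x = x ^ q) (u : Fin n → F) (i : Fin n) :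
    Cfsg.hermForm n F q u (Pi.single i 1) = u i := by
  classical
  simp only [Cfsg.hermForm, ← hσ]
  rw [Finset.sum_eq_single i (fun j _ hj => by simp [hj]) (by simp)]
  simp

theorem gu_map_eq (hσ : ∀ x, σ x = x ^ q) {g : GL (Fin n) F} (hg : g ∈ Cfsg.GU n F q) :
    (g : Mat n F)ᵀ * (g : Mat n F).map σ = 1 := by
  classical
  have hgram : gramMatrix (Cfsg.hermForm n F q) = (1 : Mat n F) := by
    ext i j
    rw [gramMatrix, herm_single_right hσ, Matrix.one_apply, Pi.single_apply]
    simp [eq_comm]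
  have h := (herm_sesq (n := n) hσ).isometry (A := (g : Mat n F)) (c := 1) |>.mp
    fun u v => by rw [one_mul]; exact hg u v
  rwa [hgram, one_smul, mul_one] at h

theorem gu_fixes {H : Subgroup (GL (Fin n) F)} (hH : H ≤ Cfsg.GU n F q) :
    FixesForm (matrixSet H) (Cfsg.hermForm n F q) := by
  rintro _ ⟨g, hg, rfl⟩ u v
  exact hH hg u v

/-- The adjoint of a matrix. -/
theorem herm_adjoint (hσ : ∀ x, σ x = x ^ q) (hc : IsConjugation σ) (k : Mat n F) (u v : Fin n → F) :
    Cfsg.hermForm n F q (k *ᵥ u) v = Cfsg.hermForm n F q u ((k.map σ)ᵀ *ᵥ v) := by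
  simp only [Cfsg.hermForm, ← hσ, Matrix.mulVec, dotProduct, Matrix.transpose_apply, Matrix.map_apply,
    map_sum, map_mul, hc.invol, Finset.sum_mul, Finset.mul_sum]
  rw [Finset.sum_comm]
  exact Finset.sum_congr rfl fun a _ => Finset.sum_congr rfl fun b _ => by ring

/-- The orthogonal complement. -/
def hperp (hσ : ∀ x, σ x = x ^ q) (W : Submodule F (Fin n → F)) : Submodule F (Fin n → F) where
  carrier := {u | ∀ w ∈ W, Cfsg.hermForm n F q u w = 0}
  add_mem' {a b} ha hb w hw := by rw [(herm_sesq hσ).add_left, ha w hw, hb w hw, add_zero]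
  zero_mem' w hw := by simp [Cfsg.hermForm]
  smul_mem' c a ha w hw := by rw [(herm_sesq hσ).smul_left, ha w hw, mul_zero]

theorem finrank_hperp (hσ : ∀ x, σ x = x ^ q) (hc : IsConjugation σ) (W : Submodule F (Fin n → F)) :
    n ≤ Module.finrank F W + Module.finrank F (hperp hσ W) := by
  classical
  let b := Module.finBasis F W
  let Φ : (Fin n → F) →ₗ[F] (Fin (Module.finrank F W) → F) :=
    { toFun := fun u i => Cfsg.hermForm n F q u (b i).1
      map_add' := fun x y => funext fun i => (herm_sesq hσ).add_left x y _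
      map_smul' := fun c x => funext fun i => (herm_sesq hσ).smul_left c x _ }
  have hker : LinearMap.ker Φ ≤ hperp hσ W := by
    intro u hu w hw
    have hw' : ∑ i, b.repr ⟨w, hw⟩ i • ((b i).1 : Fin n → F) = w := by
      conv_rhs => rw [show w = (⟨w, hw⟩ : W).1 from rfl, ← b.sum_repr ⟨w, hw⟩]
      rw [AddSubmonoidClass.coe_finsetSum]
      rfl
    let R : (Fin n → F) →+ F :=
      AddMonoidHom.mk' (fun v => Cfsg.hermForm n F q u v) ((herm_sesq hσ).add_right u)
    change R w = 0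
    rw [← hw', map_sum]
    refine Finset.sum_eq_zero fun i _ => ?_
    change Cfsg.hermForm n F q u (_ • _) = 0
    rw [(herm_sesq hσ).smul_right, show Cfsg.hermForm n F q u (b i).1 = 0 from congrFun hu i,
      mul_zero]
  have h1 := Φ.finrank_range_add_finrank_ker
  have h2 := Submodule.finrank_le (LinearMap.range Φ)
  have h3 := Submodule.finrank_mono hker
  simp only [Module.finrank_fintype_fun_eq_card, Fintype.card_fin] at h1 h2
  omega

theorem hperp_invariant (hσ : ∀ x, σ x = x ^ q) {W : Submodule F (Fin n → F)}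
    {H : Subgroup (GL (Fin n) F)} (hH : H ≤ Cfsg.GU n F q)
    (hW : ∀ h ∈ H, ∀ v ∈ W, (h : Mat n F) *ᵥ v ∈ W) :
    ∀ h ∈ H, ∀ v ∈ hperp hσ W, (h : Mat n F) *ᵥ v ∈ hperp hσ W := by
  intro h hh v hv w hw
  have hw' := hv _ (hW h⁻¹ (H.inv_mem hh) w hw)
  rw [← hH hh v] at hw'
  change Cfsg.hermForm n F q ((h : Mat n F) *ᵥ v) ((h : Mat n F) *ᵥ (((h⁻¹ : GL (Fin n) F) : Mat n F) *ᵥ w)) = 0 at hw'
  rwa [Matrix.mulVec_mulVec w, Units.mul_inv, Matrix.one_mulVec] at hw'

/-- A reducible unitary group in odd dimension fixes a totally isotropic subspace, or a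
non-degenerate one of less than half the dimension. -/
theorem reducible_cases (hσ : ∀ x, σ x = x ^ q) (hc : IsConjugation σ) (hodd : Odd n)
    {H : Subgroup (GL (Fin n) F)} (hH : H ≤ Cfsg.GU n F q) {W : Submodule F (Fin n → F)}
    (h0 : W ≠ ⊥) (h1 : W ≠ ⊤) (hW : ∀ h ∈ H, ∀ v ∈ W, (h : Mat n F) *ᵥ v ∈ W) :
    (∃ U : Submodule F (Fin n → F), U ≠ ⊥ ∧ U ≠ ⊤ ∧
      IsTotallySingularFor (Cfsg.hermForm n F q) U ∧ H ≤ subspaceStabilizer U) ∨
    (∃ U : Submodule F (Fin n → F), U ≠ ⊥ ∧ U ≠ ⊤ ∧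
      IsNondegenerateOn (Cfsg.hermForm n F q) U ∧ 2 * Module.finrank F U < n ∧
      H ≤ subspaceStabilizer U) := by
  have hP := hperp_invariant hσ hH hW
  by_cases hWW : W ⊓ hperp hσ W = ⊥
  swap
  · refine .inl ⟨W ⊓ hperp hσ W, hWW, fun e => h1 (top_le_iff.mp (e.ge.trans inf_le_left)), ?_,
      le_subspaceStabilizer fun h hh v hv =>
        ⟨hW h hh v hv.1, hP h hh v hv.2⟩⟩
    exact fun u hu v hv => hu.2 v hv.1
  right
  have hdis : Disjoint W (hperp hσ W) := disjoint_iff.mpr hWW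
  have hsum := Submodule.finrank_sup_add_finrank_inf_eq W (hperp hσ W)
  rw [hWW, finrank_bot] at hsum
  have hle := Submodule.finrank_le (W ⊔ hperp hσ W)
  have hge := finrank_hperp hσ hc W
  rw [Module.finrank_fintype_fun_eq_card, Fintype.card_fin] at hle
  have heq : Module.finrank F W + Module.finrank F (hperp hσ W) = n := by omega
  have htop : W ⊔ hperp hσ W = ⊤ := Submodule.eq_top_of_finrank_eq (by
    rw [Module.finrank_fintype_fun_eq_card, Fintype.card_fin]; omega)
  -- the form is non-degenerate on both members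
  have hnd : ∀ A B : Submodule F (Fin n → F), A ⊔ B = ⊤ →
      (∀ a ∈ A, ∀ b ∈ B, Cfsg.hermForm n F q a b = 0) →
      IsNondegenerateOn (Cfsg.hermForm n F q) A := by
    intro A B hAB horth w hw hw0
    obtain ⟨x, hx⟩ := (herm_nondeg hσ w hw0).2
    obtain ⟨a, ha, b, hb, rfl⟩ := Submodule.mem_sup.mp (hAB ▸ Submodule.mem_top (x := x))
    rw [(herm_sesq hσ).add_right, horth w hw b hb, add_zero] at hx
    exact ⟨⟨a, ha, fun e => hx (herm_eq_zero_comm hσ hc e)⟩, ⟨a, ha, hx⟩⟩
  have hW0 : Module.finrank F W ≠ 0 := fun e => h0 (Submodule.finrank_eq_zero.mp e)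
  have hW1 : Module.finrank F W < n := by
    have := Submodule.finrank_lt h1
    rwa [Module.finrank_fintype_fun_eq_card, Fintype.card_fin] at this
  by_cases hsmall : 2 * Module.finrank F W < n
  · exact ⟨W, h0, h1, hnd W _ htop fun a ha b hb => herm_eq_zero_comm hσ hc (hb a ha), hsmall,
      le_subspaceStabilizer hW⟩
  · refine ⟨hperp hσ W, fun e => ?_, fun e => ?_,
      hnd _ W (sup_comm W (hperp hσ W) ▸ htop) (fun a ha b hb => ha b hb), ?_,
      le_subspaceStabilizer hP⟩
    · rw [e, finrank_bot] at heq; omega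
    · rw [e, finrank_top, Module.finrank_fintype_fun_eq_card, Fintype.card_fin] at heq; omega
    · obtain ⟨t, rfl⟩ := hodd; omega

/-- A commutant of a unitary group is closed under adjoints. -/
theorem adjointClosed_commutant [Finite F] (hσ : ∀ x, σ x = x ^ q) (hc : IsConjugation σ)
    {N : Subgroup (GL (Fin n) F)} (hN : N ≤ Cfsg.GU n F q) :
    IsAdjointClosedFor (Cfsg.hermForm n F q) (Subalgebra.centralizer F (matrixSet N)) := by
  intro k hk
  refine ⟨(k.map σ)ᵀ, ?_, fun u v => herm_adjoint hσ hc k u v⟩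
  rw [Subalgebra.mem_centralizer_iff] at hk ⊢
  rintro _ ⟨s, hs, rfl⟩
  have hs' := hk _ (mem_matrixSet (N.inv_mem hs))
  have h1 := gu_map_eq hσ (hN hs)
  have hinv : ((s⁻¹ : GL (Fin n) F) : Mat n F) = ((s : Mat n F).map σ)ᵀ := by
    have e : ((s : Mat n F).map σ)ᵀ * (s : Mat n F) = 1 := by
      simpa [Matrix.transpose_mul] using congrArg Matrix.transpose h1
    calc ((s⁻¹ : GL (Fin n) F) : Mat n F)
        = ((s : Mat n F).map σ)ᵀ * (s : Mat n F) * ((s⁻¹ : GL (Fin n) F) : Mat n F) := by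
          rw [e, one_mul]
      _ = _ := by rw [mul_assoc, Units.mul_inv, mul_one]
  rw [hinv] at hs'
  have hσσ : ((s : Mat n F).map σ).map σ = (s : Mat n F) := by
    ext i j; simp [hc.invol]
  have e := congrArg (fun X : Mat n F => (X.map σ)ᵀ) hs'
  simp only [Matrix.map_mul, Matrix.transpose_mul, Matrix.transpose_map, Matrix.transpose_transpose,
    hσσ] at e
  exact e.symm

end CfsgLib.Classical.AschPrime
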