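import Cfsg.Prelude.Def_GeometricClasses
import Mathlib.RingTheory.LittleWedderburn

/-!
# Irreducible sets of matrices in prime dimension: commutants

For an irreducible set the commutant is a finite division algebra, hence a field, and in prime
dimension `n` it consists of scalars or has degree `n`.
-/

set_option autoImplicit false

namespace CfsgLib.Classical.AschPrime

open Matrix Cfsg Cfsg.Geo
open scoped MatrixGroups

variable {n : ℕ} {F : Type*} [Field F]

/-- Square matrices. -/
abbrev Mat (n : ℕ) (F : Type*) [Field F] := Matrix (Fin n) (Fin n) F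

theorem irr_iff {S : Set (Mat n F)} : ActsIrreducibly S ↔
    ∀ W : Submodule F (Fin n → F), (∀ s ∈ S, ∀ v ∈ W, s *ᵥ v ∈ W) → W = ⊥ ∨ W = ⊤ := by
  refine forall_congr' fun W => imp_congr_left (forall₂_congr fun s _ => ?_)
  rw [Submodule.map_le_iff_le_comap]
  constructor
  · exact fun h v hv => by simpa using h hv
  · exact fun h v hv => by simpa using h v hv

theorem irr_mono {S T : Set (Mat n F)} (h : ActsIrreducibly S) (hST : S ⊆ T) : ActsIrreducibly T :=
  fun W hW => h W fun s hs => hW s (hST hs)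

theorem mem_matrixSet {N : Subgroup (GL (Fin n) F)} {g : GL (Fin n) F} (hg : g ∈ N) :
    (g : Mat n F) ∈ matrixSet N := ⟨g, hg, rfl⟩

theorem matrixSet_mono {N M : Subgroup (GL (Fin n) F)} (h : N ≤ M) : matrixSet N ⊆ matrixSet M :=
  Set.image_mono h

theorem commutant_isUnit {S : Set (Mat n F)} (hS : ActsIrreducibly S) {M : Mat n F}
    (hM : ∀ s ∈ S, M * s = s * M) (h0 : M ≠ 0) : IsUnit M := by
  rw [← Matrix.mulVec_injective_iff_isUnit]
  have hker := irr_iff.mp hS (LinearMap.ker (Matrix.toLin' M)) fun s hs v hv => by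
    simp only [LinearMap.mem_ker, Matrix.toLin'_apply] at hv ⊢
    rw [Matrix.mulVec_mulVec, hM s hs, ← Matrix.mulVec_mulVec, hv, Matrix.mulVec_zero]
  rcases hker with h | h
  · intro v w hvw
    have : v - w ∈ LinearMap.ker (Matrix.toLin' M) := by
      simp only [LinearMap.mem_ker, Matrix.toLin'_apply, Matrix.mulVec_sub, hvw, sub_self]
    rw [h, Submodule.mem_bot] at this
    exact sub_eq_zero.mp this
  · exfalso
    refine h0 (Matrix.toLin'.injective ?_)
    rw [map_zero]
    exact LinearMap.ker_eq_top.mp h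

theorem one_smul_eq (c : F) : algebraMap F (Mat n F) c = c • (1 : Mat n F) :=
  Algebra.algebraMap_eq_smul_one c

/-- The commutant of an irreducible set in prime dimension, when it is not just the scalars. -/
theorem commutant_field [Finite F] (hn : n.Prime) {S : Set (Mat n F)} (hS : ActsIrreducibly S)
    (hne : ¬ ∀ M : Mat n F, (∀ s ∈ S, M * s = s * M) → ∃ c : F, M = c • 1) :
    IsFieldSubalgebra n (Subalgebra.centralizer F S) := by
  classical
  haveI : NeZero n := ⟨hn.ne_zero⟩
  set K := Subalgebra.centralizer F S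
  have hmem : ∀ M : Mat n F, M ∈ K ↔ ∀ s ∈ S, M * s = s * M := fun M => by
    rw [Subalgebra.mem_centralizer_iff]
    exact forall₂_congr fun s _ => eq_comm
  have hunit : ∀ x ∈ K, x ≠ 0 → IsUnit x := fun x hx h0 => commutant_isUnit hS ((hmem x).mp hx) h0
  have hinv : ∀ x ∈ K, x ≠ 0 → ∃ y ∈ K, x * y = 1 := fun x hx h0 => by
    obtain ⟨u, rfl⟩ := hunit x hx h0
    refine ⟨((u⁻¹ : (Mat n F)ˣ) : Mat n F), (hmem _).mpr fun s hs => ?_, u.mul_inv⟩
    have h := (hmem _).mp hx s hs
    calc ((u⁻¹ : (Mat n F)ˣ) : Mat n F) * s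
        = ((u⁻¹ : (Mat n F)ˣ) : Mat n F) * (s * u) * ((u⁻¹ : (Mat n F)ˣ) : Mat n F) := by
          rw [mul_assoc, mul_assoc s, u.mul_inv, mul_one]
      _ = s * ((u⁻¹ : (Mat n F)ˣ) : Mat n F) := by
          rw [← h, ← mul_assoc, u.inv_mul, one_mul]
  haveI : Finite K := Subtype.finite
  haveI : NoZeroDivisors K := ⟨fun {x y} h => by
    by_cases hx : x = 0
    · exact .inl hx
    · right
      have h' : (x : Mat n F) * (y : Mat n F) = 0 := congrArg Subtype.val h
      exact Subtype.ext ((hunit _ x.2 fun e => hx (Subtype.ext e)).mul_right_eq_zero.mp h')⟩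
  haveI : IsDomain K := NoZeroDivisors.to_isDomain K
  have hfield := Finite.isDomain_to_isField K
  refine ⟨fun x hx y hy => congrArg Subtype.val (hfield.mul_comm ⟨x, hx⟩ ⟨y, hy⟩), hinv, ?_⟩
  let ev : (Fin n → F) → (K →ₗ[F] (Fin n → F)) := fun v =>
    { toFun := fun k => (k : Mat n F) *ᵥ v
      map_add' := fun a b => by rw [Subalgebra.coe_add, Matrix.add_mulVec]
      map_smul' := fun c a => by rw [Subalgebra.coe_smul, Matrix.smul_mulVec]; rfl }
  have hdvd : ∀ j : ℕ, ∀ U : Submodule F (Fin n → F), (∀ k ∈ K, ∀ v ∈ U, k *ᵥ v ∈ U) →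
      n - Module.finrank F U = j → Module.finrank F K ∣ j := by
    intro j
    induction j using Nat.strong_induction_on with
    | _ j ih =>
      intro U hU hj
      by_cases htop : U = ⊤
      · subst htop
        rw [finrank_top, Module.finrank_fintype_fun_eq_card, Fintype.card_fin, Nat.sub_self] at hj
        rw [← hj]; exact dvd_zero _
      obtain ⟨v, -, hv⟩ := SetLike.exists_of_lt (lt_top_iff_ne_top.mpr htop)
      have hdis : LinearMap.range (ev v) ⊓ U = ⊥ := by
        rw [Submodule.eq_bot_iff]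
        rintro w ⟨⟨k, rfl⟩, hw⟩
        by_contra hw0
        have hk0 : (k : Mat n F) ≠ 0 := fun e => hw0 (by
          show (k : Mat n F) *ᵥ v = 0
          rw [e, Matrix.zero_mulVec])
        obtain ⟨y, hy, hky⟩ := hinv k k.2 hk0
        have hyk : y * (k : Mat n F) = 1 := mul_eq_one_comm.mp hky
        refine hv ?_
        have := hU y hy _ hw
        change y *ᵥ ((k : Mat n F) *ᵥ v) ∈ U at this
        rwa [Matrix.mulVec_mulVec, hyk, Matrix.one_mulVec] at this
      have hinj : Function.Injective (ev v) := by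
        rw [← LinearMap.ker_eq_bot, Submodule.eq_bot_iff]
        intro k hk
        by_contra hk0
        obtain ⟨y, hy, hky⟩ := hinv k k.2 fun e => hk0 (Subtype.ext e)
        have hyk : y * (k : Mat n F) = 1 := mul_eq_one_comm.mp hky
        have hk' : (k : Mat n F) *ᵥ v = 0 := LinearMap.mem_ker.mp hk
        refine hv ?_
        rw [← Matrix.one_mulVec v, ← hyk, ← Matrix.mulVec_mulVec, hk', Matrix.mulVec_zero]
        exact U.zero_mem
      have hrk : Module.finrank F (LinearMap.range (ev v)) = Module.finrank F K :=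
        LinearMap.finrank_range_of_inj hinj
      have hsum := Submodule.finrank_sup_add_finrank_inf_eq (LinearMap.range (ev v)) U
      rw [hdis, finrank_bot, hrk, add_zero] at hsum
      have hle := Submodule.finrank_le (LinearMap.range (ev v) ⊔ U)
      rw [Module.finrank_fintype_fun_eq_card, Fintype.card_fin] at hle
      have hpos : 0 < Module.finrank F K := Module.finrank_pos
      have := ih (n - Module.finrank F ↥(LinearMap.range (ev v) ⊔ U)) (by omega)
        (LinearMap.range (ev v) ⊔ U) (fun k hk w hw => by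
          obtain ⟨a, ⟨x, rfl⟩, b, hb, rfl⟩ := Submodule.mem_sup.mp hw
          rw [Matrix.mulVec_add]
          refine Submodule.add_mem_sup ⟨(⟨k, hk⟩ : K) * x, ?_⟩ (hU k hk b hb)
          show (k * (x : Mat n F)) *ᵥ v = k *ᵥ ((x : Mat n F) *ᵥ v)
          rw [Matrix.mulVec_mulVec]) rfl
      have e : j = Module.finrank F K +
          (n - Module.finrank F ↥(LinearMap.range (ev v) ⊔ U)) := by omega
      rw [e]
      exact dvd_add dvd_rfl this
  have hd := hdvd (n - Module.finrank F (⊥ : Submodule F (Fin n → F))) ⊥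
    (fun k _ v hv => by rw [Submodule.mem_bot] at hv ⊢; rw [hv, Matrix.mulVec_zero]) rfl
  rw [finrank_bot, Nat.sub_zero] at hd
  rcases (Nat.dvd_prime hn).mp hd with h1 | h1
  · exfalso
    have hbot := Subalgebra.eq_bot_of_finrank_one (S := K) h1
    refine hne fun M hM => ?_
    have : M ∈ K := (hmem M).mpr hM
    rw [hbot, Algebra.mem_bot] at this
    obtain ⟨c, rfl⟩ := this
    exact ⟨c, one_smul_eq c⟩
  · exact h1

theorem field_commutant {K : Subalgebra F (Mat n F)} (hn : 0 < n) (hK : IsFieldSubalgebra n K)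
    {M : Mat n F} (hM : ∀ k ∈ K, M * k = k * M) : M ∈ K := by
  let v0 : Fin n → F := Pi.single ⟨0, hn⟩ 1
  let ev : K →ₗ[F] (Fin n → F) :=
    { toFun := fun k => (k : Mat n F) *ᵥ v0
      map_add' := fun a b => by rw [Subalgebra.coe_add, Matrix.add_mulVec]
      map_smul' := fun c a => by rw [Subalgebra.coe_smul, Matrix.smul_mulVec]; rfl }
  have hinj : Function.Injective ev := by
    rw [← LinearMap.ker_eq_bot, Submodule.eq_bot_iff]
    intro k hk
    by_contra hk0
    obtain ⟨y, hy, hxy⟩ := hK.inv k k.2 fun e => hk0 (Subtype.ext e)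
    have hyx : y * (k : Mat n F) = 1 := by rw [← hK.comm _ k.2 y hy, hxy]
    have hv : v0 = 0 := by
      have hk' : (k : Mat n F) *ᵥ v0 = 0 := LinearMap.mem_ker.mp hk
      rw [← Matrix.one_mulVec v0, ← hyx, ← Matrix.mulVec_mulVec, hk', Matrix.mulVec_zero]
    have := congrFun hv ⟨0, hn⟩
    simp [v0] at this
  have hsurj : Function.Surjective ev :=
    (LinearMap.injective_iff_surjective_of_finrank_eq_finrank
      (by rw [hK.finrank_eq, Module.finrank_fintype_fun_eq_card, Fintype.card_fin])).mp hinj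
  obtain ⟨k, hk⟩ := hsurj (M *ᵥ v0)
  have : M = k := by
    refine Matrix.ext_of_mulVec_single fun i => ?_
    obtain ⟨k', hk'⟩ := hsurj (Pi.single i 1)
    change (k' : Mat n F) *ᵥ v0 = Pi.single i 1 at hk'
    change (k : Mat n F) *ᵥ v0 = M *ᵥ v0 at hk
    rw [← hk', Matrix.mulVec_mulVec, Matrix.mulVec_mulVec, hM _ k'.2, hK.comm _ k.2 _ k'.2,
      ← Matrix.mulVec_mulVec, ← Matrix.mulVec_mulVec, hk]
  rw [this]; exact k.2

theorem mem_scalars_of_eq {g : GL (Fin n) F} (hn : 0 < n) {c : F} (h : (g : Mat n F) = c • 1) :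
    g ∈ scalars (Fin n) F := by
  have hc : c ≠ 0 := by
    rintro rfl
    rw [zero_smul] at h
    haveI : NeZero n := ⟨hn.ne'⟩
    exact g.ne_zero h
  exact (mem_scalars_iff g).mpr ⟨Units.mk0 c hc, h⟩

theorem scalars_comm {g : GL (Fin n) F} (hg : g ∈ scalars (Fin n) F) (x : GL (Fin n) F) :
    g * x = x * g := by
  obtain ⟨c, hc⟩ := (mem_scalars_iff g).mp hg
  exact Units.ext (by rw [Units.val_mul, Units.val_mul, hc, Matrix.smul_mul, Matrix.one_mul,
    Matrix.mul_smul, Matrix.mul_one])

/-- An abelian group of matrices is never absolutely irreducible in dimension at least 2. -/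
theorem not_absIrred_of_comm (hn : 2 ≤ n) {N : Subgroup (GL (Fin n) F)}
    (hc : ∀ x ∈ N, ∀ y ∈ N, x * y = y * x) : ¬ ActsAbsolutelyIrreducibly (matrixSet N) := by
  rintro ⟨hirr, habs⟩
  let e : Fin n → (Fin n → F) := fun i => Pi.single i 1
  have hW := irr_iff.mp hirr (F ∙ e ⟨0, by omega⟩) (by
    rintro _ ⟨x, hx, rfl⟩ v hv
    obtain ⟨c, hcx⟩ := habs x (by
      rintro _ ⟨y, hy, rfl⟩
      exact congrArg Units.val (hc x hx y hy))
    change (x : Mat n F) *ᵥ v ∈ _
    rw [hcx, Matrix.smul_mulVec, Matrix.one_mulVec]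
    exact Submodule.smul_mem _ c hv)
  rcases hW with h | h
  · have := congrFun (Submodule.span_singleton_eq_bot.mp h) ⟨0, by omega⟩
    simp [e] at this
  · have hmem : e ⟨1, by omega⟩ ∈ F ∙ e ⟨0, by omega⟩ := h ▸ Submodule.mem_top
    obtain ⟨c, hc1⟩ := Submodule.mem_span_singleton.mp hmem
    have := congrFun hc1 ⟨1, by omega⟩
    simp [e] at this

/-- The commutant of a normalised subgroup is normalised. -/
theorem le_normalizer_commutant {H N : Subgroup (GL (Fin n) F)}
    (hnorm : ∀ h ∈ H, ∀ x ∈ N, h * x * h⁻¹ ∈ N) :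
    H ≤ subalgebraNormalizer (Subalgebra.centralizer F (matrixSet N)) := by
  have key : ∀ h ∈ H, ∀ k ∈ Subalgebra.centralizer F (matrixSet N),
      (h : Mat n F) * k * ((h⁻¹ : GL (Fin n) F) : Mat n F) ∈
        Subalgebra.centralizer F (matrixSet N) := by
    intro h hh k hk
    rw [Subalgebra.mem_centralizer_iff] at hk ⊢
    rintro _ ⟨x, hx, rfl⟩
    have hx' : h⁻¹ * x * h ∈ N := by simpa using hnorm h⁻¹ (H.inv_mem hh) x hx
    have e := hk _ (mem_matrixSet hx')
    simp only [Units.val_mul, mul_assoc] at e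
    have e2 := congrArg (fun Y => (h : Mat n F) * Y * ((h⁻¹ : GL (Fin n) F) : Mat n F)) e
    simp only [mul_assoc, Units.mul_inv_cancel_left, Units.mul_inv, mul_one] at e2
    simpa [mul_assoc] using e2
  intro h hh k
  refine ⟨fun hk => key h hh k hk, fun hk => ?_⟩
  have := key h⁻¹ (H.inv_mem hh) _ hk
  simpa [mul_assoc] using this

end CfsgLib.Classical.AschPrime
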