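import Cfsg.Agent.Lib.Classical.AschPrime.Basic

/-!
# Clifford's theorem in prime dimension

A normal subgroup of an irreducible group is irreducible, or scalar, or diagonal in a basis whose
lines are permuted by the group.
-/

set_option autoImplicit false

namespace CfsgLib.Classical.AschPrime

open Matrix Cfsg Cfsg.Geo
open scoped MatrixGroups

variable {n : ℕ} {F : Type*} [Field F] {H N : Subgroup (GL (Fin n) F)}

/-- A normal subgroup that is reducible has a basis of common eigenvectors. -/
theorem exists_eigenbasis (hn : n.Prime) (hnorm : ∀ h ∈ H, ∀ x ∈ N, h * x * h⁻¹ ∈ N)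
    (hH : ActsIrreducibly (matrixSet H)) (hN : ¬ ActsIrreducibly (matrixSet N)) :
    ∃ b : Module.Basis (Fin n) F (Fin n → F),
      ∀ x ∈ N, ∀ i, ∃ c : F, (x : Mat n F) *ᵥ b i = c • b i := by
  classical
  let Inv : Submodule F (Fin n → F) → Prop :=
    fun W => ∀ x ∈ N, ∀ v ∈ W, (x : Mat n F) *ᵥ v ∈ W
  have hInv0 : ∃ d, ∃ W, Inv W ∧ W ≠ ⊥ ∧ Module.finrank F W = d := by
    rw [irr_iff] at hN
    push Not at hN
    obtain ⟨W, hW, h0, -⟩ := hN
    exact ⟨_, W, fun x hx v hv => hW _ (mem_matrixSet hx) v hv, h0, rfl⟩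
  obtain ⟨W, hW, hW0, hWd⟩ := Nat.find_spec hInv0
  set d := Nat.find hInv0
  have hmin : ∀ U, Inv U → U ≠ ⊥ → d ≤ Module.finrank F U := fun U h1 h2 =>
    Nat.find_min' hInv0 ⟨U, h1, h2, rfl⟩
  have hdn : d < n := by
    rw [irr_iff] at hN
    push Not at hN
    obtain ⟨U, hU, h0, h1⟩ := hN
    have := Submodule.finrank_lt h1
    rw [Module.finrank_fintype_fun_eq_card, Fintype.card_fin] at this
    exact (hmin U (fun x hx v hv => hU _ (mem_matrixSet hx) v hv) h0).trans_lt this
  let T : GL (Fin n) F → Submodule F (Fin n → F) :=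
    fun g => W.map (Matrix.toLin' (g : Mat n F))
  have hTd : ∀ g, Module.finrank F (T g) = d := fun g => by
    rw [← hWd]
    exact (Submodule.equivMapOfInjective _ (fun v w h => by
      simp only [Matrix.toLin'_apply] at h
      exact Matrix.mulVec_injective_iff_isUnit.2 g.isUnit h) W).finrank_eq.symm
  have hTinv : ∀ g ∈ H, Inv (T g) := by
    rintro g hg x hx _ ⟨v, hv, rfl⟩
    have hx' : g⁻¹ * x * g ∈ N := by simpa using hnorm g⁻¹ (H.inv_mem hg) x hx
    refine ⟨(g⁻¹ * x * g : GL (Fin n) F).1 *ᵥ v, hW _ hx' v hv, ?_⟩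
    simp only [Matrix.toLin'_apply, Matrix.mulVec_mulVec]
    rw [← Units.val_mul, ← Units.val_mul, ← mul_assoc, ← mul_assoc, mul_inv_cancel, one_mul]
  have htop : ∀ U : Submodule F (Fin n → F), (∀ g ∈ H, T g ≤ U) → U = ⊤ := by
    intro U hU
    have hinv := irr_iff.mp hH (⨆ g : H, T g) (by
      rintro _ ⟨h, hh, rfl⟩ v hv
      induction hv using Submodule.iSup_induction' with
      | mem g v hv =>
        obtain ⟨w, hw, rfl⟩ := hv
        refine Submodule.mem_iSup_of_mem (⟨h, hh⟩ * g) ⟨w, hw, ?_⟩
        simp [Matrix.mulVec_mulVec]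
      | zero => simp
      | add a b _ _ iha ihb => rw [Matrix.mulVec_add]; exact add_mem iha ihb)
    rcases hinv with h | h
    · exfalso
      refine hW0 (Submodule.eq_bot_iff _ |>.mpr fun v hv => ?_)
      have : v ∈ (⊥ : Submodule F (Fin n → F)) := by
        rw [← h]
        exact Submodule.mem_iSup_of_mem (1 : H) ⟨v, hv, by simp⟩
      simpa using this
    · exact top_le_iff.mp (h ▸ iSup_le fun g : H => hU g g.2)
  -- every invariant subspace has codimension a multiple of `d`
  have hdvd : ∀ j : ℕ, ∀ U, Inv U → n - Module.finrank F U = j → d ∣ j := by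
    intro j
    induction j using Nat.strong_induction_on with
    | _ j ih =>
      intro U hU hj
      by_cases hex : ∃ g ∈ H, ¬ T g ≤ U
      · obtain ⟨g, hg, hgU⟩ := hex
        have hdis : T g ⊓ U = ⊥ := by
          by_contra hne
          have h1 := hmin _ (fun x hx v hv => Submodule.mem_inf.mpr
            ⟨hTinv g hg x hx v (Submodule.mem_inf.mp hv).1, hU x hx v (Submodule.mem_inf.mp hv).2⟩) hne
          refine hgU (inf_eq_left.mp (Submodule.eq_of_le_of_finrank_le inf_le_left ?_))
          rw [hTd]; exact h1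
        have hsum := Submodule.finrank_sup_add_finrank_inf_eq (T g) U
        rw [hdis, finrank_bot, hTd, add_zero] at hsum
        have hle := Submodule.finrank_le (T g ⊔ U)
        rw [Module.finrank_fintype_fun_eq_card, Fintype.card_fin] at hle
        have hpos : 0 < d := by
          rw [← hWd]
          exact Nat.pos_of_ne_zero fun e => hW0 (Submodule.finrank_eq_zero.mp e)
        have := ih (n - Module.finrank F ↥(T g ⊔ U)) (by omega) _ (fun x hx v hv => by
          obtain ⟨a, ha, b, hb, rfl⟩ := Submodule.mem_sup.mp hv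
          rw [Matrix.mulVec_add]
          exact Submodule.add_mem_sup (hTinv g hg x hx a ha) (hU x hx b hb)) rfl
        rw [show j = d + (n - Module.finrank F ↥(T g ⊔ U)) by omega]
        exact dvd_add dvd_rfl this
      · push Not at hex
        rw [htop U hex, finrank_top, Module.finrank_fintype_fun_eq_card, Fintype.card_fin,
          Nat.sub_self] at hj
        rw [← hj]; exact dvd_zero _
  have hd1 : d = 1 := by
    have := hdvd _ ⊥ (fun x _ v hv => by
      rw [Submodule.mem_bot] at hv ⊢; rw [hv, Matrix.mulVec_zero]) rfl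
    rw [finrank_bot, Nat.sub_zero] at this
    exact ((Nat.dvd_prime hn).mp this).resolve_right hdn.ne
  -- common eigenvectors span
  set E : Set (Fin n → F) := {v | ∀ x ∈ N, ∃ c : F, (x : Mat n F) *ᵥ v = c • v}
  have hspan : Submodule.span F E = ⊤ := htop _ fun g hg v hv => by
    refine Submodule.subset_span fun x hx => ?_
    have hfr : Module.finrank F (T g) = 1 := (hTd g).trans hd1
    by_cases hv0 : v = 0
    · exact ⟨0, by simp [hv0]⟩
    obtain ⟨c, hc⟩ := exists_smul_eq_of_finrank_eq_one hfr
      (x := (⟨v, hv⟩ : T g)) (fun e => hv0 (congrArg Subtype.val e))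
      ⟨(x : Mat n F) *ᵥ v, hTinv g hg x hx v hv⟩
    exact ⟨c, (congrArg Subtype.val hc).symm⟩
  obtain ⟨B, hBE, hBspan, hBli⟩ := exists_linearIndependent F E
  haveI : Fintype B := (hBli.setFinite).fintype
  let b0 : Module.Basis B F (Fin n → F) := Module.Basis.mk hBli (by
    rw [Subtype.range_coe, hBspan, hspan])
  have hcard : Fintype.card B = n := by
    have := Module.finrank_eq_card_basis b0
    rw [Module.finrank_fintype_fun_eq_card, Fintype.card_fin] at this
    exact this.symm
  refine ⟨b0.reindex (Fintype.equivFinOfCardEq hcard), fun x hx i => ?_⟩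
  rw [Module.Basis.reindex_apply, Module.Basis.mk_apply]
  exact hBE (Subtype.coe_prop _) x hx

/-- A normal subgroup is irreducible, or scalar, or the group permutes the lines of a basis. -/
theorem clifford (hn : n.Prime) (hNH : N ≤ H) (hnorm : ∀ h ∈ H, ∀ x ∈ N, h * x * h⁻¹ ∈ N)
    (hH : ActsIrreducibly (matrixSet H)) :
    ActsIrreducibly (matrixSet N) ∨ N ≤ scalars (Fin n) F ∨
      ∃ D : Fin n → Submodule F (Fin n → F),
        IsMDecomposition 1 D ∧ H ≤ decompositionStabilizer D ∧
          (∀ x ∈ N, ∀ y ∈ N, x * y = y * x) ∧ ∃ χ : Fin n → N → F, Function.Injective χ ∧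
            ∀ (x : N) i, ∀ v ∈ D i, (x.1 : Mat n F) *ᵥ v = χ i x • v := by
  classical
  by_cases hN : ActsIrreducibly (matrixSet N)
  · exact .inl hN
  right
  obtain ⟨b, hb⟩ := exists_eigenbasis hn hnorm hH hN
  choose χ hχ using hb
  -- the characters
  let ch : Fin n → (N → F) := fun i x => χ x.1 x.2 i
  have hch : ∀ (x : N) i, (x.1 : Mat n F) *ᵥ b i = ch i x • b i := fun x i => hχ x.1 x.2 i
  -- coordinates of eigenvectors
  have hcoord : ∀ (v : Fin n → F) (ψ : N → F), (∀ x : N, (x.1 : Mat n F) *ᵥ v = ψ x • v) →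
      ∀ j, b.repr v j ≠ 0 → ch j = ψ := by
    intro v ψ hv j hj
    funext x
    have h1 : b.repr ((x.1 : Mat n F) *ᵥ v) j = ψ x * b.repr v j := by
      rw [hv x, map_smul, Finsupp.smul_apply, smul_eq_mul]
    have h2 : b.repr ((x.1 : Mat n F) *ᵥ v) j = ch j x * b.repr v j := by
      conv_lhs => rw [← b.sum_repr v]
      rw [Matrix.mulVec_sum, map_sum, Finsupp.finsetSum_apply, Finset.sum_eq_single j]
      · rw [Matrix.mulVec_smul, hch, smul_smul, map_smul, Finsupp.smul_apply, b.repr_self,
          Finsupp.single_eq_same, smul_eq_mul, mul_one, mul_comm]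
      · intro i _ hij
        rw [Matrix.mulVec_smul, hch, smul_smul, map_smul, Finsupp.smul_apply, b.repr_self,
          Finsupp.single_eq_of_ne hij.symm, smul_zero]
      · exact fun h => absurd (Finset.mem_univ j) h
    exact mul_right_cancel₀ hj (h2.symm.trans h1)
  let E : (N → F) → Submodule F (Fin n → F) := fun ψ =>
    Submodule.span F (b '' {i | ch i = ψ})
  have hEfin : ∀ ψ, Module.finrank F (E ψ) = (Finset.univ.filter fun i => ch i = ψ).card := by
    intro ψ
    have hset : (b '' {i | ch i = ψ}) = Set.range (fun i : {i // ch i = ψ} => b i) := by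
      ext v; simp
    show Module.finrank F (Submodule.span F (b '' {i | ch i = ψ})) = _
    rw [hset]
    exact (finrank_span_eq_card (b.linearIndependent.comp _ Subtype.val_injective)).trans
      (Fintype.card_subtype _)
  -- conjugated characters
  let tw : H → (N → F) → (N → F) := fun g ψ x =>
    ψ ⟨g.1⁻¹ * x.1 * g.1, by simpa using hnorm _ (H.inv_mem g.2) _ x.2⟩
  have hmap : ∀ (g : H) i, ∀ j, b.repr ((g.1 : Mat n F) *ᵥ b i) j ≠ 0 → ch j = tw g (ch i) := by
    intro g i
    refine hcoord _ _ fun x => ?_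
    have hx' : g.1⁻¹ * x.1 * g.1 ∈ N := by simpa using hnorm _ (H.inv_mem g.2) _ x.2
    have e := hch ⟨_, hx'⟩ i
    have e2 := congrArg (fun v => (g.1 : Mat n F) *ᵥ v) e
    simp only [Matrix.mulVec_mulVec, Matrix.mulVec_smul, ← Units.val_mul, ← mul_assoc,
      mul_inv_cancel, one_mul] at e2
    rw [Matrix.mulVec_mulVec, ← Units.val_mul]
    exact e2
  have hmapE : ∀ (g : H) ψ, (E ψ).map (Matrix.toLin' (g.1 : Mat n F)) ≤ E (tw g ψ) := by
    intro g ψ
    rw [Submodule.map_span, Submodule.span_le]
    rintro _ ⟨_, ⟨i, hi, rfl⟩, rfl⟩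
    rw [Matrix.toLin'_apply, SetLike.mem_coe, b.mem_span_image]
    intro j hj
    have := hmap g i j (Finsupp.mem_support_iff.mp hj)
    rw [show ch i = ψ from hi] at this
    exact this
  have hinjg : ∀ g : H, Function.Injective (Matrix.toLin' (g.1 : Mat n F)) := fun g v w h => by
    simp only [Matrix.toLin'_apply] at h
    exact Matrix.mulVec_injective_iff_isUnit.2 g.1.isUnit h
  have htw : ∀ (g : H) ψ, tw g⁻¹ (tw g ψ) = ψ := fun g ψ => by
    funext x
    refine congrArg ψ (Subtype.ext ?_)
    simp [mul_assoc]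
  have hle : ∀ (g : H) ψ, Module.finrank F (E ψ) ≤ Module.finrank F (E (tw g ψ)) := fun g ψ => by
    rw [(Submodule.equivMapOfInjective _ (hinjg g) (E ψ)).finrank_eq]
    exact Submodule.finrank_mono (hmapE g ψ)
  let i₀ : Fin n := ⟨0, hn.pos⟩
  have htrans : ∀ j, ∃ g : H, ch j = tw g (ch i₀) := by
    have hU := irr_iff.mp hH (Submodule.span F (b '' {i | ∃ g : H, ch i = tw g (ch i₀)})) (by
      rintro _ ⟨h, hh, rfl⟩ v hv
      induction hv using Submodule.span_induction with
      | mem v hv =>
        obtain ⟨i, ⟨g, hg⟩, rfl⟩ := hv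
        rw [b.mem_span_image]
        intro j hj
        refine ⟨⟨h, hh⟩ * g, ?_⟩
        rw [hmap ⟨h, hh⟩ i j (Finsupp.mem_support_iff.mp hj), hg]
        funext x
        exact congrArg (ch i₀) (Subtype.ext (by simp [mul_assoc]))
      | zero => simp
      | add a c _ _ iha ihc => rw [Matrix.mulVec_add]; exact add_mem iha ihc
      | smul c a _ iha => rw [Matrix.mulVec_smul]; exact Submodule.smul_mem _ c iha)
    intro j
    rcases hU with h | h
    · exfalso
      have hmem : b i₀ ∈ (⊥ : Submodule F (Fin n → F)) := h ▸ Submodule.subset_span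
        ⟨i₀, ⟨1, by funext x; exact congrArg (ch i₀) (Subtype.ext (by simp))⟩, rfl⟩
      exact b.ne_zero i₀ (by simpa using hmem)
    · have hj : b j ∈ Submodule.span F (b '' {i | ∃ g : H, ch i = tw g (ch i₀)}) :=
        h ▸ Submodule.mem_top
      rw [b.mem_span_image, b.repr_self, Finsupp.support_single_ne_zero _ one_ne_zero] at hj
      exact hj (Finset.mem_singleton_self j)
  set c₀ := (Finset.univ.filter fun i => ch i = ch i₀).card with hc₀
  have heq : ∀ j, (Finset.univ.filter fun i => ch i = ch j).card = c₀ := fun j => by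
    obtain ⟨g, hg⟩ := htrans j
    rw [hc₀, ← hEfin, ← hEfin, hg]
    refine le_antisymm ?_ (hle g _)
    exact (hle g⁻¹ _).trans_eq (congrArg (fun ψ => Module.finrank F (E ψ)) (htw g (ch i₀)))
  have hsum : n = (Finset.univ.image ch).card * c₀ := by
    have h := Finset.card_eq_sum_card_image ch (Finset.univ : Finset (Fin n))
    rw [Finset.card_univ, Fintype.card_fin] at h
    rw [← smul_eq_mul, ← Finset.sum_const]
    refine h.trans (Finset.sum_congr rfl fun ψ hψ => ?_)
    obtain ⟨j, -, rfl⟩ := Finset.mem_image.mp hψ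
    exact heq j
  rcases (Nat.dvd_prime hn).mp (Dvd.intro_left _ hsum.symm) with h1 | h1
  · -- `n` distinct characters
    right
    have hinj : Function.Injective ch := fun i j h => by
      have := Finset.card_le_one.mp (h1 ▸ (heq i).le) i (by simp) j (by simp [h])
      exact this
    refine ⟨fun i => F ∙ b i, ⟨hn.two_le, one_pos, fun i => finrank_span_singleton (b.ne_zero i),
      b.linearIndependent.iSupIndep_span_singleton, ?_⟩, ?_, ?_, ch, hinj, fun x i v hv => ?_⟩
    · rw [← Submodule.span_range_eq_iSup, b.span_eq]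
    · intro g hg
      have hline : ∀ i, ∃ j, ch j = tw ⟨g, hg⟩ (ch i) ∧
          ((F ∙ b i).map (Matrix.toLin' (g : Mat n F))) = F ∙ b j := by
        intro i
        obtain ⟨j, hj⟩ : ∃ j, b.repr ((g : Mat n F) *ᵥ b i) j ≠ 0 := by
          by_contra hall
          push Not at hall
          refine b.ne_zero i (hinjg ⟨g, hg⟩ ?_)
          rw [map_zero, Matrix.toLin'_apply]
          exact b.repr.injective (by rw [map_zero]; exact Finsupp.ext hall)
        refine ⟨j, hmap ⟨g, hg⟩ i j hj, Submodule.eq_of_le_of_finrank_le ?_ ?_⟩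
        · refine le_trans (Submodule.map_mono ?_) ((hmapE ⟨g, hg⟩ (ch i)).trans ?_)
          · refine Submodule.span_mono fun v hv => ?_
            exact ⟨i, rfl, (Set.mem_singleton_iff.mp hv).symm⟩
          · refine Submodule.span_mono ?_
            rintro _ ⟨k, hk, rfl⟩
            rw [hinj ((show ch k = _ from hk).trans (hmap ⟨g, hg⟩ i j hj).symm)]
            exact rfl
        · rw [← (Submodule.equivMapOfInjective _ (hinjg ⟨g, hg⟩) _).finrank_eq,
            finrank_span_singleton (b.ne_zero i), finrank_span_singleton (b.ne_zero j)]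
      choose π hπ1 hπ2 using hline
      have hπ : Function.Injective π := fun i k h => hinj (by
        have e := hπ1 i
        rw [h, hπ1 k] at e
        exact ((htw ⟨g, hg⟩ (ch k)).symm.trans ((congrArg (tw ⟨g, hg⟩⁻¹) e).trans (htw ⟨g, hg⟩ (ch i)))).symm)
      exact ⟨Equiv.ofBijective π (Finite.injective_iff_bijective.mp hπ), hπ2⟩
    · intro x hx y hy
      refine Units.ext (Matrix.toLin'.injective (b.ext fun i => ?_))
      simp only [Matrix.toLin'_apply, Units.val_mul, ← Matrix.mulVec_mulVec, Matrix.mulVec_smul,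
        hch ⟨x, hx⟩, hch ⟨y, hy⟩, smul_smul, mul_comm]
    · obtain ⟨a, rfl⟩ := Submodule.mem_span_singleton.mp hv
      rw [Matrix.mulVec_smul, hch, smul_comm]
  · -- one character: scalars
    left
    intro x hx
    refine mem_scalars_of_eq hn.pos (c := ch i₀ ⟨x, hx⟩) (Matrix.toLin'.injective (b.ext fun i => ?_))
    have hall : (Finset.univ.filter fun k => ch k = ch i₀) = Finset.univ :=
      Finset.eq_univ_of_card _ (by rw [← hc₀, h1, Fintype.card_fin])
    have hi : ch i = ch i₀ := (Finset.mem_filter.mp ((Finset.ext_iff.mp hall i).mpr (Finset.mem_univ i))).2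
    rw [Matrix.toLin'_apply, Matrix.toLin'_apply, hch ⟨x, hx⟩ i, hi, Matrix.smul_mulVec,
      Matrix.one_mulVec]

end CfsgLib.Classical.AschPrime
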