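import Cfsg.Agent.Lib.Classical.AschPrime.Linear

/-!
# The normaliser of a cubic field in `SL(3,4)`

It lies in a subfield group over the prime field.
-/

set_option autoImplicit false

namespace CfsgLib.Classical.AschPrime

open Matrix Cfsg Cfsg.Geo
open scoped MatrixGroups

variable {F : Type*} [Field F]

theorem subfield_two [Fintype F] (h4 : Fintype.card F = 4) :
    ∃ F₀ : Subfield F, Nat.card F₀ = 2 := by
  obtain ⟨p, hp⟩ := CharP.exists F
  obtain ⟨e, hpp, hcard⟩ := FiniteField.card F p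
  have h2 : p = 2 := (Nat.prime_dvd_prime_iff_eq hpp Nat.prime_two).mp
    (hpp.dvd_of_dvd_pow (show p ∣ 2 ^ 2 by
      rw [show (2 : ℕ) ^ 2 = p ^ (e : ℕ) by rw [← hcard, h4]; norm_num]
      exact dvd_pow_self _ e.pos.ne'))
  subst h2
  haveI : Fact (Nat.Prime 2) := ⟨hpp⟩
  letI : Algebra (ZMod 2) F := ZMod.algebra F 2
  refine ⟨(algebraMap (ZMod 2) F).fieldRange, ?_⟩
  exact (Nat.card_range_of_injective (algebraMap (ZMod 2) F).injective).trans (by simp)

/-- In a field of order 64 over a field of order 4, with `w` of order 7, the fixed points of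
`x ↦ x ^ 8` are the sums of `1`, `w`, `w ^ 2`. -/
theorem fixed_eight [Fintype F] (h4 : Fintype.card F = 4) {L : Type*} [Field L] [Algebra F L]
    [Fintype L] (h64 : Fintype.card L = 64) :
    ∃ w : L, w ^ 7 = 1 ∧ LinearIndependent F (fun i : Fin 3 => w ^ (i : ℕ)) ∧
      ∀ x : L, x ^ 8 = x → ∃ f : Fin 3 → F, (∀ i, f i = 0 ∨ f i = 1) ∧
        x = ∑ i, f i • w ^ (i : ℕ) := by
  classical
  obtain ⟨z, hz⟩ := IsCyclic.exists_ofOrder_eq_natCard (α := Lˣ)
  rw [Nat.card_units, Nat.card_eq_fintype_card, h64] at hz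
  set w : L := ((z ^ 9 : Lˣ) : L)
  have hw7 : w ^ 7 = 1 := by
    have h : (z ^ 9) ^ 7 = 1 := by
      rw [← pow_mul, show 9 * 7 = orderOf z from hz.symm ▸ rfl, pow_orderOf_eq_one]
    simpa [w] using congrArg (Units.val : Lˣ → L) h
  have hw1 : w ≠ 1 := by
    intro h
    have h' : z ^ 9 = 1 := Units.ext h
    have := Nat.le_of_dvd (by norm_num) (orderOf_dvd_of_pow_eq_one h')
    omega
  have hfr : Module.finrank F L = 3 := by
    have := Module.card_eq_pow_finrank (K := F) (V := L)
    rw [h64, h4] at this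
    exact Nat.pow_right_injective (le_refl 2 |>.trans (by norm_num : 2 ≤ 4)) (this.symm.trans (by norm_num))
  haveI : FiniteDimensional F L := Module.Finite.of_finite
  have hint : IsIntegral F w := IsIntegral.of_finite F w
  have hdeg : (minpoly F w).natDegree = 3 := by
    have hdvd : (minpoly F w).natDegree ∣ 3 := hfr ▸ minpoly.degree_dvd hint
    refine ((Nat.dvd_prime Nat.prime_three).mp hdvd).resolve_left fun h1 => ?_
    obtain ⟨c, hc⟩ := minpoly.natDegree_eq_one_iff.mp h1
    have hc0 : c ≠ 0 := by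
      rintro rfl
      rw [map_zero] at hc
      rw [← hc, zero_pow (by norm_num)] at hw7
      exact zero_ne_one hw7
    have hc3 := FiniteField.pow_card_sub_one_eq_one c hc0
    rw [h4] at hc3
    have hw3 : w ^ 3 = 1 := by rw [← hc, ← map_pow, hc3, map_one]
    exact hw1 (by
      calc w = w * (w ^ 3) ^ 2 := by rw [hw3, one_pow, mul_one]
        _ = w ^ 7 := by ring
        _ = 1 := hw7)
  have hli : LinearIndependent F (fun i : Fin 3 => w ^ (i : ℕ)) := by
    have h := linearIndependent_pow (K := F) w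
    rw [hdeg] at h
    exact h
  refine ⟨w, hw7, hli, fun x hx => ?_⟩
  have h2F : (2 : F) = 0 := by
    have h : ((4 : ℕ) : F) = 0 := by rw [← h4]; exact Nat.cast_card_eq_zero F
    push_cast at h
    exact mul_self_eq_zero.1 (by linear_combination h)
  have h2 : (2 : L) = 0 := by rw [← map_ofNat (algebraMap F L) 2, h2F, map_zero]
  haveI : CharP L 2 := CharTwo.of_one_ne_zero_of_two_eq_zero one_ne_zero h2
  haveI : ExpChar L 2 := ExpChar.prime Nat.prime_two
  let φ : L →+* L := iterateFrobenius L 2 3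
  have hφ : ∀ a : L, φ a = a ^ 8 := fun a => by simp [φ, iterateFrobenius_def]
  let S : Finset L := Finset.univ.filter fun a => a ^ 8 = a
  let ev : (Fin 3 → Bool) → L := fun b => ∑ i : Fin 3, (if b i then (1 : F) else 0) • w ^ (i : ℕ)
  have hev : Function.Injective ev := by
    intro b b' hbb
    funext i
    have h := Fintype.linearIndependent_iff.mp hli
      (fun i => (if b i then (1 : F) else 0) - if b' i then (1 : F) else 0)
      (by simp only [sub_smul, Finset.sum_sub_distrib]; exact sub_eq_zero.mpr hbb) i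
    cases hb : b i <;> cases hb' : b' i <;> simp_all
  have hmem : ∀ b, ev b ∈ S := by
    intro b
    refine Finset.mem_filter.mpr ⟨Finset.mem_univ _, ?_⟩
    rw [← hφ]
    simp only [ev, map_sum]
    refine Finset.sum_congr rfl fun i _ => ?_
    split
    · rw [one_smul, hφ, ← pow_mul, mul_comm, pow_mul, show (8 : ℕ) = 7 + 1 from rfl, pow_succ, hw7,
        one_mul]
    · rw [zero_smul, map_zero]
  have hS : S.card ≤ 8 := by
    have hne : (Polynomial.X ^ 8 - Polynomial.X : Polynomial L) ≠ 0 :=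
      FiniteField.X_pow_card_sub_X_ne_zero L (by norm_num)
    refine le_trans ?_ (le_trans (Polynomial.card_roots' (Polynomial.X ^ 8 - Polynomial.X : Polynomial L))
      (le_of_eq (FiniteField.X_pow_card_sub_X_natDegree_eq L (by norm_num))))
    refine le_trans (Finset.card_le_card (t := (Polynomial.X ^ 8 - Polynomial.X : Polynomial L).roots.toFinset)
      fun a ha => ?_) (Multiset.toFinset_card_le _)
    rw [Multiset.mem_toFinset, Polynomial.mem_roots hne]
    simp [sub_eq_zero, (Finset.mem_filter.mp ha).2]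
  have himg : Finset.univ.image ev = S :=
    Finset.eq_of_subset_of_card_le (fun a ha => by
      obtain ⟨b, -, rfl⟩ := Finset.mem_image.mp ha
      exact hmem b) (by rw [Finset.card_image_of_injective _ hev]; simpa using hS)
  have hxS : x ∈ Finset.univ.image ev := by
    rw [himg]; exact Finset.mem_filter.mpr ⟨Finset.mem_univ x, hx⟩
  obtain ⟨b, -, hb⟩ := Finset.mem_image.mp hxS
  exact ⟨fun i => if b i then 1 else 0, fun i => by by_cases h : b i <;> simp [h], hb.symm⟩

theorem norm_one_split {L : Type*} [Field L] [Algebra F L] [Fintype F] [Fintype L]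
    (h4 : Fintype.card F = 4) (h64 : Fintype.card L = 64) {a : L} (ha : Algebra.norm F a = 1) :
    ∃ (c : F) (s : L), c ≠ 0 ∧ s ^ 8 = s ∧ a = c • s := by
  have h21 : a ^ 21 = 1 := by
    have h := FiniteField.algebraMap_norm_eq_pow (K := F) (x := a)
    rw [ha, map_one, Nat.card_eq_fintype_card, Nat.card_eq_fintype_card, h4, h64] at h
    exact h.symm
  have ha0 : a ≠ 0 := by rintro rfl; simp at h21
  -- `a ^ 7` is a cube root of unity, hence a scalar
  classical
  have hc : ∃ c : F, algebraMap F L c = a ^ 7 := by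
    by_contra hno
    push Not at hno
    let P : Polynomial L := Polynomial.X ^ 4 - Polynomial.X
    have hP : P ≠ 0 := FiniteField.X_pow_card_sub_X_ne_zero L (by norm_num)
    have hdeg : P.natDegree = 4 := FiniteField.X_pow_card_sub_X_natDegree_eq L (by norm_num)
    have hsub : insert (a ^ 7) (Finset.univ.image (algebraMap F L)) ⊆ P.roots.toFinset := by
      intro y hy
      rw [Multiset.mem_toFinset, Polynomial.mem_roots hP]
      simp only [P, Polynomial.IsRoot.def, Polynomial.eval_sub, Polynomial.eval_pow,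
        Polynomial.eval_X, sub_eq_zero]
      rcases Finset.mem_insert.mp hy with rfl | hy
      · calc (a ^ 7) ^ 4 = a ^ 7 * a ^ 21 := by ring
          _ = a ^ 7 := by rw [h21, mul_one]
      · obtain ⟨c, -, rfl⟩ := Finset.mem_image.mp hy
        have := FiniteField.pow_card c
        rw [h4] at this
        rw [← map_pow, this]
    have h := ((Finset.card_le_card hsub).trans (Multiset.toFinset_card_le _)).trans
      (Polynomial.card_roots' _)
    rw [hdeg, Finset.card_insert_of_notMem (by simpa using hno),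
      Finset.card_image_of_injective _ (algebraMap F L).injective, Finset.card_univ, h4] at h
    omega
  obtain ⟨c, hc⟩ := hc
  have hc0 : c ≠ 0 := by
    rintro rfl
    rw [map_zero] at hc
    exact pow_ne_zero 7 ha0 hc.symm
  refine ⟨c, a ^ 15, hc0, ?_, ?_⟩
  · calc (a ^ 15) ^ 8 = (a ^ 21) ^ 5 * a ^ 15 := by ring
      _ = a ^ 15 := by rw [h21, one_pow, one_mul]
  · rw [Algebra.smul_def, hc]
    calc a = a * a ^ 21 := by rw [h21, mul_one]
      _ = a ^ 7 * a ^ 15 := by ring

open scoped Classical in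
/-- In `SL(3,4)` the normaliser of a cubic field lies in a subfield group. -/
theorem field_four [Fintype F] (h4 : Fintype.card F = 4) {K : Subalgebra F (Mat 3 F)}
    (hK : IsFieldSubalgebra 3 K) :
    ∃ (F₀ : Subfield F) (P : GL (Fin 3) F), Fintype.card F = Nat.card F₀ ^ 2 ∧
      subalgebraNormalizer K ⊓ specialLinear (Fin 3) F ≤ subfieldSubgroup F₀ P := by
  letI : Field K := IsField.toField
    { exists_pair_ne := ⟨0, 1, fun h => zero_ne_one (α := Mat 3 F) (congrArg Subtype.val h)⟩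
      mul_comm := fun a b => Subtype.ext (hK.comm a a.2 b b.2)
      mul_inv_cancel := fun {a} ha => by
        obtain ⟨b, hb, hab⟩ := hK.inv a a.2 fun h => ha (Subtype.ext h)
        exact ⟨⟨b, hb⟩, Subtype.ext hab⟩ }
  haveI : Finite K := inferInstance
  letI : Fintype K := Fintype.ofFinite K
  have h64 : Fintype.card K = 64 := by
    rw [Module.card_eq_pow_finrank (K := F) (V := K), h4, hK.finrank_eq]; norm_num
  obtain ⟨F₀, hF₀⟩ := subfield_two h4
  obtain ⟨w, hw7, hli, hfix⟩ := fixed_eight h4 (L := K) h64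
  let v : Fin 3 → F := Pi.single 0 1
  let Φ : K →ₗ[F] (Fin 3 → F) :=
    { toFun := fun k => (k : Mat 3 F) *ᵥ v
      map_add' := fun a b => by simp [Matrix.add_mulVec]
      map_smul' := fun c a => by simp [Matrix.smul_mulVec] }
  have hinj : Function.Injective Φ := by
    rw [injective_iff_map_eq_zero]
    intro k hk
    by_contra h0
    obtain ⟨y, hy, hky⟩ := hK.inv k k.2 fun h => h0 (Subtype.ext h)
    have h : v = 0 := by
      rw [← Matrix.one_mulVec v, ← hky, hK.comm _ k.2 _ hy, ← Matrix.mulVec_mulVec]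
      change y *ᵥ Φ k = 0
      rw [hk, Matrix.mulVec_zero]
    simpa [v] using congrFun h 0
  haveI : FiniteDimensional F K := Module.Finite.of_finite
  let e : K ≃ₗ[F] (Fin 3 → F) := LinearEquiv.ofBijective Φ ⟨hinj,
    (LinearMap.injective_iff_surjective_of_finrank_eq_finrank (by simp [hK.finrank_eq])).mp hinj⟩
  -- the rational basis
  let P₀ : Mat 3 F := Matrix.of fun i j => Φ (w ^ (j : ℕ)) i
  have hPu : IsUnit P₀ := by
    rw [← Matrix.linearIndependent_cols_iff_isUnit]
    exact hli.map' Φ (LinearMap.ker_eq_bot.mpr hinj)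
  obtain ⟨P, hP⟩ := hPu
  have hP' : ∀ f : Fin 3 → F, P₀ *ᵥ f = Φ (∑ i, f i • w ^ (i : ℕ)) := by
    intro f
    funext i
    change ∑ j, P₀ i j * f j = Φ (∑ j, f j • w ^ (j : ℕ)) i
    rw [map_sum, Finset.sum_apply]
    refine Finset.sum_congr rfl fun j _ => ?_
    simp [P₀, mul_comm]
  refine ⟨F₀, P, by rw [hF₀, h4]; norm_num, fun g hg => ?_⟩
  obtain ⟨hgN, hgS⟩ := Subgroup.mem_inf.mp hg
  set a : K := e.symm ((g : Mat 3 F) *ᵥ v)
  have ha : (a : Mat 3 F) *ᵥ v = (g : Mat 3 F) *ᵥ v := e.apply_symm_apply _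
  let ψ : K → K := fun k =>
    ⟨(g : Mat 3 F) * k * ((g⁻¹ : GL (Fin 3) F) : Mat 3 F), (hgN k).mp k.2⟩
  have hψpow : ∀ (k : K) (m : ℕ), ψ (k ^ m) = ψ k ^ m := fun k m => Subtype.ext <| by
    simp only [ψ, SubmonoidClass.coe_pow]
    exact (Units.conj_pow g (k : Mat 3 F) m).symm
  have hgk : ∀ k : K, (g : Mat 3 F) *ᵥ Φ k = Φ (ψ k * a) := fun k => by
    change (g : Mat 3 F) *ᵥ ((k : Mat 3 F) *ᵥ v) = ((ψ k * a : K) : Mat 3 F) *ᵥ v
    rw [MulMemClass.coe_mul, ← Matrix.mulVec_mulVec _ ((ψ k : K) : Mat 3 F) (a : Mat 3 F), ha,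
      Matrix.mulVec_mulVec, Matrix.mulVec_mulVec]
    simp [ψ, mul_assoc]
  have hw8 : w ^ 8 = w := by rw [show (8 : ℕ) = 7 + 1 from rfl, pow_succ, hw7, one_mul]
  have hψ8 : ∀ i : ℕ, (ψ (w ^ i)) ^ 8 = ψ (w ^ i) := fun i => by
    rw [← hψpow, ← pow_mul, mul_comm, pow_mul, hw8]
  -- the semilinear part is rational, of determinant one
  choose U hU01 hU using fun j : Fin 3 => hfix _ (hψ8 (j : ℕ))
  let U₀ : Mat 3 F := Matrix.of fun i j => U j i
  let M : Mat 3 F := (a : Mat 3 F)
  have hgP : (g : Mat 3 F) * P₀ = M * (P₀ * U₀) := by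
    ext i j
    rw [show ((g : Mat 3 F) * P₀) i j = ((g : Mat 3 F) *ᵥ Φ (w ^ (j : ℕ))) i from rfl, hgk,
      show (M * (P₀ * U₀)) i j = (M *ᵥ (P₀ *ᵥ U j)) i from rfl, hP', ← hU]
    change _ = (M *ᵥ ((ψ (w ^ (j : ℕ)) : K) : Mat 3 F) *ᵥ v) i
    rw [Matrix.mulVec_mulVec, mul_comm (ψ _) a]
    rfl
  have hUdet : U₀.det = 1 := by
    have h01 : U₀.det ∈ F₀ := by
      rw [Matrix.det_apply]
      refine F₀.sum_mem fun σ _ => F₀.toSubring.zsmul_mem (F₀.prod_mem fun i _ => ?_) _
      rcases hU01 i (σ i) with h | h <;> simp [U₀, h, F₀.zero_mem, F₀.one_mem]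
    have hne : U₀.det ≠ 0 := by
      intro h0
      have h := congrArg Matrix.det hgP
      rw [Matrix.det_mul, Matrix.det_mul, Matrix.det_mul, h0, mul_zero, mul_zero, ← hP] at h
      exact (((Matrix.isUnit_iff_isUnit_det _).mp g.isUnit).mul
        ((Matrix.isUnit_iff_isUnit_det _).mp P.isUnit)).ne_zero h
    haveI : Fintype F₀ := Fintype.ofFinite F₀
    have := FiniteField.pow_card_sub_one_eq_one (⟨U₀.det, h01⟩ : F₀)
      fun h => hne (congrArg Subtype.val h)
    rw [Fintype.card_eq_nat_card, hF₀] at this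
    simpa using congrArg Subtype.val this
  have hgdet : (g : Mat 3 F).det = 1 := congrArg Units.val (MonoidHom.mem_ker.mp hgS)
  have hMdet : M.det = 1 := by
    have h := congrArg Matrix.det hgP
    rw [Matrix.det_mul, Matrix.det_mul, Matrix.det_mul, hUdet, hgdet, one_mul, mul_one] at h
    have hPne : P₀.det ≠ 0 := by
      rw [← hP]; exact ((Matrix.isUnit_iff_isUnit_det _).mp P.isUnit).ne_zero
    exact mul_right_cancel₀ hPne (h.symm.trans (one_mul _).symm)
  have hnorm : Algebra.norm F a = 1 := by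
    have hconj : Matrix.toLin' M =
        (e : K →ₗ[F] (Fin 3 → F)) ∘ₗ Algebra.lmul F K a ∘ₗ (e.symm : (Fin 3 → F) →ₗ[F] K) := by
      refine LinearMap.ext fun u => ?_
      obtain ⟨k, rfl⟩ := e.surjective u
      simp only [LinearMap.comp_apply, LinearEquiv.coe_coe, LinearEquiv.symm_apply_apply,
        Matrix.toLin'_apply, Algebra.coe_lmul_eq_mul, LinearMap.mul_apply']
      change M *ᵥ ((k : Mat 3 F) *ᵥ v) = ((a * k : K) : Mat 3 F) *ᵥ v
      rw [Matrix.mulVec_mulVec]; rfl
    rw [Algebra.norm_apply, ← LinearMap.det_conj _ e, ← hconj, LinearMap.det_toLin', hMdet]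
  obtain ⟨c, s, hc0, hs, has⟩ := norm_one_split h4 h64 hnorm
  choose T hT01 hT using fun j : Fin 3 =>
    hfix (ψ (w ^ (j : ℕ)) * s) (by rw [mul_pow, hψ8, hs])
  let T₀ : Matrix (Fin 3) (Fin 3) F₀ := fun i j =>
    ⟨T j i, by rcases hT01 j i with h | h <;> simp [h, F₀.zero_mem, F₀.one_mem]⟩
  have hgT : (g : Mat 3 F) * P₀ = c • (P₀ * T₀.map F₀.subtype) := by
    ext i j
    rw [show ((g : Mat 3 F) * P₀) i j = ((g : Mat 3 F) *ᵥ Φ (w ^ (j : ℕ))) i from rfl, hgk, has,
      mul_smul_comm, map_smul, hT j, Matrix.smul_apply, Pi.smul_apply, ← hP']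
    rfl
  have hTdet : T₀.det ≠ 0 := by
    intro h0
    have h1 : (T₀.map F₀.subtype).det = 0 := by
      rw [← RingHom.mapMatrix_apply, ← RingHom.map_det, h0, map_zero]
    have h := congrArg Matrix.det hgT
    rw [Matrix.det_mul, Matrix.det_smul, Matrix.det_mul, h1, mul_zero, mul_zero, hgdet,
      one_mul, ← hP] at h
    exact ((Matrix.isUnit_iff_isUnit_det _).mp P.isUnit).ne_zero h
  let t : GL (Fin 3) F₀ := Matrix.GeneralLinearGroup.mkOfDetNeZero T₀ hTdet
  let z : GL (Fin 3) F := Units.map (Matrix.scalar (Fin 3) : F →+* Mat 3 F).toMonoidHom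
    (Units.mk0 c hc0)
  refine Subgroup.mem_map.mpr ⟨z * Matrix.GeneralLinearGroup.map F₀.subtype t,
    Subgroup.mul_mem _ (Subgroup.mem_sup_right ⟨_, rfl⟩) (Subgroup.mem_sup_left ⟨_, rfl⟩), ?_⟩
  change P * (z * Matrix.GeneralLinearGroup.map F₀.subtype t) * P⁻¹ = g
  refine mul_inv_eq_iff_eq_mul.mpr (Units.ext ?_)
  rw [Units.val_mul, Units.val_mul, Units.val_mul, hP, hgT]
  change P₀ * (Matrix.scalar (Fin 3) c * T₀.map F₀.subtype) = _
  rw [Matrix.scalar_apply, ← Matrix.smul_eq_diagonal_mul, Matrix.mul_smul]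

end CfsgLib.Classical.AschPrime
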