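import Mathlib

/-!
# A subgroup of `SU(5,2)` containing the normaliser of a quintic field: the table computations

The field with four elements is coded by `Fin 4` as `0`, `1`, `w`, `w + 1`.
-/

set_option autoImplicit false

namespace CfsgLib.Classical.AschPrime.FiveTwo

/-- Coded addition. -/
def addT (x y : Fin 4) : Fin 4 :=
  (![![0, 1, 2, 3], ![1, 0, 3, 2], ![2, 3, 0, 1], ![3, 2, 1, 0]] : Fin 4 → Fin 4 → Fin 4) x y

/-- Coded multiplication. -/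
def mulT (x y : Fin 4) : Fin 4 :=
  (![![0, 0, 0, 0], ![0, 1, 2, 3], ![0, 2, 3, 1], ![0, 3, 1, 2]] : Fin 4 → Fin 4 → Fin 4) x y

/-- Coded conjugation. -/
def conjT (x : Fin 4) : Fin 4 := (![0, 1, 3, 2] : Fin 4 → Fin 4) x

/-- Coded matrices. -/
abbrev Code := Fin 5 → Fin 5 → Fin 4

/-- Coded inner product. -/
def dotC (u v : Fin 5 → Fin 4) : Fin 4 :=
  addT (addT (addT (addT (mulT (u 0) (v 0)) (mulT (u 1) (v 1))) (mulT (u 2) (v 2))) (mulT (u 3) (v 3)))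
    (mulT (u 4) (v 4))

/-- Coded product. -/
def mulC (M N : Code) : Code := fun i j => dotC (M i) fun k => N k j

/-- Coded action on vectors. -/
def appC (M : Code) (v : Fin 5 → Fin 4) : Fin 5 → Fin 4 := fun i => dotC (M i) v

/-- Coded conjugate transpose. -/
def starC (M : Code) : Code := fun i j => conjT (M j i)

/-- Coded trace. -/
def traceC (M : Code) : Fin 4 := addT (addT (addT (addT (M 0 0) (M 1 1)) (M 2 2)) (M 3 3)) (M 4 4)

/-- The identity. -/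
def oneC : Code := ![![1, 0, 0, 0, 0], ![0, 1, 0, 0, 0], ![0, 0, 1, 0, 0], ![0, 0, 0, 1, 0], ![0, 0, 0, 0, 1]]

/-- An element of order eleven. -/
def aC : Code := ![![0, 0, 2, 1, 3], ![0, 1, 0, 1, 3], ![2, 0, 0, 2, 1], ![1, 1, 2, 3, 1], ![3, 3, 1, 1, 1]]

/-- An element of order five normalising it. -/
def bC : Code := ![![0, 0, 0, 0, 1], ![1, 0, 0, 0, 0], ![0, 1, 0, 0, 0], ![0, 0, 1, 0, 0], ![0, 0, 0, 1, 0]]

/-- An involution. -/
def wC : Code := ![![0, 1, 0, 0, 0], ![1, 0, 0, 0, 0], ![0, 0, 0, 0, 1], ![0, 0, 0, 1, 0], ![0, 0, 1, 0, 0]]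

/-- An involution outside the stabiliser of `orbit`. -/
def gC : Code := ![![0, 1, 0, 0, 0], ![1, 0, 0, 0, 0], ![0, 0, 0, 1, 0], ![0, 0, 1, 0, 0], ![0, 0, 0, 0, 1]]

/-- The powers of `aC`. -/
def aPow : Fin 11 → Code := ![![![1, 0, 0, 0, 0], ![0, 1, 0, 0, 0], ![0, 0, 1, 0, 0], ![0, 0, 0, 1, 0], ![0, 0, 0, 0, 1]],
  ![![0, 0, 2, 1, 3], ![0, 1, 0, 1, 3], ![2, 0, 0, 2, 1], ![1, 1, 2, 3, 1], ![3, 3, 1, 1, 1]],
  ![![0, 3, 1, 3, 0], ![3, 2, 1, 1, 1], ![1, 1, 1, 2, 2], ![3, 1, 2, 0, 0], ![0, 1, 2, 0, 1]],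
  ![![1, 0, 1, 3, 0], ![0, 0, 2, 1, 2], ![1, 2, 3, 1, 1], ![3, 1, 1, 1, 3], ![0, 2, 1, 3, 0]],
  ![![1, 3, 3, 1, 1], ![3, 0, 0, 2, 1], ![3, 0, 1, 0, 1], ![1, 2, 0, 0, 2], ![1, 1, 1, 2, 3]],
  ![![3, 1, 1, 1, 2], ![1, 1, 3, 3, 1], ![1, 3, 0, 0, 2], ![1, 3, 0, 1, 0], ![2, 1, 2, 0, 0]],
  ![![2, 1, 1, 1, 3], ![1, 1, 2, 2, 1], ![1, 2, 0, 0, 3], ![1, 2, 0, 1, 0], ![3, 1, 3, 0, 0]],
  ![![1, 2, 2, 1, 1], ![2, 0, 0, 3, 1], ![2, 0, 1, 0, 1], ![1, 3, 0, 0, 3], ![1, 1, 1, 3, 2]],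
  ![![1, 0, 1, 2, 0], ![0, 0, 3, 1, 3], ![1, 3, 2, 1, 1], ![2, 1, 1, 1, 2], ![0, 3, 1, 2, 0]],
  ![![0, 2, 1, 2, 0], ![2, 3, 1, 1, 1], ![1, 1, 1, 3, 3], ![2, 1, 3, 0, 0], ![0, 1, 3, 0, 1]],
  ![![0, 0, 3, 1, 2], ![0, 1, 0, 1, 2], ![3, 0, 0, 3, 1], ![1, 1, 3, 2, 1], ![2, 2, 1, 1, 1]]]

/-- The columns are the first five powers of `aC` applied to the first unit vector. -/
def basis : Code := ![![1, 0, 0, 1, 1], ![0, 0, 3, 0, 3], ![0, 2, 1, 1, 3], ![0, 1, 3, 3, 1], ![0, 3, 0, 0, 1]]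

/-- The inverse of `basis`. -/
def basisInv : Code := ![![1, 2, 1, 0, 3], ![0, 0, 2, 3, 2], ![0, 2, 1, 2, 0], ![0, 2, 0, 2, 3], ![0, 0, 1, 2, 0]]

/-- An invariant set of vectors. -/
def orbit : List (Fin 5 → Fin 4) := [
  ![0, 0, 1, 1, 1], ![0, 1, 0, 2, 3], ![0, 1, 0, 3, 2], ![0, 1, 1, 1, 0],
  ![0, 2, 0, 3, 3], ![0, 2, 2, 0, 3], ![0, 2, 3, 0, 1], ![0, 3, 0, 2, 2],
  ![0, 3, 2, 0, 1], ![0, 3, 3, 0, 2], ![1, 0, 0, 1, 1], ![1, 0, 2, 3, 0],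
  ![1, 0, 3, 2, 0], ![1, 1, 0, 0, 1], ![1, 1, 1, 0, 0], ![1, 1, 2, 3, 2],
  ![1, 1, 3, 2, 3], ![1, 2, 1, 2, 2], ![1, 2, 2, 1, 2], ![1, 2, 2, 3, 3],
  ![1, 2, 3, 2, 1], ![1, 3, 1, 3, 3], ![1, 3, 2, 3, 1], ![1, 3, 3, 1, 3],
  ![1, 3, 3, 2, 2], ![2, 0, 1, 0, 3], ![2, 0, 3, 0, 2], ![2, 0, 3, 3, 0],
  ![2, 1, 1, 2, 3], ![2, 1, 2, 1, 2], ![2, 1, 2, 2, 1], ![2, 1, 3, 3, 2],
  ![2, 2, 0, 3, 0], ![2, 2, 1, 2, 1], ![2, 2, 1, 3, 3], ![2, 2, 3, 3, 1],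
  ![2, 3, 0, 1, 0], ![2, 3, 1, 1, 3], ![2, 3, 2, 1, 1], ![2, 3, 3, 1, 2],
  ![3, 0, 1, 0, 2], ![3, 0, 2, 0, 3], ![3, 0, 2, 2, 0], ![3, 1, 1, 3, 2],
  ![3, 1, 2, 2, 3], ![3, 1, 3, 1, 3], ![3, 1, 3, 3, 1], ![3, 2, 0, 1, 0],
  ![3, 2, 1, 1, 2], ![3, 2, 2, 1, 3], ![3, 2, 3, 1, 1], ![3, 3, 0, 2, 0],
  ![3, 3, 1, 2, 2], ![3, 3, 1, 3, 1], ![3, 3, 2, 2, 1]]

/-- A vector moved out of `orbit` by `gC`. -/
def moved : Fin 5 → Fin 4 := ![0, 1, 0, 2, 3]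

/-- The combination of powers of `aC` with coded coefficients. -/
def polyC (c : Fin 5 → Fin 4) : Code := fun i j => dotC c fun k => aPow (k.castLE (by omega)) i j

/-- A scalar multiple. -/
def smulC (k : Fin 4) (M : Code) : Code := fun i j => mulT k (M i j)

/-- The test on a combination commuting with `aC`: if unitary it is a scalar times a power. -/
def polyTest (c : Fin 5 → Fin 4) : Bool :=
  !decide (mulC (starC (polyC c)) (polyC c) = oneC) ||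
    (List.finRange 11).any fun i => (List.finRange 3).any fun k => decide (polyC c = smulC k.succ (aPow i))

/-- Membership in the orbit. -/
def inOrbit (v : Fin 5 → Fin 4) : Bool := orbit.any fun w => decide (v = w)

theorem star_a : mulC (starC aC) aC = oneC := by decide +kernel
theorem star_b : mulC (starC bC) bC = oneC := by decide +kernel
theorem star_w : mulC (starC wC) wC = oneC := by decide +kernel
theorem star_g : mulC (starC gC) gC = oneC := by decide +kernel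
theorem w_sq : mulC wC wC = oneC := by decide +kernel
theorem g_sq : mulC gC gC = oneC := by decide +kernel
theorem aPow_zero : aPow 0 = oneC := by decide +kernel
theorem aPow_succ : ∀ i : Fin 11, aPow (i + 1) = mulC (aPow i) aC := by decide +kernel
theorem b_conj : mulC (mulC bC aC) (starC bC) = aPow 4 := by decide +kernel
theorem b_five : mulC (mulC (mulC (mulC bC bC) bC) bC) bC = oneC := by decide +kernel
theorem basis_eq : ∀ i j : Fin 5, basis i j = aPow (j.castLE (by omega)) i 0 := by decide +kernel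
theorem basis_inv : mulC basisInv basis = oneC := by decide +kernel
theorem trace_pow : ∀ i : Fin 11, traceC (aPow i) = traceC aC → i ∈ ([1, 3, 4, 5, 9] : List (Fin 11)) := by
  decide +kernel
theorem w_moves : ∀ i : Fin 11, mulC (mulC wC aC) wC ≠ aPow i := by decide +kernel
theorem orbit_a : orbit.all (fun v => inOrbit (appC aC v)) = true := by decide +kernel
theorem orbit_b : orbit.all (fun v => inOrbit (appC bC v)) = true := by decide +kernel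
theorem orbit_w : orbit.all (fun v => inOrbit (appC wC v)) = true := by decide +kernel
theorem moved_mem : inOrbit moved = true := by decide +kernel
theorem moved_not : inOrbit (appC gC moved) = false := by decide +kernel
theorem poly_all : ∀ c0 c1 c2 c3 c4 : Fin 4, polyTest ![c0, c1, c2, c3, c4] = true := by decide +kernel

end CfsgLib.Classical.AschPrime.FiveTwo
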