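import Cfsg.Agent.Lib.Classical.AschPrime.UnitaryCases
import Cfsg.Agent.Lib.Classical.AschPrime.FiveTwoData

/-!
# In `SU(5,2)` the normaliser of a quintic field is not maximal

It lies in a subgroup isomorphic to `PSL(2,11)`, realised as the stabiliser of a set of vectors.
-/

set_option autoImplicit false
set_option linter.style.haveILetI false

namespace CfsgLib.Classical.AschPrime.FiveTwo

open Matrix Cfsg Cfsg.Geo
open scoped MatrixGroups

variable {F : Type*} [Field F] {w : F} {σ : F →+* F}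

/-- The decoding. -/
def dec (w : F) (x : Fin 4) : F := (![0, 1, w, w + 1] : Fin 4 → F) x

/-- The decoding of a matrix. -/
def toMat (w : F) (M : Code) : Matrix (Fin 5) (Fin 5) F := Matrix.of fun i j => dec w (M i j)

theorem two_eq_zero [Fintype F] (hF : Fintype.card F = 4) : (2 : F) = 0 := by
  have h : ((4 : ℕ) : F) = 0 := by rw [← hF]; exact Nat.cast_card_eq_zero F
  push_cast at h
  exact mul_self_eq_zero.1 (by linear_combination h)

theorem exists_root [Fintype F] (hF : Fintype.card F = 4) :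
    ∃ x : F, x * x = x + 1 := by
  classical
  obtain ⟨x, hx⟩ : ∃ x : F, x ∉ ({0, 1} : Finset F) := by
    by_contra h
    push Not at h
    have := (Finset.card_le_card (fun x _ => h x : Finset.univ ⊆ ({0, 1} : Finset F))).trans Finset.card_le_two
    rw [Finset.card_univ, hF] at this
    omega
  simp only [Finset.mem_insert, Finset.mem_singleton, not_or] at hx
  have h := FiniteField.pow_card_sub_one_eq_one x hx.1
  rw [hF] at h
  have h2 := two_eq_zero hF
  refine ⟨x, ?_⟩
  have : (x - 1) * (x * x + x + 1) = 0 := by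
    linear_combination h
  have := (mul_eq_zero.mp this).resolve_left (sub_ne_zero.mpr hx.2)
  linear_combination this - (x + 1) * h2

section Decode

variable [Fintype F] (hF : Fintype.card F = 4) (hw : w * w = w + 1)
include hF hw

theorem dec_add (x y : Fin 4) : dec w (addT x y) = dec w x + dec w y := by
  have h2 := two_eq_zero hF
  fin_cases x <;> fin_cases y <;> simp [addT, dec] <;> grind

theorem dec_mul (x y : Fin 4) : dec w (mulT x y) = dec w x * dec w y := by
  have h2 := two_eq_zero hF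
  fin_cases x <;> fin_cases y <;> simp [mulT, dec] <;> grind

theorem dec_inj : Function.Injective (dec w) := by
  have h2 := two_eq_zero hF
  have h0 : w ≠ 0 := fun h => by simp [h] at hw
  have h1 : w ≠ 1 := fun h => by simp [h] at hw
  intro x y hxy
  fin_cases x <;> fin_cases y <;> simp [dec] at hxy ⊢ <;> grind

theorem dec_surj : Function.Surjective (dec w) :=
  ((Fintype.bijective_iff_injective_and_card _).mpr ⟨dec_inj hF hw, by simp [hF]⟩).2

theorem dec_conj (hσ : ∀ x, σ x = x ^ 2) (x : Fin 4) : σ (dec w x) = dec w (conjT x) := by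
  have h2 := two_eq_zero hF
  rw [hσ]
  fin_cases x <;> simp [conjT, dec] <;> grind

theorem dec_dot (u v : Fin 5 → Fin 4) : dec w (dotC u v) = ∑ k, dec w (u k) * dec w (v k) := by
  simp only [dotC, dec_add hF hw, dec_mul hF hw, Fin.sum_univ_five]

theorem toMat_mul (M N : Code) : toMat w (mulC M N) = toMat w M * toMat w N := by
  ext i j
  simp [toMat, mulC, dec_dot hF hw, Matrix.mul_apply]

theorem toMat_app (M : Code) (v : Fin 5 → Fin 4) :
    toMat w M *ᵥ (fun i => dec w (v i)) = fun i => dec w (appC M v i) := by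
  funext i
  simp [toMat, appC, dec_dot hF hw, Matrix.mulVec, dotProduct]

theorem toMat_trace (M : Code) : (toMat w M).trace = dec w (traceC M) := by
  simp [Matrix.trace, traceC, toMat, dec_add hF hw, Fin.sum_univ_five]

theorem toMat_star (hσ : ∀ x, σ x = x ^ 2) (M : Code) :
    ((toMat w M).map σ)ᵀ = toMat w (starC M) := by
  ext i j
  simp [toMat, starC, dec_conj hF hw hσ]

theorem toMat_inj : Function.Injective (toMat w) := fun M N h =>
  funext fun i => funext fun j => dec_inj hF hw (congrFun (congrFun h i) j)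

omit hw in
theorem toMat_one : toMat w oneC = 1 := by
  ext i j
  fin_cases i <;> fin_cases j <;> simp [toMat, oneC, dec]

end Decode

theorem mem_GU_of_star (hσ : ∀ x, σ x = x ^ 2) (hc : IsConjugation σ) {g : GL (Fin 5) F}
    (h : ((g : Mat 5 F).map σ)ᵀ * (g : Mat 5 F) = 1) : g ∈ Cfsg.GU 5 F 2 := by
  intro u v
  change Cfsg.hermForm 5 F 2 ((g : Mat 5 F) *ᵥ u) ((g : Mat 5 F) *ᵥ v) = _
  rw [herm_adjoint hσ hc, Matrix.mulVec_mulVec, h, Matrix.one_mulVec]

theorem det_eq_one [Fintype F] (hF : Fintype.card F = 4) {g : GL (Fin 5) F} {k : ℕ}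
    (hk : Nat.Coprime k 3) (h : g ^ k = 1) : (g : Mat 5 F).det = 1 := by
  have h1 : (g : Mat 5 F).det ^ k = 1 := by
    rw [← Matrix.det_pow, ← Units.val_pow_eq_pow_val, h, Units.val_one, Matrix.det_one]
  have h3 : (g : Mat 5 F).det ^ 3 = 1 := by
    have := FiniteField.pow_card_sub_one_eq_one (g : Mat 5 F).det
      ((Matrix.isUnit_iff_isUnit_det _).mp g.isUnit).ne_zero
    rwa [hF] at this
  have h31 := pow_gcd_eq_one.mpr ⟨h1, h3⟩
  rwa [hk, pow_one] at h31

theorem eleven_sq_not_dvd [Fintype F] (hF : Fintype.card F = 4) :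
    ¬ 11 ^ 2 ∣ Nat.card (GL (Fin 5) F) := by
  rw [Matrix.card_GL_field, Fin.prod_univ_five, hF]
  norm_num

open scoped Classical in
/-- The special normaliser of the standard torus of order eleven stabilises a set of vectors, while the
group does not. -/
theorem exists_stabiliser [Fintype F] (hF : Fintype.card F = 4) :
    ∃ (z : GL (Fin 5) F) (X : Subgroup (GL (Fin 5) F)), z ∈ suG 5 F 2 ∧ orderOf z = 11 ∧
      X ≤ suG 5 F 2 ∧ X ≠ suG 5 F 2 ∧
      (∀ x ∈ suG 5 F 2, x * z * x⁻¹ ∈ Subgroup.zpowers z → x ∈ X) ∧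
      ∃ x ∈ X, x * z * x⁻¹ ∉ Subgroup.zpowers z := by
  obtain ⟨σ, hσ, hc⟩ := exists_frob (show Fintype.card F = 2 ^ 2 by rw [hF]; norm_num)
  obtain ⟨w, hw⟩ := exists_root hF
  have hmk : ∀ M : Code, mulC (starC M) M = oneC →
      ∃ g : GL (Fin 5) F, (g : Mat 5 F) = toMat w M ∧ ((g⁻¹ : GL (Fin 5) F) : Mat 5 F) = toMat w (starC M) ∧
        g ∈ Cfsg.GU 5 F 2 := by
    intro M hM
    have h : toMat w (starC M) * toMat w M = 1 := by
      rw [← toMat_mul hF hw, hM, toMat_one hF]
    let g : GL (Fin 5) F := ⟨toMat w M, toMat w (starC M), mul_eq_one_comm.mp h, h⟩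
    refine ⟨g, rfl, rfl, mem_GU_of_star hσ hc ?_⟩
    change ((toMat w M).map σ)ᵀ * toMat w M = 1
    rw [toMat_star hF hw hσ, h]
  obtain ⟨A, hA, hAi, hAU⟩ := hmk aC star_a
  obtain ⟨B, hB, hBi, hBU⟩ := hmk bC star_b
  obtain ⟨W, hW, hWi, hWU⟩ := hmk wC star_w
  obtain ⟨T, hT, hTi, hTU⟩ := hmk gC star_g
  have hsq : ∀ (M : Code) (g : GL (Fin 5) F), (g : Mat 5 F) = toMat w M → mulC M M = oneC →
      g ^ 2 = 1 := fun M g hg hM => Units.ext (by
    rw [pow_two, Units.val_mul, hg, ← toMat_mul hF hw, hM, toMat_one hF, Units.val_one])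
  have hW2 := hsq _ _ hW w_sq
  have hT2 := hsq _ _ hT g_sq
  have hpow : ∀ i : Fin 11, ((A ^ (i : ℕ) : GL (Fin 5) F) : Mat 5 F) = toMat w (aPow i) := by
    intro i
    induction i using Fin.induction with
    | zero => simp [aPow_zero, toMat_one hF]
    | succ i ih =>
      rw [Fin.val_succ, pow_succ, Units.val_mul, hA, show (i.succ : Fin 11) = i.castSucc + 1 from
        (Fin.coeSucc_eq_succ (a := i)).symm, aPow_succ, toMat_mul hF hw]
      rw [← ih]
      rfl
  have hA11 : A ^ 11 = 1 := by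
    apply Units.ext
    rw [pow_succ, Units.val_mul, show (10 : ℕ) = ((10 : Fin 11) : ℕ) from rfl, hpow, hA,
      ← toMat_mul hF hw, ← aPow_succ, show ((10 : Fin 11) + 1) = 0 from rfl, aPow_zero, toMat_one hF,
      Units.val_one]
  have hpow' : ∀ m : ℕ, ((A ^ m : GL (Fin 5) F) : Mat 5 F) = toMat w (aPow (Fin.ofNat 11 m)) := fun m => by
    rw [← hpow, Fin.val_ofNat]
    exact congrArg Units.val (pow_eq_pow_mod m hA11)
  have hB5 : B ^ 5 = 1 := by
    apply Units.ext
    simp only [pow_succ, pow_zero, one_mul, Units.val_mul, hB, ← toMat_mul hF hw, b_five, toMat_one hF,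
      Units.val_one]
  have hAS : A ∈ suG 5 F 2 := mem_suG.mpr ⟨hAU, det_eq_one hF (k := 11) (by norm_num) hA11⟩
  have hBS : B ∈ suG 5 F 2 := mem_suG.mpr ⟨hBU, det_eq_one hF (k := 5) (by norm_num) hB5⟩
  have hWS : W ∈ suG 5 F 2 := mem_suG.mpr ⟨hWU, det_eq_one hF (k := 2) (by norm_num) hW2⟩
  have hTS : T ∈ suG 5 F 2 := mem_suG.mpr ⟨hTU, det_eq_one hF (k := 2) (by norm_num) hT2⟩
  let S : Set (Fin 5 → F) := (fun v i => dec w (v i)) '' {v | inOrbit v = true}
  let Y : Subgroup (GL (Fin 5) F) :=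
    { carrier := {g | (fun v => (g : Mat 5 F) *ᵥ v) '' S = S}
      mul_mem' := fun {g h} hg hh => by
        calc (fun v => ((g * h : GL (Fin 5) F) : Mat 5 F) *ᵥ v) '' S
            = (fun v => (g : Mat 5 F) *ᵥ v) '' ((fun v => (h : Mat 5 F) *ᵥ v) '' S) := by
              rw [Set.image_image (fun v => (g : Mat 5 F) *ᵥ v) (fun v => (h : Mat 5 F) *ᵥ v) S]
              refine congrArg (fun f : (Fin 5 → F) → (Fin 5 → F) => f '' S) (funext fun v => ?_)
              rw [Units.val_mul, Matrix.mulVec_mulVec]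
          _ = S := by rw [hh, hg]
      one_mem' := by simp
      inv_mem' := fun {g} hg => by
        show (fun v => ((g⁻¹ : GL (Fin 5) F) : Mat 5 F) *ᵥ v) '' S = S
        conv_lhs => rw [← hg]
        rw [Set.image_image]
        simp [Matrix.mulVec_mulVec] }
  have hgenY : ∀ (M : Code) (g : GL (Fin 5) F), (g : Mat 5 F) = toMat w M →
      orbit.all (fun v => inOrbit (appC M v)) = true → g ∈ Y := by
    intro M g hg hall
    have hsub : (fun v => (g : Mat 5 F) *ᵥ v) '' S ⊆ S := by
      rintro _ ⟨_, ⟨v, hv, rfl⟩, rfl⟩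
      obtain ⟨u, hu, he⟩ := List.any_eq_true.mp hv
      obtain rfl := of_decide_eq_true he
      exact ⟨appC M v, List.all_eq_true.mp hall v hu, by simp only [hg, toMat_app hF hw]⟩
    refine Set.eq_of_subset_of_ncard_le hsub (le_of_eq ?_) (Set.toFinite _)
    rw [Set.ncard_image_of_injective _ (Matrix.mulVec_injective_of_isUnit g.isUnit)]
  have hAY := hgenY _ _ hA orbit_a
  have hBY := hgenY _ _ hB orbit_b
  have hWY := hgenY _ _ hW orbit_w
  have hTY : T ∉ Y := by
    intro h
    have hm : (T : Mat 5 F) *ᵥ (fun i => dec w (moved i)) ∈ S :=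
      h.le ⟨_, ⟨moved, moved_mem, rfl⟩, rfl⟩
    rw [hT, toMat_app hF hw] at hm
    obtain ⟨v, hv, he⟩ := hm
    have : v = appC gC moved := funext fun i => dec_inj hF hw (congrFun he i)
    rw [Set.mem_ofPred_eq, this, moved_not] at hv
    exact Bool.false_ne_true hv
  have hA1 : A ≠ 1 := by
    intro h
    have := congrArg Units.val h
    rw [hA, Units.val_one, ← toMat_one hF (w := w)] at this
    exact absurd (toMat_inj hF hw this) (by decide +kernel)
  have hAo : orderOf A = 11 := orderOf_eq_prime (hp := ⟨by norm_num⟩) hA11 hA1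
  -- the centraliser of `A`
  have hcent : ∀ x ∈ suG 5 F 2, x * A = A * x → x ∈ Y := by
    intro x hx hcomm
    obtain ⟨hxU, hxd⟩ := mem_suG.mp hx
    have hxA : ∀ k : ℕ, (x : Mat 5 F) * ((A ^ k : GL (Fin 5) F) : Mat 5 F) =
        ((A ^ k : GL (Fin 5) F) : Mat 5 F) * x := fun k => by
      rw [← Units.val_mul, ← Units.val_mul, (show Commute x (A ^ k) from Commute.pow_right hcomm k).eq]
    let Bm := toMat w basis
    have hBm : toMat w basisInv * Bm = 1 := by rw [← toMat_mul hF hw, basis_inv, toMat_one hF]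
    choose c hcd using fun k => dec_surj hF hw
      ((toMat w basisInv *ᵥ ((x : Mat 5 F) *ᵥ Pi.single 0 1)) k)
    let P : Mat 5 F := toMat w (polyC c)
    have hP : P = ∑ k : Fin 5, dec w (c k) • ((A ^ (k : ℕ) : GL (Fin 5) F) : Mat 5 F) := by
      ext i j
      simp only [P, toMat, polyC, Matrix.of_apply, dec_dot hF hw, Matrix.sum_apply, Matrix.smul_apply,
        smul_eq_mul]
      refine Finset.sum_congr rfl fun k _ => ?_
      rw [show ((k : ℕ)) = ((k.castLE (by omega) : Fin 11) : ℕ) from rfl, hpow]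
      rfl
    have hBcol : ∀ (k : Fin 5), Bm *ᵥ Pi.single k 1 =
        ((A ^ (k : ℕ) : GL (Fin 5) F) : Mat 5 F) *ᵥ Pi.single 0 1 := by
      intro k
      funext i
      rw [Matrix.mulVec_single_one, Matrix.mulVec_single_one,
        show ((k : ℕ)) = ((k.castLE (by omega) : Fin 11) : ℕ) from rfl, hpow]
      simp [Bm, toMat, basis_eq]
    have hP0 : P *ᵥ Pi.single 0 1 = (x : Mat 5 F) *ᵥ Pi.single 0 1 := by
      have h1 : Bm *ᵥ (fun k => dec w (c k)) = (x : Mat 5 F) *ᵥ Pi.single 0 1 := by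
        rw [show (fun k => dec w (c k)) = toMat w basisInv *ᵥ ((x : Mat 5 F) *ᵥ Pi.single 0 1) from
          funext hcd, Matrix.mulVec_mulVec, mul_eq_one_comm.mp hBm, Matrix.one_mulVec]
      rw [← h1, hP, Matrix.sum_mulVec]
      funext i
      simp only [Finset.sum_apply, Matrix.smul_mulVec, Pi.smul_apply, smul_eq_mul]
      rw [Matrix.mulVec, dotProduct]
      refine Finset.sum_congr rfl fun k _ => ?_
      rw [← congrFun (hBcol k) i, Matrix.mulVec_single_one, mul_comm]
      rfl
    have hxP : (x : Mat 5 F) = P := by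
      have h : (x : Mat 5 F) * Bm = P * Bm := by
        refine Matrix.ext_of_mulVec_single fun k => ?_
        rw [← Matrix.mulVec_mulVec, ← Matrix.mulVec_mulVec, hBcol, Matrix.mulVec_mulVec,
          Matrix.mulVec_mulVec, hxA, ← Matrix.mulVec_mulVec, ← hP0, Matrix.mulVec_mulVec]
        refine congrArg (· *ᵥ _) ?_
        rw [hP, Finset.mul_sum, Finset.sum_mul]
        refine Finset.sum_congr rfl fun j _ => ?_
        rw [mul_smul_comm, smul_mul_assoc, ← Units.val_mul, ← Units.val_mul, (Commute.pow_pow_self A _ _).eq]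
      calc (x : Mat 5 F) = (x : Mat 5 F) * Bm * toMat w basisInv := by
            rw [mul_assoc, mul_eq_one_comm.mp hBm, mul_one]
        _ = P := by rw [h, mul_assoc, mul_eq_one_comm.mp hBm, mul_one]
    have hc5 : c = ![c 0, c 1, c 2, c 3, c 4] := funext fun k => by fin_cases k <;> rfl
    have htest : polyTest c = true := by rw [hc5]; exact poly_all _ _ _ _ _
    have hunit : mulC (starC (polyC c)) (polyC c) = oneC := by
      refine toMat_inj hF hw ?_
      rw [toMat_mul hF hw, ← toMat_star hF hw hσ, toMat_one hF]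
      change ((P).map σ)ᵀ * P = 1
      rw [← hxP]
      simpa [Matrix.transpose_mul] using congrArg Matrix.transpose (gu_map_eq hσ hxU)
    rw [polyTest, hunit, decide_eq_true rfl, Bool.not_true, Bool.false_or] at htest
    obtain ⟨i, -, hi⟩ := List.any_eq_true.mp htest
    obtain ⟨k, -, hk⟩ := List.any_eq_true.mp hi
    have hk := of_decide_eq_true hk
    have hxk : (x : Mat 5 F) = dec w k.succ • ((A ^ (i : ℕ) : GL (Fin 5) F) : Mat 5 F) := by
      rw [hxP, hpow]
      ext r s
      simp [P, toMat, hk, smulC, dec_mul hF hw]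
    have hd5 : dec w k.succ ^ 5 = 1 := by
      have := hxd
      rw [hxk, Matrix.det_smul, Fintype.card_fin,
        show ((A ^ (i : ℕ) : GL (Fin 5) F) : Mat 5 F).det = 1 from
          (mem_suG.mp ((suG 5 F 2).pow_mem hAS _)).2, mul_one] at this
      exact this
    have hd3 : dec w k.succ ^ 3 = 1 := by
      have := FiniteField.pow_card_sub_one_eq_one (dec w k.succ) (fun h => by rw [h] at hd5; simp at hd5)
      rwa [hF] at this
    have hd1 : dec w k.succ = 1 := by
      have := pow_gcd_eq_one.mpr ⟨hd5, hd3⟩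
      simpa using this
    have hxAi : x = A ^ (i : ℕ) := Units.ext (by rw [hxk, hd1, one_smul])
    exact hxAi ▸ Y.pow_mem hAY _
  have hBA : B * A * B⁻¹ = A ^ 4 := by
    apply Units.ext
    rw [show (4 : ℕ) = ((4 : Fin 11) : ℕ) from rfl, hpow, Units.val_mul, Units.val_mul, hB, hA, hBi,
      ← toMat_mul hF hw, ← toMat_mul hF hw, b_conj]
  have hBAi : ∀ i : ℕ, B ^ i * A * (B ^ i)⁻¹ = A ^ 4 ^ i := by
    intro i
    induction i with
    | zero => simp
    | succ i ih =>
      rw [pow_succ' B, _root_.mul_inv_rev, show B * B ^ i * A * ((B ^ i)⁻¹ * B⁻¹) = B * (B ^ i * A * (B ^ i)⁻¹) * B⁻¹ by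
        group, ih, ← conj_pow, hBA, ← pow_mul, pow_succ' 4 i]
  refine ⟨A, Y ⊓ suG 5 F 2, hAS, hAo, inf_le_right, fun h => hTY (h.ge hTS).1, ?_, W, ⟨hWY, hWS⟩, ?_⟩
  · intro x hx hconj
    refine ⟨?_, hx⟩
    obtain ⟨m, hm⟩ := mem_powers_iff_mem_zpowers.mpr hconj
    have hm : A ^ m = x * A * x⁻¹ := hm
    have htr : traceC (aPow (Fin.ofNat 11 m)) = traceC aC := by
      refine dec_inj hF hw ?_
      rw [← toMat_trace hF hw, ← toMat_trace hF hw, ← hpow', hm, Units.val_mul, Units.val_mul, ← hA]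
      exact Matrix.trace_units_conj x (A : Mat 5 F)
    have hlist := trace_pow _ htr
    obtain ⟨i, hi⟩ : ∃ i : ℕ, A ^ m = A ^ 4 ^ i := by
      rw [pow_eq_pow_mod m hA11]
      have : m % 11 = (Fin.ofNat 11 m : Fin 11).val := rfl
      simp only [List.mem_cons, List.not_mem_nil, or_false] at hlist
      rcases hlist with h | h | h | h | h <;> rw [h] at this <;> rw [this]
      · exact ⟨0, rfl⟩
      · exact ⟨4, by rw [pow_eq_pow_mod (4 ^ 4) hA11]; rfl⟩
      · exact ⟨1, rfl⟩
      · exact ⟨2, by rw [pow_eq_pow_mod (4 ^ 2) hA11]; rfl⟩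
      · exact ⟨3, by rw [pow_eq_pow_mod (4 ^ 3) hA11]; rfl⟩
    have hfix : (B ^ i)⁻¹ * x * A = A * ((B ^ i)⁻¹ * x) := by
      have : x * A * x⁻¹ = B ^ i * A * (B ^ i)⁻¹ := by rw [← hm, hi, hBAi]
      calc (B ^ i)⁻¹ * x * A = (B ^ i)⁻¹ * (x * A * x⁻¹) * x := by group
        _ = A * ((B ^ i)⁻¹ * x) := by rw [this]; group
    have hmem := hcent _ ((suG 5 F 2).mul_mem ((suG 5 F 2).inv_mem ((suG 5 F 2).pow_mem hBS _)) hx) hfix
    simpa using Y.mul_mem (Y.pow_mem hBY i) hmem
  · intro hconj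
    obtain ⟨m, hm⟩ := mem_powers_iff_mem_zpowers.mpr hconj
    refine w_moves (Fin.ofNat 11 m) (toMat_inj hF hw ?_)
    rw [← hpow', show A ^ m = W * A * W⁻¹ from hm,
      show W⁻¹ = W from inv_eq_of_mul_eq_one_right (by rw [← pow_two, hW2]), Units.val_mul,
      Units.val_mul, toMat_mul hF hw, toMat_mul hF hw, hA, hW]

open scoped Classical in
/-- An adjoint-closed quintic field over the field with four elements meets `SU(5,2)` in a subgroup
normalised by its normaliser and of order eleven. -/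
theorem exists_torus [Fintype F] (hF : Fintype.card F = 4) {K : Subalgebra F (Mat 5 F)}
    (hK : IsFieldSubalgebra 5 K) (hadj : IsAdjointClosedFor (Cfsg.hermForm 5 F 2) K) :
    ∃ z : GL (Fin 5) F, z ∈ suG 5 F 2 ∧ orderOf z = 11 ∧
      ∀ h ∈ subalgebraNormalizer K, h * z * h⁻¹ ∈ Subgroup.zpowers z := by
  obtain ⟨σ, hσ, hc⟩ := exists_frob (show Fintype.card F = 2 ^ 2 by rw [hF]; norm_num)
  obtain ⟨w, hw⟩ := exists_root hF
  letI : Field K := IsField.toField
    { exists_pair_ne := ⟨0, 1, fun h => zero_ne_one (α := Mat 5 F) (congrArg Subtype.val h)⟩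
      mul_comm := fun a b => Subtype.ext (hK.comm a a.2 b b.2)
      mul_inv_cancel := fun {a} ha => by
        obtain ⟨b, hb, hab⟩ := hK.inv a a.2 fun h => ha (Subtype.ext h)
        exact ⟨⟨b, hb⟩, Subtype.ext hab⟩ }
  haveI : Finite K := inferInstance
  letI : Fintype K := Fintype.ofFinite K
  have h1024 : Fintype.card K = 1024 := by
    rw [Module.card_eq_pow_finrank (K := F) (V := K), hF, hK.finrank_eq]; norm_num
  haveI : Fact (Nat.Prime 11) := ⟨by norm_num⟩
  obtain ⟨u, hu⟩ := exists_prime_orderOf_dvd_card' (G := Kˣ) 11 (by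
    rw [Nat.card_units, Nat.card_eq_fintype_card, h1024]; norm_num)
  set z : GL (Fin 5) F := Units.map (K.val : K →ₐ[F] Mat 5 F).toMonoidHom u with hz
  have hinj : Function.Injective (Units.map (K.val : K →ₐ[F] Mat 5 F).toMonoidHom) :=
    Units.map_injective Subtype.val_injective
  have hzo : orderOf z = 11 := by rw [hz, orderOf_injective _ hinj, hu]
  have hzK : (z : Mat 5 F) ∈ K := (u : K).2
  -- the adjoint as an automorphism of `K`
  have hstar : ∀ k ∈ K, (k.map σ)ᵀ ∈ K := by
    intro k hk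
    obtain ⟨k', hk', he⟩ := hadj k hk
    have : k' = (k.map σ)ᵀ := by
      refine Matrix.ext_of_mulVec_single fun j => funext fun i => σ.injective ?_
      have h := (he (Pi.single i 1) (Pi.single j 1)).symm.trans (herm_adjoint hσ hc k _ _)
      rw [← herm_symm hσ hc, ← herm_symm hσ hc (u := _ *ᵥ _)] at h
      simpa [herm_single_right hσ] using h
    exact this ▸ hk'
  let ψ : K →+* K :=
    { toFun := fun k => ⟨((k : Mat 5 F).map σ)ᵀ, hstar k k.2⟩
      map_one' := Subtype.ext (by simp)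
      map_mul' := fun a b => Subtype.ext (by
        change (((a : Mat 5 F) * (b : Mat 5 F)).map σ)ᵀ =
          ((a : Mat 5 F).map σ)ᵀ * ((b : Mat 5 F).map σ)ᵀ
        rw [Matrix.map_mul, Matrix.transpose_mul]
        exact hK.comm _ (hstar b b.2) _ (hstar a a.2))
      map_zero' := Subtype.ext (by simp)
      map_add' := fun a b => Subtype.ext (by
        change (((a : Mat 5 F) + (b : Mat 5 F)).map σ)ᵀ =
          ((a : Mat 5 F).map σ)ᵀ + ((b : Mat 5 F).map σ)ᵀ
        rw [Matrix.map_add _ (map_add σ), Matrix.transpose_add]) }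
  have hψψ : ∀ k, ψ (ψ k) = k := fun k => Subtype.ext (by
    change ((((k : Mat 5 F).map σ)ᵀ).map σ)ᵀ = (k : Mat 5 F)
    ext i j
    simp [hc.invol])
  let L : Subfield K := RingHom.eqLocusField ψ (RingHom.id K)
  have hLtop : L ≠ ⊤ := by
    intro h
    have hm : algebraMap F K w ∈ L := h ▸ Subfield.mem_top _
    have e : ((algebraMap F (Mat 5 F) w).map σ)ᵀ = algebraMap F (Mat 5 F) w := congrArg Subtype.val hm
    have e00 := congrFun (congrFun e 0) 0
    simp [Matrix.algebraMap_matrix_apply, hσ] at e00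
    rw [pow_two, hw] at e00
    simp at e00
  have hfixed : ∀ y : K, ψ y = y → y ^ 11 = 1 → y = 1 := by
    intro y hy hy11
    haveI : Fintype L := Fintype.ofFinite L
    have hcard := Module.card_eq_pow_finrank (K := L) (V := K)
    rw [h1024] at hcard
    have hlt : Fintype.card L < 1024 := by
      rw [← h1024]
      refine Fintype.card_lt_of_injective_not_surjective _ Subtype.val_injective fun hsurj => hLtop ?_
      exact eq_top_iff.mpr fun k _ => by obtain ⟨l, rfl⟩ := hsurj k; exact l.2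
    have hd : Fintype.card L ∣ 2 ^ 10 := ⟨Fintype.card L ^ (Module.finrank L K - 1), by
      rw [← pow_succ', Nat.sub_add_cancel Module.finrank_pos]
      simpa using hcard⟩
    obtain ⟨m, hm10, hm⟩ := (Nat.dvd_prime_pow Nat.prime_two).mp hd
    have hmd : m ∣ 10 := by
      rw [hm, ← pow_mul, show (1024 : ℕ) = 2 ^ 10 by norm_num] at hcard
      exact ⟨_, Nat.pow_right_injective le_rfl hcard⟩
    have hy0 : y ≠ 0 := fun h => by rw [h] at hy11; simp at hy11
    have h := FiniteField.pow_card_sub_one_eq_one (⟨y, hy⟩ : L) (fun h => hy0 (congrArg Subtype.val h))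
    have h' : y ^ (Fintype.card L - 1) = 1 := by
      simpa using congrArg Subtype.val h
    have := pow_gcd_eq_one.mpr ⟨hy11, h'⟩
    rw [hm] at this hlt
    have hmem : m ∈ Nat.divisors 10 := Nat.mem_divisors.mpr ⟨hmd, by norm_num⟩
    rw [show Nat.divisors 10 = {1, 2, 5, 10} by decide +kernel] at hmem
    simp only [Finset.mem_insert, Finset.mem_singleton] at hmem
    rcases hmem with rfl | rfl | rfl | rfl
    · simpa using this
    · simpa using this
    · simpa using this
    · norm_num at hlt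
  have hu11 : (u : K) ^ 11 = 1 := by
    rw [← Units.val_pow_eq_pow_val, ← hu, pow_orderOf_eq_one, Units.val_one]
  have hunit : ψ (u : K) * (u : K) = 1 :=
    hfixed _ (by rw [map_mul, hψψ, mul_comm]) (by rw [mul_pow, ← map_pow, hu11, map_one, one_mul])
  refine ⟨z, mem_suG.mpr ⟨mem_GU_of_star hσ hc (congrArg Subtype.val hunit),
    det_eq_one hF (k := 11) (by norm_num) (by rw [← hzo, pow_orderOf_eq_one])⟩, hzo, fun h hh => ?_⟩
  have hmem : ((h * z * h⁻¹ : GL (Fin 5) F) : Mat 5 F) ∈ K := by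
    rw [Units.val_mul, Units.val_mul]; exact (hh _).mp hzK
  have hpr : IsPrimitiveRoot (u : K) 11 := by
    rw [IsPrimitiveRoot.iff_orderOf, orderOf_units]
    exact hu
  have hz11 : (h * z * h⁻¹) ^ 11 = 1 := by
    rw [conj_pow, ← hzo, pow_orderOf_eq_one, mul_one, mul_inv_cancel]
  obtain ⟨i, -, hi⟩ := hpr.eq_pow_of_pow_eq_one (ξ := (⟨_, hmem⟩ : K)) (Subtype.ext (by
    rw [SubmonoidClass.coe_pow, ← Units.val_pow_eq_pow_val, hz11]
    rfl))
  refine Subgroup.mem_zpowers_iff.mpr ⟨(i : ℤ), Units.ext ?_⟩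
  rw [zpow_natCast, Units.val_pow_eq_pow_val]
  exact congrArg Subtype.val hi

/-- In `SU(5,2)` a maximal subgroup does not normalise an adjoint-closed quintic field. -/
theorem field_not_maximal [Fintype F] (hF : Fintype.card F = 4) {H : Subgroup (GL (Fin 5) F)}
    (hH : IsMaximalIn (suG 5 F 2) H) {K : Subalgebra F (Mat 5 F)} (hK : IsFieldSubalgebra 5 K)
    (hadj : IsAdjointClosedFor (Cfsg.hermForm 5 F 2) K) (hle : H ≤ subalgebraNormalizer K) : False := by
  obtain ⟨z, hzS, hzo, hznorm⟩ := exists_torus hF hK hadj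
  obtain ⟨a, X, haS, hao, hXS, hXne, hXin, x, hxX, hxa⟩ := exists_stabiliser hF
  haveI : Fact (Nat.Prime 11) := ⟨by norm_num⟩
  -- both tori are Sylow subgroups
  have hsyl : ∀ y : ↥(suG 5 F 2), orderOf y = 11 →
      ∃ P : Sylow 11 ↥(suG 5 F 2), (P : Subgroup ↥(suG 5 F 2)) = Subgroup.zpowers y := by
    intro y hy
    have hcard : Nat.card (Subgroup.zpowers y) = 11 := by rw [Nat.card_zpowers, hy]
    obtain ⟨P, hP⟩ := (IsPGroup.of_card (p := 11) (n := 1) (by rw [hcard, pow_one]) :
      IsPGroup 11 (Subgroup.zpowers y)).exists_le_sylow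
    obtain ⟨k, hk⟩ := IsPGroup.iff_card.mp P.2
    refine ⟨P, (Subgroup.eq_of_le_of_card_ge hP ?_).symm⟩
    have hk1 : k ≤ 1 := by
      by_contra hk2
      refine eleven_sq_not_dvd hF ?_
      exact (pow_dvd_pow 11 (show 2 ≤ k by omega)).trans
        (hk ▸ (Subgroup.card_subgroup_dvd_card _).trans (Subgroup.card_subgroup_dvd_card _))
    rw [hk, hcard]
    exact Nat.pow_le_pow_right (by norm_num) hk1 |>.trans_eq (pow_one 11)
  obtain ⟨P, hP⟩ := hsyl ⟨a, haS⟩ (by rw [Subgroup.orderOf_mk, hao])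
  obtain ⟨Q, hQ⟩ := hsyl ⟨z, hzS⟩ (by rw [Subgroup.orderOf_mk, hzo])
  obtain ⟨g, hg⟩ := MulAction.exists_smul_eq ↥(suG 5 F 2) P Q
  have hPQ : (Subgroup.zpowers a).map (MulAut.conj (g : GL (Fin 5) F)).toMonoidHom = Subgroup.zpowers z := by
    have h := congrArg (fun R : Sylow 11 ↥(suG 5 F 2) =>
      (R : Subgroup ↥(suG 5 F 2)).map (suG 5 F 2).subtype) hg
    simp only [hQ, MonoidHom.map_zpowers] at h
    rw [MonoidHom.map_zpowers]
    rw [show ((g • P : Sylow 11 ↥(suG 5 F 2)) : Subgroup ↥(suG 5 F 2)) =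
      (P : Subgroup ↥(suG 5 F 2)).map (MulAut.conj g).toMonoidHom from rfl, hP, MonoidHom.map_zpowers,
      MonoidHom.map_zpowers] at h
    simpa using h
  set c := MulAut.conj (g : GL (Fin 5) F)
  have hconj : ∀ y : GL (Fin 5) F, y ∈ Subgroup.zpowers a → c y ∈ Subgroup.zpowers z := fun y hy =>
    hPQ ▸ Subgroup.mem_map_of_mem _ hy
  have hconj' : ∀ y : GL (Fin 5) F, c y ∈ Subgroup.zpowers z → y ∈ Subgroup.zpowers a := fun y hy => by
    rw [← hPQ] at hy
    obtain ⟨y', hy', e⟩ := hy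
    exact c.injective e ▸ hy'
  -- the normaliser of the torus
  have hnorm : ∀ h ∈ H, ∀ y ∈ Subgroup.zpowers z, h * y * h⁻¹ ∈ Subgroup.zpowers z := by
    intro h hh y hy
    obtain ⟨i, rfl⟩ := Subgroup.mem_zpowers_iff.mp hy
    rw [← conj_zpow]
    exact Subgroup.zpow_mem _ (hznorm h (hle hh)) i
  have hHM : H ≤ X.map c.toMonoidHom := by
    intro h hh
    refine ⟨c.symm h, hXin _ ?_ ?_, c.apply_symm_apply h⟩
    · have : c.symm h = (g : GL (Fin 5) F)⁻¹ * h * (g : GL (Fin 5) F) := by simp [c]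
      rw [this]
      exact (suG 5 F 2).mul_mem ((suG 5 F 2).mul_mem ((suG 5 F 2).inv_mem g.2) (hH.1.le hh)) g.2
    · refine hconj' _ ?_
      rw [map_mul, map_mul, map_inv, c.apply_symm_apply]
      exact hnorm h hh _ (hconj _ (Subgroup.mem_zpowers a))
  have hMS : X.map c.toMonoidHom ≤ suG 5 F 2 := by
    rintro _ ⟨y, hy, rfl⟩
    exact (suG 5 F 2).mul_mem ((suG 5 F 2).mul_mem g.2 (hXS hy)) ((suG 5 F 2).inv_mem g.2)
  rcases hH.2 _ hHM hMS with h | h
  · have hx : c x ∈ H := h.le (Subgroup.mem_map_of_mem _ hxX)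
    refine hxa (hconj' _ ?_)
    rw [map_mul, map_mul, map_inv]
    exact hnorm _ hx _ (hconj _ (Subgroup.mem_zpowers a))
  · refine hXne (le_antisymm hXS fun y hy => ?_)
    obtain ⟨y', hy', e⟩ := h.ge (show c y ∈ suG 5 F 2 from
      (suG 5 F 2).mul_mem ((suG 5 F 2).mul_mem g.2 hy) ((suG 5 F 2).inv_mem g.2))
    exact c.injective e ▸ hy'

end CfsgLib.Classical.AschPrime.FiveTwo
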