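import Cfsg.Agent.Lib.Classical.AschPrime.Linear

/-!
# The symplectic-type normaliser: which fields occur
-/

set_option autoImplicit false

namespace CfsgLib.Classical.AschPrime

open Cfsg Cfsg.Geo
open scoped MatrixGroups

variable {n : ℕ} {F : Type*} [Field F] [Fintype F]

/-- For the data of the linear case, the exponent of the field is least. -/
theorem exp_least {p e : ℕ} {R : Subgroup (GL (Fin n) F)} (hp : p.Prime) (hc : CharP F p)
    (hcard : Fintype.card F = p ^ e) (hn : Odd n) (hdata : IsLinearSymplecticTypeData n R)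
    {d : ℕ} (hd : 0 < d) (hde : d < e) : ¬ n ∣ p ^ d - 1 := by
  obtain ⟨p', e', -, ⟨hp', hc', hcard', -, hmin⟩, h⟩ := hdata.field
  obtain rfl : p' = p := CharP.eq F hc' hc
  obtain rfl : e' = e := Nat.pow_right_injective hp.two_le (hcard'.symm.trans hcard)
  rcases h with ⟨-, -, hz, -⟩ | ⟨h2, -⟩ | ⟨h2, -⟩
  · exact hz ▸ hmin d hd hde
  all_goals · subst h2; exact absurd hn (by decide)

theorem mod_one_of_dvd {p : ℕ} (hp : 0 < p) {n : ℕ} (hn : 1 < n) (h : n ∣ p - 1) :
    p % n = 1 := by
  have := (Nat.modEq_iff_dvd' (show 1 ≤ p from hp)).mpr h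
  rw [Nat.ModEq, Nat.one_mod_eq_one.mpr hn.ne'] at this
  exact this.symm

theorem odd_divisor_two {e : ℕ} (he : Odd e) (h : e ∣ 2) : e = 1 := by
  have := Nat.le_of_dvd (by norm_num) h
  interval_cases e <;> simp_all (config := { decide := true })

theorem odd_divisor_four {e : ℕ} (he : Odd e) (h : e ∣ 4) : e = 1 := by
  have := Nat.le_of_dvd (by norm_num) h
  interval_cases e <;> simp_all (config := { decide := true })

theorem odd_divisor_six {e : ℕ} (he : Odd e) (h : e ∣ 6) : e = 1 ∨ e = 3 := by
  have := Nat.le_of_dvd (by norm_num) h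
  interval_cases e <;> simp_all (config := { decide := true })

theorem odd_divisor_ten {e : ℕ} (he : Odd e) (h : e ∣ 10) : e = 1 ∨ e = 5 := by
  have := Nat.le_of_dvd (by norm_num) h
  interval_cases e <;> simp_all (config := { decide := true })

end CfsgLib.Classical.AschPrime
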