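import Cfsg.Agent.Lib.Classical.AschPrime.UnitaryCases

/-!
# Coded matrices over the field with `p ^ 2` elements

The field is `ZMod p (θ)` with `θ ^ 2 = 2`; the element `a + b θ` is coded by the number `a + p b`.
-/

set_option autoImplicit false
set_option linter.style.haveILetI false

namespace CfsgLib.Classical.AschPrime.SU3Code

open Matrix Cfsg Cfsg.Geo
open scoped MatrixGroups

/-- Coded addition. -/
def addC (p x y : ℕ) : ℕ := (x + y) % p + p * ((x / p + y / p) % p)

/-- Coded multiplication. -/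
def mulC (p x y : ℕ) : ℕ := (x * y + 2 * (x / p) * (y / p)) % p + p * ((x * (y / p) + x / p * y) % p)

/-- Coded conjugation. -/
def conjC (p x : ℕ) : ℕ := x % p + p * ((p - x / p % p) % p)

/-- Coded vectors. -/
abbrev V3 := ℕ × ℕ × ℕ

/-- Coded matrices, by rows. -/
abbrev M3 := V3 × V3 × V3

/-- Coded pairing. -/
def dotC (p : ℕ) (u v : V3) : ℕ :=
  addC p (addC p (mulC p u.1 v.1) (mulC p u.2.1 v.2.1)) (mulC p u.2.2 v.2.2)

/-- The conjugate of a coded vector. -/
def conjV (p : ℕ) (u : V3) : V3 := (conjC p u.1, conjC p u.2.1, conjC p u.2.2)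

/-- The transpose. -/
def transC (M : M3) : M3 :=
  ((M.1.1, M.2.1.1, M.2.2.1), (M.1.2.1, M.2.1.2.1, M.2.2.2.1), (M.1.2.2, M.2.1.2.2, M.2.2.2.2))

/-- Coded action. -/
def appC (p : ℕ) (M : M3) (v : V3) : V3 := (dotC p M.1 v, dotC p M.2.1 v, dotC p M.2.2 v)

/-- Coded product. -/
def mulM (p : ℕ) (M N : M3) : M3 :=
  (appC p (transC N) M.1, appC p (transC N) M.2.1, appC p (transC N) M.2.2)

/-- Coded conjugate transpose. -/
def starM (p : ℕ) (M : M3) : M3 :=
  (conjV p (transC M).1, conjV p (transC M).2.1, conjV p (transC M).2.2)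

/-- Coded determinant. -/
def detM (p : ℕ) (M : M3) : ℕ :=
  let neg := fun x => mulC p (p - 1) x
  let t := fun a b c => mulC p (mulC p a b) c
  addC p (addC p (addC p (addC p (addC p (t M.1.1 M.2.1.2.1 M.2.2.2.2) (neg (t M.1.1 M.2.1.2.2 M.2.2.2.1)))
    (neg (t M.1.2.1 M.2.1.1 M.2.2.2.2))) (t M.1.2.1 M.2.1.2.2 M.2.2.1))
    (t M.1.2.2 M.2.1.1 M.2.2.2.1)) (neg (t M.1.2.2 M.2.1.2.1 M.2.2.1))

/-- Coded trace. -/
def traceM (p : ℕ) (M : M3) : ℕ := addC p (addC p M.1.1 M.2.1.2.1) M.2.2.2.2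

/-- A coded scalar multiple. -/
def smulM (p k : ℕ) (M : M3) : M3 :=
  ((mulC p k M.1.1, mulC p k M.1.2.1, mulC p k M.1.2.2),
    (mulC p k M.2.1.1, mulC p k M.2.1.2.1, mulC p k M.2.1.2.2),
    (mulC p k M.2.2.1, mulC p k M.2.2.2.1, mulC p k M.2.2.2.2))

/-- The identity. -/
def oneM : M3 := ((1, 0, 0), (0, 1, 0), (0, 0, 1))

/-- A number for a coded vector. -/
def key (p : ℕ) (v : V3) : ℕ := v.1 + p * p * (v.2.1 + p * p * v.2.2)

/-- The set of numbers of a list of coded vectors, as a bit mask. -/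
def maskOf (p : ℕ) : List V3 → ℕ
  | [] => 0
  | v :: L => maskOf p L ||| 2 ^ key p v

/-- Whether `M` maps the listed vectors to listed ones. -/
def stableUnder (p : ℕ) (L : List V3) (M : M3) : Bool :=
  let m := maskOf p L
  L.all fun v => m.testBit (key p (appC p M v))

/-- The entries are reduced. -/
def Red (p : ℕ) (v : V3) : Prop := v.1 < p * p ∧ v.2.1 < p * p ∧ v.2.2 < p * p

/-- Decoding. -/
def dec {F : Type*} [Field F] (p : ℕ) (θ : F) (x : ℕ) : F := (x : F) + ((x / p : ℕ) : F) * θ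

/-- Decoding of vectors. -/
def toV {F : Type*} [Field F] (p : ℕ) (θ : F) (v : V3) : Fin 3 → F :=
  ![dec p θ v.1, dec p θ v.2.1, dec p θ v.2.2]

/-- Decoding of matrices. -/
def toM {F : Type*} [Field F] (p : ℕ) (θ : F) (M : M3) : Matrix (Fin 3) (Fin 3) F :=
  Matrix.of ![toV p θ M.1, toV p θ M.2.1, toV p θ M.2.2]

/-- The setting: a field of order `p ^ 2`, a square root of `2` and its conjugation. -/
structure Setting (F : Type*) [Field F] (p : ℕ) where
  /-- the root -/
  θ : F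
  /-- the conjugation -/
  σ : F →+* F
  prime : p.Prime
  char : CharP F p
  card : Nat.card F = p * p
  sq : θ * θ = 2
  irr : ∀ a b : ℕ, a < p → b < p → (a : F) + (b : F) * θ = 0 → a = 0 ∧ b = 0
  σ_eq : ∀ x, σ x = x ^ p
  conj : IsConjugation σ
  σ_θ : σ θ = -θ

variable {F : Type*} [Field F] {p : ℕ}

theorem nonempty_setting [Fintype F] (hp : p = 3 ∨ p = 5) (hF : Fintype.card F = p ^ 2) :
    Nonempty (Setting F p) := by
  have hpp : p.Prime := by rcases hp with rfl | rfl <;> norm_num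
  obtain ⟨σ, hσ, hc⟩ := exists_frob hF
  haveI hchar : CharP F p := by
    obtain ⟨r, hr⟩ := CharP.exists F
    obtain ⟨e, hrp, hcard⟩ := FiniteField.card F r
    have : r = p := (Nat.prime_dvd_prime_iff_eq hrp hpp).mp
      (hrp.dvd_of_dvd_pow (show r ∣ p ^ 2 by rw [← hF, hcard]; exact dvd_pow_self _ e.pos.ne'))
    exact this ▸ hr
  have h2 : (2 : F) ≠ 0 := by
    intro h
    have h' : ((2 : ℕ) : F) = 0 := by exact_mod_cast h
    have := (CharP.cast_eq_zero_iff F p 2).mp h'
    have := Nat.le_of_dvd (by norm_num) this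
    omega
  obtain ⟨θ, hθ⟩ : IsSquare (2 : F) := by
    refine (FiniteField.isSquare_iff ?_ h2).mpr ?_
    · rw [ringChar.eq F p]; rcases hp with rfl | rfl <;> norm_num
    · have h1 : (2 : F) ^ (p - 1) = 1 := by
        have h0 : ((2 ^ (p - 1) : ℕ) : F) = ((1 : ℕ) : F) :=
          (CharP.natCast_eq_natCast F p).mpr (by
            rcases hp with rfl | rfl <;> rfl)
        push_cast at h0
        exact h0
      rw [hF, show p ^ 2 / 2 = (p - 1) * ((p + 1) / 2) by rcases hp with rfl | rfl <;> norm_num,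
        pow_mul, h1, one_pow]
  have hns : ∀ a : ℕ, ((a : F)) ^ 2 ≠ 2 := by
    intro a h
    have h' : ((a ^ 2 : ℕ) : F) = ((2 : ℕ) : F) := by push_cast; exact h
    have := (CharP.natCast_eq_natCast F p).mp h'
    rw [Nat.ModEq, Nat.pow_mod] at this
    have hlt : a % p < p := Nat.mod_lt _ hpp.pos
    generalize a % p = r at this hlt
    rcases hp with rfl | rfl <;> interval_cases r <;> simp at this
  refine ⟨⟨θ, σ, hpp, hchar, by rw [Nat.card_eq_fintype_card, hF, sq], hθ.symm, ?_, hσ, hc, ?_⟩⟩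
  · intro a b ha hb h
    have hb0 : b = 0 := by
      by_contra hb0
      haveI : Fact p.Prime := ⟨hpp⟩
      have hbF : (b : F) ≠ 0 := fun e => hb0 (Nat.eq_zero_of_dvd_of_lt ((CharP.cast_eq_zero_iff F p b).mp e) hb)
      have h1 : (b : F) ^ (p - 1) = 1 := by
        have h0 : ((b ^ (p - 1) : ℕ) : F) = ((1 : ℕ) : F) := (CharP.natCast_eq_natCast F p).mpr
          (Nat.ModEq.pow_card_sub_one_eq_one hpp (Nat.coprime_comm.mp ((Nat.Prime.coprime_iff_not_dvd hpp).mpr
            fun e => hb0 (Nat.eq_zero_of_dvd_of_lt e hb))))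
        push_cast at h0
        exact h0
      -- θ would be the image of a number
      refine hns (a * (p - 1) * b ^ (p - 2)) ?_
      have hp1 : ((p - 1 : ℕ) : F) = -1 := by
        rw [Nat.cast_sub hpp.pos, CharP.cast_eq_zero F p, Nat.cast_one, zero_sub]
      have hb1 : (b : F) * (b : F) ^ (p - 2) = 1 := by
        rw [← pow_succ', show p - 2 + 1 = p - 1 by have := hpp.two_le; omega, h1]
      push_cast
      rw [hp1]
      have hθ' : (a : F) * -1 * (b : F) ^ (p - 2) = θ := by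
        linear_combination (-(b : F) ^ (p - 2)) * h + θ * hb1
      rw [hθ', hθ, sq]
    subst hb0
    refine ⟨?_, rfl⟩
    rw [Nat.cast_zero, zero_mul, add_zero] at h
    exact Nat.eq_zero_of_dvd_of_lt ((CharP.cast_eq_zero_iff F p a).mp h) ha
  · rw [hσ]
    obtain ⟨m, rfl⟩ : ∃ m, p = 2 * m + 1 := ⟨p / 2, by rcases hp with rfl | rfl <;> rfl⟩
    rw [pow_succ, pow_mul, sq, ← hθ]
    have : (2 : F) ^ m = -1 := by
      have h0 : ((2 ^ m + 1 : ℕ) : F) = 0 := (CharP.cast_eq_zero_iff F (2 * m + 1) _).mpr (by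
        rcases hp with h | h
        · obtain rfl : m = 1 := by omega
          norm_num
        · obtain rfl : m = 2 := by omega
          norm_num)
      push_cast at h0
      linear_combination h0
    rw [this, neg_one_mul]

namespace Setting

variable (S : Setting F p)

include S in
theorem cast_mod (n : ℕ) : ((n % p : ℕ) : F) = (n : F) := by
  haveI := S.char
  exact (CharP.natCast_eq_natCast F p).mpr (Nat.mod_modEq n p)

theorem dec_mk (n m : ℕ) : dec p S.θ (n % p + p * (m % p)) = (n : F) + (m : F) * S.θ := by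
  haveI := S.char
  have hdiv : (n % p + p * (m % p)) / p = m % p := by
    rw [Nat.add_mul_div_left _ _ S.prime.pos, Nat.div_eq_of_lt (Nat.mod_lt _ S.prime.pos), zero_add]
  rw [dec, hdiv]
  push_cast
  rw [CharP.cast_eq_zero F p, zero_mul, add_zero, S.cast_mod, S.cast_mod]

theorem dec_split (x : ℕ) : dec p S.θ x = (x : F) + ((x / p : ℕ) : F) * S.θ := rfl

theorem dec_add (x y : ℕ) : dec p S.θ (addC p x y) = dec p S.θ x + dec p S.θ y := by
  rw [addC, S.dec_mk, S.dec_split, S.dec_split]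
  push_cast
  ring

theorem dec_mul (x y : ℕ) : dec p S.θ (mulC p x y) = dec p S.θ x * dec p S.θ y := by
  rw [mulC, S.dec_mk, S.dec_split, S.dec_split]
  push_cast
  linear_combination (-((x / p : ℕ) : F) * ((y / p : ℕ) : F)) * S.sq

theorem dec_conj (x : ℕ) : S.σ (dec p S.θ x) = dec p S.θ (conjC p x) := by
  haveI := S.char
  rw [conjC, S.dec_mk, S.dec_split, map_add, map_mul, S.σ_θ, map_natCast, map_natCast,
    Nat.cast_sub (Nat.mod_lt _ S.prime.pos).le, CharP.cast_eq_zero F p, S.cast_mod]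
  ring

theorem dec_zero : dec p S.θ 0 = 0 := by simp [dec]

theorem dec_one : dec p S.θ 1 = 1 := by
  simp [dec, Nat.div_eq_of_lt S.prime.one_lt]

theorem dec_inj {x y : ℕ} (hx : x < p * p) (hy : y < p * p) (h : dec p S.θ x = dec p S.θ y) : x = y := by
  haveI := S.char
  have hp := S.prime.pos
  rw [S.dec_split, S.dec_split, ← S.cast_mod x, ← S.cast_mod y] at h
  have := S.irr ((x % p + (p - y % p)) % p) ((x / p + (p - y / p)) % p) (Nat.mod_lt _ hp) (Nat.mod_lt _ hp) (by
    rw [S.cast_mod, S.cast_mod, Nat.cast_add, Nat.cast_add,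
      Nat.cast_sub (Nat.mod_lt _ hp).le, Nat.cast_sub (Nat.div_lt_of_lt_mul hy).le, CharP.cast_eq_zero F p]
    linear_combination h)
  have hx1 : x % p < p := Nat.mod_lt _ hp
  have hy1 : y % p < p := Nat.mod_lt _ hp
  have hx2 : x / p < p := Nat.div_lt_of_lt_mul hx
  have hy2 : y / p < p := Nat.div_lt_of_lt_mul hy
  have key : ∀ a b : ℕ, a < p → b < p → (a + (p - b)) % p = 0 → a = b := by
    intro a b ha hb hab
    obtain ⟨c, hc⟩ := Nat.dvd_of_mod_eq_zero hab
    have h1 : 0 < c := by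
      by_contra h0
      rw [Nat.le_zero.mp (not_lt.mp h0), mul_zero] at hc
      omega
    have h2 : c < 2 := by
      by_contra h0
      have := Nat.mul_le_mul_left p (not_lt.mp h0)
      omega
    rw [show c = 1 by omega, mul_one] at hc
    omega
  rw [← Nat.mod_add_div x p, ← Nat.mod_add_div y p, key _ _ hx1 hy1 this.1, key _ _ hx2 hy2 this.2]

theorem exists_code [Finite F] (c : F) : ∃ x < p * p, dec p S.θ x = c := by
  haveI := Fintype.ofFinite F
  let f : Fin (p * p) → F := fun i => dec p S.θ i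
  have hf : Function.Injective f := fun i j h => Fin.ext (S.dec_inj i.2 j.2 h)
  obtain ⟨i, hi⟩ := ((Fintype.bijective_iff_injective_and_card f).mpr
    ⟨hf, by rw [Fintype.card_fin, ← Nat.card_eq_fintype_card, S.card]⟩).2 c
  exact ⟨i, i.2, hi⟩

theorem dec_dot (u v : V3) :
    dec p S.θ (dotC p u v) = ∑ i, toV p S.θ u i * toV p S.θ v i := by
  simp [dotC, S.dec_add, S.dec_mul, toV, Fin.sum_univ_three]

theorem toV_app (M : M3) (v : V3) : toV p S.θ (appC p M v) = toM p S.θ M *ᵥ toV p S.θ v := by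
  funext i
  fin_cases i <;> simp [toV, appC, toM, Matrix.mulVec, dotProduct, S.dec_dot, Fin.sum_univ_three]

theorem toM_trans (M : M3) : toM p S.θ (transC M) = (toM p S.θ M)ᵀ := by
  ext i j
  fin_cases i <;> fin_cases j <;> rfl

theorem toM_mul (M N : M3) : toM p S.θ (mulM p M N) = toM p S.θ M * toM p S.θ N := by
  have h : ∀ v, toV p S.θ (appC p (transC N) v) = Matrix.vecMul (toV p S.θ v) (toM p S.θ N) := by
    intro v
    rw [S.toV_app, S.toM_trans, Matrix.mulVec_transpose]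
  ext i j
  fin_cases i <;>
    simp [toM, mulM, h, Matrix.mul_apply, Matrix.vecMul, dotProduct, Fin.sum_univ_three, Matrix.vecHead,
      Matrix.vecTail, add_assoc]

theorem toV_conj (v : V3) (i : Fin 3) : S.σ (toV p S.θ v i) = toV p S.θ (conjV p v) i := by
  fin_cases i <;> simp [toV, conjV, S.dec_conj]

theorem toM_star (M : M3) : ((toM p S.θ M).map S.σ)ᵀ = toM p S.θ (starM p M) := by
  ext i j
  fin_cases i <;> fin_cases j <;> simp [toM, toV, starM, transC, conjV, S.dec_conj]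

theorem toM_one : toM p S.θ oneM = 1 := by
  ext i j
  fin_cases i <;> fin_cases j <;> simp [toM, toV, oneM, S.dec_one, S.dec_zero]

theorem toM_smul (k : ℕ) (M : M3) : toM p S.θ (smulM p k M) = dec p S.θ k • toM p S.θ M := by
  ext i j
  fin_cases i <;> fin_cases j <;> simp [toM, toV, smulM, S.dec_mul]

theorem toM_trace (M : M3) : (toM p S.θ M).trace = dec p S.θ (traceM p M) := by
  simp [Matrix.trace, traceM, toM, toV, S.dec_add, Fin.sum_univ_three]

theorem toM_det (M : M3) : (toM p S.θ M).det = dec p S.θ (detM p M) := by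
  haveI := S.char
  have hneg : dec p S.θ (p - 1) = -1 := by
    rw [S.dec_split, Nat.div_eq_of_lt (Nat.sub_lt S.prime.pos one_pos), Nat.cast_zero, zero_mul, add_zero,
      Nat.cast_sub S.prime.pos, CharP.cast_eq_zero F p, Nat.cast_one, zero_sub]
  rw [Matrix.det_fin_three]
  simp [detM, toM, toV, S.dec_add, S.dec_mul, hneg]
  ring

theorem toV_inj {u v : V3} (hu : Red p u) (hv : Red p v) (h : toV p S.θ u = toV p S.θ v) : u = v :=
  Prod.ext (S.dec_inj hu.1 hv.1 (congrFun h 0))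
    (Prod.ext (S.dec_inj hu.2.1 hv.2.1 (congrFun h 1)) (S.dec_inj hu.2.2 hv.2.2 (congrFun h 2)))

include S in
theorem red_lt (n m : ℕ) : n % p + p * (m % p) < p * p := by
  have h1 := Nat.mod_lt n S.prime.pos
  have h2 := Nat.mul_le_mul_left p (Nat.mod_lt m S.prime.pos)
  rw [Nat.succ_eq_add_one, mul_add, mul_one] at h2
  omega

include S in
theorem red_app (M : M3) (v : V3) : Red p (appC p M v) :=
  ⟨S.red_lt _ _, S.red_lt _ _, S.red_lt _ _⟩

include S in
theorem red_mul (M N : M3) :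
    Red p (mulM p M N).1 ∧ Red p (mulM p M N).2.1 ∧ Red p (mulM p M N).2.2 :=
  ⟨S.red_app _ _, S.red_app _ _, S.red_app _ _⟩

theorem toM_inj {M N : M3} (hM : Red p M.1 ∧ Red p M.2.1 ∧ Red p M.2.2)
    (hN : Red p N.1 ∧ Red p N.2.1 ∧ Red p N.2.2) (h : toM p S.θ M = toM p S.θ N) : M = N :=
  Prod.ext (S.toV_inj hM.1 hN.1 (congrFun h 0))
    (Prod.ext (S.toV_inj hM.2.1 hN.2.1 (congrFun h 1)) (S.toV_inj hM.2.2 hN.2.2 (congrFun h 2)))

theorem exists_codeV [Finite F] (v : Fin 3 → F) : ∃ c : V3, Red p c ∧ toV p S.θ c = v := by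
  obtain ⟨a, ha, ha'⟩ := S.exists_code (v 0)
  obtain ⟨b, hb, hb'⟩ := S.exists_code (v 1)
  obtain ⟨c, hc, hc'⟩ := S.exists_code (v 2)
  exact ⟨(a, b, c), ⟨ha, hb, hc⟩, funext fun i => by fin_cases i <;> simp [toV, ha', hb', hc']⟩

theorem exists_codeM [Finite F] (A : Matrix (Fin 3) (Fin 3) F) :
    ∃ M : M3, (Red p M.1 ∧ Red p M.2.1 ∧ Red p M.2.2) ∧ toM p S.θ M = A := by
  obtain ⟨a, ha, ha'⟩ := S.exists_codeV (A 0)
  obtain ⟨b, hb, hb'⟩ := S.exists_codeV (A 1)
  obtain ⟨c, hc, hc'⟩ := S.exists_codeV (A 2)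
  exact ⟨(a, b, c), ⟨ha, hb, hc⟩, Matrix.ext fun i j => by fin_cases i <;> simp [toM, ha', hb', hc']⟩

/-- A coded unitary matrix of determinant one, as an element of `SU(3,p)`. -/
theorem exists_unit {M : M3} (hM : mulM p (starM p M) M = oneM) (hd : detM p M = 1) :
    ∃ g ∈ suG 3 F p, (g : Mat 3 F) = toM p S.θ M := by
  have h : toM p S.θ (starM p M) * toM p S.θ M = 1 := by rw [← S.toM_mul, hM, S.toM_one]
  let g : GL (Fin 3) F := ⟨toM p S.θ M, toM p S.θ (starM p M), mul_eq_one_comm.mp h, h⟩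
  refine ⟨g, mem_suG.mpr ⟨?_, ?_⟩, rfl⟩
  · intro u v
    change Cfsg.hermForm 3 F p (toM p S.θ M *ᵥ u) (toM p S.θ M *ᵥ v) = _
    rw [herm_adjoint S.σ_eq S.conj, Matrix.mulVec_mulVec, S.toM_star, h, Matrix.one_mulVec]
  · show (toM p S.θ M).det = 1
    rw [S.toM_det, hd, S.dec_one]

theorem unitary_code {g : GL (Fin 3) F} (hg : g ∈ Cfsg.GU 3 F p) {M : M3}
    (hM : (g : Mat 3 F) = toM p S.θ M) : mulM p (starM p M) M = oneM := by
  have hone : Red p oneM.1 ∧ Red p oneM.2.1 ∧ Red p oneM.2.2 := by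
    have h1 : 1 < p * p := one_lt_mul'' S.prime.one_lt S.prime.one_lt
    have h0 : 0 < p * p := by omega
    exact ⟨⟨h1, h0, h0⟩, ⟨h0, h1, h0⟩, ⟨h0, h0, h1⟩⟩
  refine S.toM_inj (S.red_mul _ _) hone ?_
  rw [S.toM_mul, S.toM_one, ← S.toM_star, ← hM]
  simpa [Matrix.transpose_mul] using congrArg Matrix.transpose (gu_map_eq S.σ_eq hg)

theorem det_code {g : GL (Fin 3) F} (hg : g ∈ suG 3 F p) {M : M3}
    (hM : (g : Mat 3 F) = toM p S.θ M) : detM p M = 1 := by
  refine S.dec_inj (S.red_lt _ _) (one_lt_mul'' S.prime.one_lt S.prime.one_lt) ?_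
  rw [S.dec_one, ← (mem_suG.mp hg).2, hM, S.toM_det]

/-- The decoded set of a list of vectors. -/
def vecSet (L : List V3) : Set (Fin 3 → F) := {w | ∃ v ∈ L, toV p S.θ v = w}

/-- The elements of `SU(3,p)` stabilising a listed set of vectors. -/
def stab (L : List V3) : Subgroup (GL (Fin 3) F) :=
  suG 3 F p ⊓
    { carrier := {g | (fun v => (g : Mat 3 F) *ᵥ v) '' S.vecSet L = S.vecSet L}
      mul_mem' := fun {g h} hg hh => by
        calc (fun v => ((g * h : GL (Fin 3) F) : Mat 3 F) *ᵥ v) '' S.vecSet L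
            = (fun v => (g : Mat 3 F) *ᵥ v) '' ((fun v => (h : Mat 3 F) *ᵥ v) '' S.vecSet L) := by
              rw [Set.image_image (fun v => (g : Mat 3 F) *ᵥ v) (fun v => (h : Mat 3 F) *ᵥ v) (S.vecSet L)]
              refine congrArg (fun f : (Fin 3 → F) → (Fin 3 → F) => f '' S.vecSet L) (funext fun v => ?_)
              rw [Units.val_mul, Matrix.mulVec_mulVec]
          _ = S.vecSet L := by rw [hh, hg]
      one_mem' := by simp
      inv_mem' := fun {g} hg => by
        show (fun v => ((g⁻¹ : GL (Fin 3) F) : Mat 3 F) *ᵥ v) '' S.vecSet L = S.vecSet L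
        conv_lhs => rw [← hg]
        rw [Set.image_image]
        simp [Matrix.mulVec_mulVec] }

theorem stab_le (L : List V3) : S.stab L ≤ suG 3 F p := inf_le_left

theorem testBit_maskOf (L : List V3) (k : ℕ) :
    (maskOf p L).testBit k = true ↔ ∃ v ∈ L, key p v = k := by
  induction L with
  | nil => simp [maskOf]
  | cons w L ih =>
    simp [maskOf, Nat.testBit_or, Nat.testBit_two_pow, ih]
    exact or_comm

omit [Field F] in
theorem key_inj {u v : V3} (hu : Red p u) (hv : Red p v) (h : key p u = key p v) : u = v := by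
  obtain ⟨a, b, c⟩ := u
  obtain ⟨a', b', c'⟩ := v
  obtain ⟨ha, hb, hc⟩ := hu
  obtain ⟨ha', hb', hc'⟩ := hv
  simp only [key] at h ha hb hc ha' hb' hc'
  have hq : 0 < p * p := by omega
  have h1 := congrArg (· % (p * p)) h
  simp only [Nat.add_mul_mod_self_left, Nat.mod_eq_of_lt ha, Nat.mod_eq_of_lt ha'] at h1
  subst h1
  have h2 : b + p * p * c = b' + p * p * c' := Nat.eq_of_mul_eq_mul_left hq (by omega)
  have h3 := congrArg (· % (p * p)) h2
  simp only [Nat.add_mul_mod_self_left, Nat.mod_eq_of_lt hb, Nat.mod_eq_of_lt hb'] at h3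
  subst h3
  rw [Nat.eq_of_mul_eq_mul_left hq (show p * p * c = p * p * c' by omega)]

/-- The entries of the list are reduced. -/
def redList (p : ℕ) (L : List V3) : Bool :=
  L.all fun v => decide (v.1 < p * p) && decide (v.2.1 < p * p) && decide (v.2.2 < p * p)

omit [Field F] in
theorem red_of_redList {L : List V3} (hL : redList p L = true) {v : V3} (hv : v ∈ L) : Red p v := by
  have := List.all_eq_true.mp hL v hv
  simp only [Bool.and_eq_true, decide_eq_true_eq] at this
  exact ⟨this.1.1, this.1.2, this.2⟩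

theorem mem_stab {L : List V3} (hL : redList p L = true) {g : GL (Fin 3) F} (hg : g ∈ suG 3 F p)
    {M : M3} (hM : (g : Mat 3 F) = toM p S.θ M) (hst : stableUnder p L M = true) : g ∈ S.stab L := by
  refine ⟨hg, ?_⟩
  haveI : Finite (Fin 3 → F) := by
    haveI : Finite F := Nat.finite_of_card_ne_zero (by
      rw [S.card]; exact Nat.mul_ne_zero S.prime.ne_zero S.prime.ne_zero)
    infer_instance
  refine Set.eq_of_subset_of_ncard_le ?_
    (le_of_eq (Set.ncard_image_of_injective _ (Matrix.mulVec_injective_of_isUnit g.isUnit)).symm)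
    (Set.toFinite _)
  rintro _ ⟨_, ⟨v, hv, rfl⟩, rfl⟩
  obtain ⟨u, hu, hk⟩ := (testBit_maskOf L _).mp (List.all_eq_true.mp hst v hv)
  refine ⟨u, hu, ?_⟩
  rw [key_inj (red_of_redList hL hu) (S.red_app M v) hk, hM, S.toV_app]

theorem not_mem_stab {L : List V3} (hL : redList p L = true) {g : GL (Fin 3) F} {M : M3}
    (hM : (g : Mat 3 F) = toM p S.θ M) {v : V3} (hv : v ∈ L)
    (hmove : (maskOf p L).testBit (key p (appC p M v)) = false) : g ∉ S.stab L := by
  rintro ⟨-, h⟩
  have hm : (g : Mat 3 F) *ᵥ toV p S.θ v ∈ S.vecSet L := h.le ⟨_, ⟨v, hv, rfl⟩, rfl⟩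
  obtain ⟨u, hu, he⟩ := hm
  rw [hM, ← S.toV_app] at he
  rw [← S.toV_inj (red_of_redList hL hu) (S.red_app _ _) he,
    (testBit_maskOf L _).mpr ⟨u, hu, rfl⟩] at hmove
  exact Bool.false_ne_true hmove.symm

end Setting

/-- Products built from generators along a list of steps (parent, generator). -/
def build (p : ℕ) (gens : List M3) (steps : List (ℕ × ℕ)) : List M3 :=
  steps.foldl (fun acc s => acc ++ [mulM p (acc.getD s.1 oneM) (gens.getD s.2 oneM)]) [oneM]

theorem mem_of_build (S : Setting F p) (Y : Subgroup (GL (Fin 3) F)) {gens : List M3}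
    (hgens : ∀ M ∈ gens, ∃ g ∈ Y, (g : Mat 3 F) = toM p S.θ M) (steps : List (ℕ × ℕ)) {M : M3}
    (hM : M ∈ build p gens steps) : ∃ g ∈ Y, (g : Mat 3 F) = toM p S.θ M := by
  have hone : ∃ g ∈ Y, (g : Mat 3 F) = toM p S.θ oneM := ⟨1, Y.one_mem, by rw [S.toM_one, Units.val_one]⟩
  have hget : ∀ (L : List M3), (∀ M ∈ L, ∃ g ∈ Y, (g : Mat 3 F) = toM p S.θ M) → ∀ i,
      ∃ g ∈ Y, (g : Mat 3 F) = toM p S.θ (L.getD i oneM) := by
    intro L hL i
    rcases lt_or_ge i L.length with h | h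
    · rw [List.getD_eq_getElem _ _ h]; exact hL _ (List.getElem_mem h)
    · rw [List.getD_eq_default _ _ h]; exact hone
  suffices h : ∀ acc : List M3, (∀ M ∈ acc, ∃ g ∈ Y, (g : Mat 3 F) = toM p S.θ M) →
      ∀ M ∈ steps.foldl (fun acc s => acc ++ [mulM p (acc.getD s.1 oneM) (gens.getD s.2 oneM)]) acc,
        ∃ g ∈ Y, (g : Mat 3 F) = toM p S.θ M by
    exact h [oneM] (fun N hN => by rw [List.mem_singleton.mp hN]; exact hone) M hM
  clear hM
  induction steps with
  | nil => exact fun acc h => h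
  | cons s l ih =>
    intro acc h
    refine ih _ fun N hN => ?_
    rcases List.mem_append.mp hN with hN | hN
    · exact h N hN
    · obtain ⟨a, ha, ha'⟩ := hget acc h s.1
      obtain ⟨b, hb, hb'⟩ := hget gens hgens s.2
      refine ⟨a * b, Y.mul_mem ha hb, ?_⟩
      rw [List.mem_singleton.mp hN, Units.val_mul, ha', hb', S.toM_mul]

end CfsgLib.Classical.AschPrime.SU3Code
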