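import Cfsg.Agent.Lib.Classical.AschPrime.SU3Code

/-!
# The small cases of `SU(3,q)`: certificates

Overgroups in `SU(3,3)` and `SU(3,5)` of subfield, decomposition and normaliser type subgroups, as
stabilisers of sets of vectors.
-/

set_option autoImplicit false

namespace CfsgLib.Classical.AschPrime.SU3Code

/-- A certificate for the normaliser of a cubic field. -/
structure FieldCert where
  /-- an element of order seven -/
  a : M3
  /-- an element acting on it as `x ↦ x ^ 4` -/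
  b : M3
  /-- an element outside its normaliser -/
  w : M3
  /-- an element outside the stabiliser -/
  g : M3
  /-- a cube root of unity generating the centre -/
  k : ℕ
  /-- the inverse of the matrix of a cyclic basis -/
  binv : M3
  /-- an invariant set of vectors -/
  orbit : List V3
  /-- a vector moved out by `g` -/
  moved : V3

/-- Unitary of determinant one. -/
def inSU (p : ℕ) (M : M3) : Bool := decide (mulM p (starM p M) M = oneM) && decide (detM p M = 1)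

/-- The first seven powers. -/
def powers (p : ℕ) (a : M3) : List M3 := build p [a] [(0, 0), (1, 0), (2, 0), (3, 0), (4, 0), (5, 0)]

/-- The scalar matrix. -/
def scalM (k : ℕ) : M3 := ((k, 0, 0), (0, k, 0), (0, 0, k))

/-- The elements expected to centralise `a`. -/
def centList (p : ℕ) (C : FieldCert) : List M3 :=
  let A := powers p C.a
  A ++ A.map (fun M => mulM p M (scalM C.k)) ++ A.map (fun M => mulM p (mulM p M (scalM C.k)) (scalM C.k))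

/-- The basis with columns `a ^ i e₀`. -/
def cyclicBasis (p : ℕ) (a : M3) : M3 :=
  transC (appC p oneM (1, 0, 0), appC p a (1, 0, 0), appC p (mulM p a a) (1, 0, 0))

/-- The combination `c₀ + c₁ a + c₂ a²`. -/
def polyM (p : ℕ) (a : M3) (c : V3) : M3 :=
  let A := mulM p a a
  let row := fun (e : V3) (r : V3) (s : V3) =>
    ((addC p (addC p (mulC p c.1 e.1) (mulC p c.2.1 r.1)) (mulC p c.2.2 s.1),
      addC p (addC p (mulC p c.1 e.2.1) (mulC p c.2.1 r.2.1)) (mulC p c.2.2 s.2.1),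
      addC p (addC p (mulC p c.1 e.2.2) (mulC p c.2.1 r.2.2)) (mulC p c.2.2 s.2.2)) : V3)
  (row oneM.1 a.1 A.1, row oneM.2.1 a.2.1 A.2.1, row oneM.2.2 a.2.2 A.2.2)

/-- All coded vectors. -/
def allV (p : ℕ) : List V3 :=
  (List.range (p * p)).flatMap fun x => (List.range (p * p)).flatMap fun y =>
    (List.range (p * p)).map fun z => (x, y, z)

/-- The certificate is valid. -/
def fieldOK (p : ℕ) (C : FieldCert) : Bool :=
  inSU p C.a && inSU p C.b && inSU p C.w && inSU p C.g && inSU p (scalM C.k) &&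
    Setting.redList p C.orbit && stableUnder p C.orbit C.a && stableUnder p C.orbit C.b && stableUnder p C.orbit C.w &&
    stableUnder p C.orbit (scalM C.k) && C.orbit.any (fun v => decide (v = C.moved)) &&
    !(maskOf p C.orbit).testBit (key p (appC p C.g C.moved)) &&
    decide ((powers p C.a).length = 7) && decide (mulM p ((powers p C.a).getD 6 oneM) C.a = oneM) &&
    !decide (C.a = oneM) &&
    decide (mulM p (mulM p C.b C.a) (starM p C.b) = (powers p C.a).getD 4 oneM) &&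
    (List.range 7).all (fun i => !decide (traceM p ((powers p C.a).getD i oneM) = traceM p C.a) ||
      decide (i = 1) || decide (i = 2) || decide (i = 4)) &&
    decide (mulM p C.binv (cyclicBasis p C.a) = oneM) &&
    (allV p).all (fun v => !decide (dotC p (conjV p v) v = 1) ||
      (let P := polyM p C.a (appC p C.binv v)
       !inSU p P || (centList p C).any fun N => decide (N = P))) &&
    (powers p C.a).all (fun N => !decide (mulM p (mulM p C.w C.a) (starM p C.w) = N))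

/-- An invariant set of vectors. -/
def threeOrbit : List V3 := [
  (0, 0, 1), (0, 0, 2), (0, 1, 0), (0, 2, 0), (0, 5, 5), (0, 5, 7),
  (0, 7, 5), (0, 7, 7), (1, 0, 0), (1, 1, 4), (1, 1, 8), (1, 2, 4),
  (1, 2, 8), (1, 4, 1), (1, 4, 2), (1, 8, 1), (1, 8, 2), (2, 0, 0),
  (2, 1, 4), (2, 1, 8), (2, 2, 4), (2, 2, 8), (2, 4, 1), (2, 4, 2),
  (2, 8, 1), (2, 8, 2), (4, 1, 1), (4, 1, 2), (4, 2, 1), (4, 2, 2),
  (5, 0, 5), (5, 0, 7), (5, 5, 0), (5, 7, 0), (7, 0, 5), (7, 0, 7),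
  (7, 5, 0), (7, 7, 0), (8, 1, 1), (8, 1, 2), (8, 2, 1), (8, 2, 2)]

/-- The certificate for the cubic field over `F_9`. -/
def threeCert : FieldCert where
  a := ((1, 1, 5), (8, 4, 0), (2, 2, 5))
  b := ((0, 0, 1), (1, 0, 0), (0, 1, 0))
  w := ((0, 0, 1), (0, 2, 0), (1, 0, 0))
  g := ((0, 0, 3), (0, 2, 0), (6, 0, 0))
  k := 1
  binv := ((1, 1, 6), (0, 8, 8), (0, 8, 6))
  orbit := threeOrbit
  moved := (0, 0, 1)

/-- An invariant set of vectors. -/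
def fiveOrbit : List V3 := [
  (0, 0, 1), (0, 0, 4), (0, 0, 12), (0, 0, 13), (0, 0, 17), (0, 0, 18),
  (0, 1, 0), (0, 4, 0), (0, 5, 5), (0, 5, 20), (0, 11, 11), (0, 11, 19),
  (0, 12, 0), (0, 13, 0), (0, 14, 14), (0, 14, 16), (0, 16, 14), (0, 16, 16),
  (0, 17, 0), (0, 18, 0), (0, 19, 11), (0, 19, 19), (0, 20, 5), (0, 20, 20),
  (1, 0, 0), (2, 2, 14), (2, 2, 16), (2, 3, 14), (2, 3, 16), (2, 14, 2),
  (2, 14, 3), (2, 16, 2), (2, 16, 3), (3, 2, 14), (3, 2, 16), (3, 3, 14),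
  (3, 3, 16), (3, 14, 2), (3, 14, 3), (3, 16, 2), (3, 16, 3), (4, 0, 0),
  (5, 0, 5), (5, 0, 20), (5, 5, 0), (5, 9, 9), (5, 9, 21), (5, 20, 0),
  (5, 21, 9), (5, 21, 21), (6, 6, 11), (6, 6, 19), (6, 11, 6), (6, 11, 24),
  (6, 19, 6), (6, 19, 24), (6, 24, 11), (6, 24, 19), (9, 5, 9), (9, 5, 21),
  (9, 9, 5), (9, 9, 20), (9, 20, 9), (9, 20, 21), (9, 21, 5), (9, 21, 20),
  (11, 0, 11), (11, 0, 19), (11, 6, 6), (11, 6, 24), (11, 11, 0), (11, 19, 0),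
  (11, 24, 6), (11, 24, 24), (12, 0, 0), (13, 0, 0), (14, 0, 14), (14, 0, 16),
  (14, 2, 2), (14, 2, 3), (14, 3, 2), (14, 3, 3), (14, 14, 0), (14, 16, 0),
  (16, 0, 14), (16, 0, 16), (16, 2, 2), (16, 2, 3), (16, 3, 2), (16, 3, 3),
  (16, 14, 0), (16, 16, 0), (17, 0, 0), (18, 0, 0), (19, 0, 11), (19, 0, 19),
  (19, 6, 6), (19, 6, 24), (19, 11, 0), (19, 19, 0), (19, 24, 6), (19, 24, 24),
  (20, 0, 5), (20, 0, 20), (20, 5, 0), (20, 9, 9), (20, 9, 21), (20, 20, 0),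
  (20, 21, 9), (20, 21, 21), (21, 5, 9), (21, 5, 21), (21, 9, 5), (21, 9, 20),
  (21, 20, 9), (21, 20, 21), (21, 21, 5), (21, 21, 20), (24, 6, 11), (24, 6, 19),
  (24, 11, 6), (24, 11, 24), (24, 19, 6), (24, 19, 24), (24, 24, 11), (24, 24, 19)]

/-- The certificate for the cubic field over `F_25`. -/
def fiveCert : FieldCert where
  a := ((2, 2, 11), (16, 14, 0), (3, 3, 11))
  b := ((0, 0, 1), (1, 0, 0), (0, 1, 0))
  w := ((0, 0, 1), (0, 4, 0), (1, 0, 0))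
  g := ((0, 0, 12), (0, 4, 0), (17, 0, 0))
  k := 12
  binv := ((1, 1, 24), (0, 23, 23), (0, 23, 21))
  orbit := fiveOrbit
  moved := (0, 5, 5)

/-- Generators of the overgroup of the monomial and orthogonal groups. -/
def frameGens : List M3 := [
  ((0, 0, 1), (1, 0, 0), (0, 1, 0)),
  ((13, 0, 0), (0, 18, 0), (0, 0, 1)),
  ((4, 0, 0), (0, 0, 1), (0, 1, 0)),
  ((1, 1, 2), (1, 2, 1), (2, 1, 1))]

/-- Generators of the orthogonal group. -/
def orthGens : List M3 := [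
  ((0, 0, 1), (1, 0, 0), (0, 1, 0)),
  ((4, 0, 0), (0, 0, 1), (0, 1, 0)),
  ((1, 1, 2), (1, 2, 1), (2, 1, 1))]

/-- Words for the monomial group. -/
def monoSteps : List (ℕ × ℕ) := [
  (0, 0), (0, 1), (0, 2), (1, 0), (1, 1), (1, 2), (2, 0), (2, 1), (2, 2), (3, 0),
  (3, 1), (4, 1), (4, 2), (5, 0), (5, 1), (5, 2), (6, 0), (6, 1), (7, 0), (7, 1),
  (7, 2), (8, 0), (8, 1), (8, 2), (9, 0), (9, 1), (10, 0), (10, 1), (10, 2), (11, 0),
  (11, 1), (11, 2), (12, 0), (12, 1), (12, 2), (13, 0), (13, 1), (14, 0), (14, 1), (14, 2),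
  (15, 0), (15, 1), (15, 2), (16, 0), (16, 1), (17, 0), (17, 1), (18, 1), (18, 2), (19, 1),
  (19, 2), (20, 0), (20, 1), (20, 2), (21, 0), (22, 0), (22, 1), (22, 2), (23, 0), (23, 1),
  (24, 0), (25, 1), (25, 2), (26, 0), (26, 1), (26, 2), (28, 0), (28, 1), (28, 2), (29, 0),
  (29, 1), (30, 0), (31, 1), (31, 2), (33, 0), (33, 1), (33, 2), (34, 0), (35, 0), (36, 1),
  (37, 1), (38, 2), (39, 0), (39, 1), (39, 2), (40, 0), (41, 0), (41, 1), (41, 2), (42, 0),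
  (42, 1), (44, 1), (44, 2), (45, 2), (47, 0), (47, 1), (47, 2), (48, 2), (50, 1), (51, 0),
  (51, 1), (52, 2), (53, 0), (53, 1), (53, 2), (55, 0), (55, 1), (56, 1), (56, 2), (57, 0),
  (57, 1), (57, 2), (58, 0), (59, 0), (59, 1), (61, 1), (61, 2), (62, 0), (62, 1), (62, 2),
  (63, 0), (65, 1), (65, 2), (67, 0), (67, 1), (67, 2), (68, 0), (68, 1), (68, 2), (70, 0),
  (71, 2), (72, 1), (72, 2), (73, 1), (75, 2), (76, 0), (76, 1), (78, 0), (78, 1), (79, 1),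
  (79, 2), (80, 0), (80, 1), (80, 2), (81, 2), (82, 0), (82, 1), (84, 0), (84, 1), (84, 2),
  (86, 0), (86, 1), (87, 1), (87, 2), (88, 0), (88, 1), (88, 2), (89, 0), (90, 0), (90, 1),
  (92, 1), (92, 2), (95, 2), (96, 0), (96, 1), (96, 2), (102, 0), (103, 2), (104, 0), (104, 1),
  (107, 0), (109, 0), (110, 2), (111, 1), (111, 2), (113, 0), (114, 1), (115, 1), (117, 0), (118, 0),
  (118, 2), (119, 0), (119, 1), (119, 2), (121, 0), (122, 1), (125, 1), (125, 2), (126, 0), (127, 0),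
  (127, 1), (127, 2), (128, 0), (128, 1), (133, 1), (135, 0), (137, 0), (137, 1), (139, 0), (139, 1),
  (140, 1), (142, 2), (143, 0), (148, 2), (149, 0), (149, 1), (152, 0), (158, 0), (159, 1), (163, 0),
  (165, 1), (171, 2), (174, 1), (189, 0), (207, 2)]

/-- Words for the orthogonal group. -/
def orthSteps : List (ℕ × ℕ) := [
  (0, 0), (0, 1), (0, 2), (1, 0), (1, 1), (1, 2), (2, 0), (2, 2), (3, 0), (3, 1),
  (4, 1), (5, 0), (5, 2), (6, 1), (7, 0), (7, 1), (7, 2), (8, 0), (8, 1), (9, 1),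
  (10, 0), (10, 2), (11, 0), (11, 2), (12, 0), (12, 1), (12, 2), (13, 0), (13, 1), (14, 0),
  (14, 2), (15, 1), (16, 0), (16, 2), (17, 1), (18, 1), (19, 0), (19, 2), (20, 0), (20, 2),
  (21, 0), (21, 1), (21, 2), (22, 0), (23, 0), (23, 1), (23, 2), (24, 0), (24, 1), (25, 1),
  (26, 2), (27, 1), (28, 1), (29, 0), (29, 2), (30, 0), (30, 1), (30, 2), (31, 0), (32, 0),
  (32, 2), (33, 0), (33, 2), (34, 0), (34, 1), (35, 0), (35, 2), (37, 0), (37, 1), (37, 2),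
  (38, 0), (39, 0), (40, 0), (40, 1), (41, 1), (42, 0), (44, 1), (46, 2), (47, 1), (49, 0),
  (50, 0), (50, 2), (51, 0), (52, 0), (54, 0), (54, 1), (55, 0), (57, 0), (60, 1), (61, 1),
  (62, 1), (63, 1), (64, 1), (66, 0), (66, 1), (66, 2), (69, 0), (71, 1), (74, 0), (76, 0),
  (76, 2), (78, 0), (79, 0), (80, 1), (81, 1), (82, 1), (83, 1), (84, 1), (86, 0), (87, 1),
  (88, 0), (88, 2), (89, 2), (90, 0), (91, 2), (97, 0), (97, 2), (100, 1), (104, 0)]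

/-- An invariant set of vectors. -/
def frameOrbit : List V3 := [
  (0, 0, 1), (0, 0, 4), (0, 0, 12), (0, 0, 13), (0, 0, 17), (0, 0, 18),
  (0, 1, 0), (0, 4, 0), (0, 5, 5), (0, 5, 11), (0, 5, 14), (0, 5, 16),
  (0, 5, 19), (0, 5, 20), (0, 11, 5), (0, 11, 11), (0, 11, 14), (0, 11, 16),
  (0, 11, 19), (0, 11, 20), (0, 12, 0), (0, 13, 0), (0, 14, 5), (0, 14, 11),
  (0, 14, 14), (0, 14, 16), (0, 14, 19), (0, 14, 20), (0, 16, 5), (0, 16, 11),
  (0, 16, 14), (0, 16, 16), (0, 16, 19), (0, 16, 20), (0, 17, 0), (0, 18, 0),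
  (0, 19, 5), (0, 19, 11), (0, 19, 14), (0, 19, 16), (0, 19, 19), (0, 19, 20),
  (0, 20, 5), (0, 20, 11), (0, 20, 14), (0, 20, 16), (0, 20, 19), (0, 20, 20),
  (1, 0, 0), (1, 1, 2), (1, 1, 3), (1, 2, 1), (1, 2, 4), (1, 3, 1),
  (1, 3, 4), (1, 4, 2), (1, 4, 3), (1, 6, 13), (1, 6, 17), (1, 9, 12),
  (1, 9, 18), (1, 12, 9), (1, 12, 21), (1, 13, 6), (1, 13, 24), (1, 17, 6),
  (1, 17, 24), (1, 18, 9), (1, 18, 21), (1, 21, 12), (1, 21, 18), (1, 24, 13),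
  (1, 24, 17), (2, 1, 1), (2, 1, 4), (2, 2, 5), (2, 2, 20), (2, 3, 5),
  (2, 3, 20), (2, 4, 1), (2, 4, 4), (2, 5, 2), (2, 5, 3), (2, 6, 11),
  (2, 6, 19), (2, 9, 14), (2, 9, 16), (2, 11, 6), (2, 11, 24), (2, 12, 13),
  (2, 12, 17), (2, 13, 12), (2, 13, 18), (2, 14, 9), (2, 14, 21), (2, 16, 9),
  (2, 16, 21), (2, 17, 12), (2, 17, 18), (2, 18, 13), (2, 18, 17), (2, 19, 6),
  (2, 19, 24), (2, 20, 2), (2, 20, 3), (2, 21, 14), (2, 21, 16), (2, 24, 11),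
  (2, 24, 19), (3, 1, 1), (3, 1, 4), (3, 2, 5), (3, 2, 20), (3, 3, 5),
  (3, 3, 20), (3, 4, 1), (3, 4, 4), (3, 5, 2), (3, 5, 3), (3, 6, 11),
  (3, 6, 19), (3, 9, 14), (3, 9, 16), (3, 11, 6), (3, 11, 24), (3, 12, 13),
  (3, 12, 17), (3, 13, 12), (3, 13, 18), (3, 14, 9), (3, 14, 21), (3, 16, 9),
  (3, 16, 21), (3, 17, 12), (3, 17, 18), (3, 18, 13), (3, 18, 17), (3, 19, 6),
  (3, 19, 24), (3, 20, 2), (3, 20, 3), (3, 21, 14), (3, 21, 16), (3, 24, 11),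
  (3, 24, 19), (4, 0, 0), (4, 1, 2), (4, 1, 3), (4, 2, 1), (4, 2, 4),
  (4, 3, 1), (4, 3, 4), (4, 4, 2), (4, 4, 3), (4, 6, 13), (4, 6, 17),
  (4, 9, 12), (4, 9, 18), (4, 12, 9), (4, 12, 21), (4, 13, 6), (4, 13, 24),
  (4, 17, 6), (4, 17, 24), (4, 18, 9), (4, 18, 21), (4, 21, 12), (4, 21, 18),
  (4, 24, 13), (4, 24, 17), (5, 0, 5), (5, 0, 11), (5, 0, 14), (5, 0, 16),
  (5, 0, 19), (5, 0, 20), (5, 2, 2), (5, 2, 3), (5, 3, 2), (5, 3, 3),
  (5, 5, 0), (5, 6, 9), (5, 6, 21), (5, 9, 6), (5, 9, 24), (5, 11, 0),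
  (5, 14, 0), (5, 16, 0), (5, 19, 0), (5, 20, 0), (5, 21, 6), (5, 21, 24),
  (5, 24, 9), (5, 24, 21), (6, 1, 13), (6, 1, 17), (6, 2, 11), (6, 2, 19),
  (6, 3, 11), (6, 3, 19), (6, 4, 13), (6, 4, 17), (6, 5, 9), (6, 5, 21),
  (6, 6, 14), (6, 6, 16), (6, 9, 5), (6, 9, 20), (6, 11, 2), (6, 11, 3),
  (6, 12, 12), (6, 12, 18), (6, 13, 1), (6, 13, 4), (6, 14, 6), (6, 14, 24),
  (6, 16, 6), (6, 16, 24), (6, 17, 1), (6, 17, 4), (6, 18, 12), (6, 18, 18),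
  (6, 19, 2), (6, 19, 3), (6, 20, 9), (6, 20, 21), (6, 21, 5), (6, 21, 20),
  (6, 24, 14), (6, 24, 16), (7, 7, 7), (7, 7, 23), (7, 8, 10), (7, 8, 15),
  (7, 10, 8), (7, 10, 22), (7, 15, 8), (7, 15, 22), (7, 22, 10), (7, 22, 15),
  (7, 23, 7), (7, 23, 23), (8, 7, 10), (8, 7, 15), (8, 8, 8), (8, 8, 22),
  (8, 10, 7), (8, 10, 23), (8, 15, 7), (8, 15, 23), (8, 22, 8), (8, 22, 22),
  (8, 23, 10), (8, 23, 15), (9, 1, 12), (9, 1, 18), (9, 2, 14), (9, 2, 16),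
  (9, 3, 14), (9, 3, 16), (9, 4, 12), (9, 4, 18), (9, 5, 6), (9, 5, 24),
  (9, 6, 5), (9, 6, 20), (9, 9, 11), (9, 9, 19), (9, 11, 9), (9, 11, 21),
  (9, 12, 1), (9, 12, 4), (9, 13, 13), (9, 13, 17), (9, 14, 2), (9, 14, 3),
  (9, 16, 2), (9, 16, 3), (9, 17, 13), (9, 17, 17), (9, 18, 1), (9, 18, 4),
  (9, 19, 9), (9, 19, 21), (9, 20, 6), (9, 20, 24), (9, 21, 11), (9, 21, 19),
  (9, 24, 5), (9, 24, 20), (10, 7, 8), (10, 7, 22), (10, 8, 7), (10, 8, 23),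
  (10, 10, 10), (10, 10, 15), (10, 15, 10), (10, 15, 15), (10, 22, 7), (10, 22, 23),
  (10, 23, 8), (10, 23, 22), (11, 0, 5), (11, 0, 11), (11, 0, 14), (11, 0, 16),
  (11, 0, 19), (11, 0, 20), (11, 2, 6), (11, 2, 24), (11, 3, 6), (11, 3, 24),
  (11, 5, 0), (11, 6, 2), (11, 6, 3), (11, 9, 9), (11, 9, 21), (11, 11, 0),
  (11, 14, 0), (11, 16, 0), (11, 19, 0), (11, 20, 0), (11, 21, 9), (11, 21, 21),
  (11, 24, 2), (11, 24, 3), (12, 0, 0), (12, 1, 9), (12, 1, 21), (12, 2, 13),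
  (12, 2, 17), (12, 3, 13), (12, 3, 17), (12, 4, 9), (12, 4, 21), (12, 6, 12),
  (12, 6, 18), (12, 9, 1), (12, 9, 4), (12, 12, 6), (12, 12, 24), (12, 13, 2),
  (12, 13, 3), (12, 17, 2), (12, 17, 3), (12, 18, 6), (12, 18, 24), (12, 21, 1),
  (12, 21, 4), (12, 24, 12), (12, 24, 18), (13, 0, 0), (13, 1, 6), (13, 1, 24),
  (13, 2, 12), (13, 2, 18), (13, 3, 12), (13, 3, 18), (13, 4, 6), (13, 4, 24),
  (13, 6, 1), (13, 6, 4), (13, 9, 13), (13, 9, 17), (13, 12, 2), (13, 12, 3),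
  (13, 13, 9), (13, 13, 21), (13, 17, 9), (13, 17, 21), (13, 18, 2), (13, 18, 3),
  (13, 21, 13), (13, 21, 17), (13, 24, 1), (13, 24, 4), (14, 0, 5), (14, 0, 11),
  (14, 0, 14), (14, 0, 16), (14, 0, 19), (14, 0, 20), (14, 2, 9), (14, 2, 21),
  (14, 3, 9), (14, 3, 21), (14, 5, 0), (14, 6, 6), (14, 6, 24), (14, 9, 2),
  (14, 9, 3), (14, 11, 0), (14, 14, 0), (14, 16, 0), (14, 19, 0), (14, 20, 0),
  (14, 21, 2), (14, 21, 3), (14, 24, 6), (14, 24, 24), (15, 7, 8), (15, 7, 22),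
  (15, 8, 7), (15, 8, 23), (15, 10, 10), (15, 10, 15), (15, 15, 10), (15, 15, 15),
  (15, 22, 7), (15, 22, 23), (15, 23, 8), (15, 23, 22), (16, 0, 5), (16, 0, 11),
  (16, 0, 14), (16, 0, 16), (16, 0, 19), (16, 0, 20), (16, 2, 9), (16, 2, 21),
  (16, 3, 9), (16, 3, 21), (16, 5, 0), (16, 6, 6), (16, 6, 24), (16, 9, 2),
  (16, 9, 3), (16, 11, 0), (16, 14, 0), (16, 16, 0), (16, 19, 0), (16, 20, 0),
  (16, 21, 2), (16, 21, 3), (16, 24, 6), (16, 24, 24), (17, 0, 0), (17, 1, 6),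
  (17, 1, 24), (17, 2, 12), (17, 2, 18), (17, 3, 12), (17, 3, 18), (17, 4, 6),
  (17, 4, 24), (17, 6, 1), (17, 6, 4), (17, 9, 13), (17, 9, 17), (17, 12, 2),
  (17, 12, 3), (17, 13, 9), (17, 13, 21), (17, 17, 9), (17, 17, 21), (17, 18, 2),
  (17, 18, 3), (17, 21, 13), (17, 21, 17), (17, 24, 1), (17, 24, 4), (18, 0, 0),
  (18, 1, 9), (18, 1, 21), (18, 2, 13), (18, 2, 17), (18, 3, 13), (18, 3, 17),
  (18, 4, 9), (18, 4, 21), (18, 6, 12), (18, 6, 18), (18, 9, 1), (18, 9, 4),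
  (18, 12, 6), (18, 12, 24), (18, 13, 2), (18, 13, 3), (18, 17, 2), (18, 17, 3),
  (18, 18, 6), (18, 18, 24), (18, 21, 1), (18, 21, 4), (18, 24, 12), (18, 24, 18),
  (19, 0, 5), (19, 0, 11), (19, 0, 14), (19, 0, 16), (19, 0, 19), (19, 0, 20),
  (19, 2, 6), (19, 2, 24), (19, 3, 6), (19, 3, 24), (19, 5, 0), (19, 6, 2),
  (19, 6, 3), (19, 9, 9), (19, 9, 21), (19, 11, 0), (19, 14, 0), (19, 16, 0),
  (19, 19, 0), (19, 20, 0), (19, 21, 9), (19, 21, 21), (19, 24, 2), (19, 24, 3),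
  (20, 0, 5), (20, 0, 11), (20, 0, 14), (20, 0, 16), (20, 0, 19), (20, 0, 20),
  (20, 2, 2), (20, 2, 3), (20, 3, 2), (20, 3, 3), (20, 5, 0), (20, 6, 9),
  (20, 6, 21), (20, 9, 6), (20, 9, 24), (20, 11, 0), (20, 14, 0), (20, 16, 0),
  (20, 19, 0), (20, 20, 0), (20, 21, 6), (20, 21, 24), (20, 24, 9), (20, 24, 21),
  (21, 1, 12), (21, 1, 18), (21, 2, 14), (21, 2, 16), (21, 3, 14), (21, 3, 16),
  (21, 4, 12), (21, 4, 18), (21, 5, 6), (21, 5, 24), (21, 6, 5), (21, 6, 20),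
  (21, 9, 11), (21, 9, 19), (21, 11, 9), (21, 11, 21), (21, 12, 1), (21, 12, 4),
  (21, 13, 13), (21, 13, 17), (21, 14, 2), (21, 14, 3), (21, 16, 2), (21, 16, 3),
  (21, 17, 13), (21, 17, 17), (21, 18, 1), (21, 18, 4), (21, 19, 9), (21, 19, 21),
  (21, 20, 6), (21, 20, 24), (21, 21, 11), (21, 21, 19), (21, 24, 5), (21, 24, 20),
  (22, 7, 10), (22, 7, 15), (22, 8, 8), (22, 8, 22), (22, 10, 7), (22, 10, 23),
  (22, 15, 7), (22, 15, 23), (22, 22, 8), (22, 22, 22), (22, 23, 10), (22, 23, 15),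
  (23, 7, 7), (23, 7, 23), (23, 8, 10), (23, 8, 15), (23, 10, 8), (23, 10, 22),
  (23, 15, 8), (23, 15, 22), (23, 22, 10), (23, 22, 15), (23, 23, 7), (23, 23, 23),
  (24, 1, 13), (24, 1, 17), (24, 2, 11), (24, 2, 19), (24, 3, 11), (24, 3, 19),
  (24, 4, 13), (24, 4, 17), (24, 5, 9), (24, 5, 21), (24, 6, 14), (24, 6, 16),
  (24, 9, 5), (24, 9, 20), (24, 11, 2), (24, 11, 3), (24, 12, 12), (24, 12, 18),
  (24, 13, 1), (24, 13, 4), (24, 14, 6), (24, 14, 24), (24, 16, 6), (24, 16, 24),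
  (24, 17, 1), (24, 17, 4), (24, 18, 12), (24, 18, 18), (24, 19, 2), (24, 19, 3),
  (24, 20, 9), (24, 20, 21), (24, 21, 5), (24, 21, 20), (24, 24, 14), (24, 24, 16)]

/-- An involution moving `frameOrbit`. -/
def frameOut : M3 := ((0, 2, 7), (2, 3, 14), (22, 19, 1))

/-- A vector it moves out. -/
def frameMoved : V3 := (0, 0, 1)

/-- Generators of the normaliser of the extraspecial group. -/
def normGens : List M3 := [
  ((1, 0, 0), (0, 12, 0), (0, 0, 17)),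
  ((0, 0, 1), (1, 0, 0), (0, 1, 0)),
  ((0, 0, 4), (0, 4, 0), (4, 0, 0)),
  ((7, 7, 7), (7, 15, 8), (7, 8, 15)),
  ((7, 7, 8), (7, 15, 15), (15, 7, 15))]

/-- Words for the normaliser. -/
def normSteps : List (ℕ × ℕ) := [
  (0, 0), (0, 1), (0, 2), (0, 3), (0, 4), (1, 0), (1, 1), (1, 2), (1, 3), (1, 4),
  (2, 0), (2, 1), (2, 2), (2, 3), (2, 4), (3, 0), (3, 1), (3, 3), (3, 4), (4, 1),
  (4, 2), (4, 3), (4, 4), (5, 0), (5, 1), (5, 2), (5, 3), (5, 4), (6, 1), (6, 2),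
  (6, 4), (7, 0), (7, 1), (7, 2), (7, 3), (7, 4), (8, 0), (8, 1), (8, 3), (8, 4),
  (9, 2), (9, 4), (10, 0), (10, 2), (10, 3), (10, 4), (11, 0), (11, 1), (11, 3), (11, 4),
  (12, 0), (12, 3), (12, 4), (13, 0), (13, 3), (13, 4), (14, 1), (14, 2), (14, 3), (14, 4),
  (15, 0), (15, 1), (15, 3), (15, 4), (16, 0), (16, 1), (16, 2), (16, 3), (16, 4), (17, 0),
  (17, 3), (17, 4), (18, 1), (18, 2), (18, 3), (18, 4), (19, 0), (19, 1), (19, 2), (19, 3),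
  (19, 4), (20, 0), (20, 4), (21, 3), (21, 4), (22, 2), (22, 3), (22, 4), (23, 0), (23, 1),
  (23, 2), (23, 4), (24, 1), (24, 2), (24, 3), (25, 1), (25, 2), (25, 3), (26, 0), (26, 3),
  (26, 4), (27, 1), (27, 2), (27, 3), (28, 1), (28, 3), (28, 4), (29, 1), (30, 1), (30, 3),
  (31, 2), (31, 3), (32, 1), (32, 3), (32, 4), (33, 3), (34, 4), (35, 1), (35, 2), (35, 3),
  (35, 4), (36, 0), (36, 1), (36, 3), (37, 0), (37, 2), (37, 3), (37, 4), (38, 0), (38, 3),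
  (38, 4), (39, 1), (39, 2), (39, 4), (40, 0), (40, 3), (40, 4), (41, 4), (42, 0), (42, 1),
  (42, 2), (43, 1), (43, 2), (43, 3), (44, 0), (44, 3), (44, 4), (45, 1), (45, 2), (46, 3),
  (46, 4), (47, 2), (48, 3), (48, 4), (49, 2), (49, 4), (51, 1), (51, 3), (53, 1), (53, 3),
  (54, 4), (55, 4), (56, 3), (57, 0), (58, 4), (59, 4), (60, 0), (60, 2), (61, 1), (61, 3),
  (62, 1), (63, 2), (64, 1), (64, 3), (67, 3), (68, 4), (71, 4), (72, 3), (76, 1), (76, 4),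
  (78, 3), (79, 3), (80, 1), (80, 3), (81, 1), (82, 0), (82, 1), (84, 3), (86, 4), (87, 3),
  (90, 2), (91, 4), (93, 0), (94, 3), (96, 4), (97, 3), (99, 1), (100, 4), (101, 2), (105, 3),
  (106, 2), (109, 3), (110, 1), (111, 0), (111, 3), (114, 2), (118, 0), (123, 1), (127, 4), (131, 3),
  (141, 4), (143, 3), (146, 4), (157, 3), (192, 2)]

/-- Representatives of the automorphisms. -/
def normReps : List M3 := [
  ((1, 0, 0), (0, 1, 0), (0, 0, 1)), ((4, 0, 0), (0, 18, 0), (0, 0, 4)),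
  ((4, 0, 0), (0, 4, 0), (0, 0, 18)), ((12, 0, 0), (0, 1, 0), (0, 0, 12)),
  ((1, 0, 0), (0, 12, 0), (0, 0, 12)), ((12, 0, 0), (0, 12, 0), (0, 0, 1)),
  ((1, 0, 0), (0, 17, 0), (0, 0, 12)), ((1, 0, 0), (0, 12, 0), (0, 0, 17)),
  ((18, 0, 0), (0, 4, 0), (0, 0, 4)), ((7, 7, 7), (7, 15, 8), (7, 8, 15)),
  ((23, 23, 22), (23, 10, 10), (23, 22, 23)), ((22, 23, 23), (22, 10, 22), (22, 22, 10)),
  ((10, 23, 10), (10, 10, 23), (10, 22, 22)), ((7, 7, 15), (7, 15, 7), (7, 8, 8)),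
  ((8, 7, 8), (8, 15, 15), (8, 8, 7)), ((7, 8, 8), (7, 7, 15), (7, 15, 7)),
  ((7, 15, 8), (7, 8, 15), (7, 7, 7)), ((7, 8, 15), (7, 7, 7), (7, 15, 8)),
  ((4, 0, 0), (0, 0, 4), (0, 4, 0)), ((18, 0, 0), (0, 0, 18), (0, 4, 0)),
  ((13, 0, 0), (0, 0, 4), (0, 4, 0)), ((13, 0, 0), (0, 0, 18), (0, 13, 0)),
  ((12, 0, 0), (0, 0, 12), (0, 17, 0)), ((12, 0, 0), (0, 0, 17), (0, 12, 0)),
  ((12, 0, 0), (0, 0, 1), (0, 1, 0)), ((13, 0, 0), (0, 0, 4), (0, 18, 0)),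
  ((13, 0, 0), (0, 0, 18), (0, 4, 0)), ((7, 7, 8), (8, 7, 7), (7, 8, 7)),
  ((23, 23, 23), (22, 23, 10), (23, 22, 10)), ((8, 15, 15), (15, 15, 8), (8, 7, 8)),
  ((8, 8, 7), (15, 8, 15), (8, 15, 15)), ((15, 8, 15), (7, 8, 8), (15, 15, 8)),
  ((15, 8, 8), (7, 8, 7), (15, 15, 7)), ((7, 8, 7), (8, 8, 15), (7, 15, 15)),
  ((22, 23, 10), (10, 23, 22), (22, 22, 22)), ((23, 22, 10), (22, 22, 22), (23, 10, 22)),
  ((7, 8, 7), (7, 7, 8), (8, 7, 7)), ((23, 23, 23), (23, 10, 22), (22, 10, 23)),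
  ((15, 15, 8), (15, 8, 15), (7, 8, 8)), ((15, 8, 15), (15, 7, 7), (7, 7, 15)),
  ((15, 7, 7), (15, 15, 8), (7, 15, 7)), ((8, 8, 15), (8, 7, 7), (15, 7, 15)),
  ((15, 8, 8), (15, 7, 15), (7, 7, 8)), ((10, 22, 23), (10, 23, 22), (23, 23, 23)),
  ((22, 10, 23), (22, 22, 22), (10, 22, 23)), ((23, 23, 23), (23, 22, 10), (23, 10, 22)),
  ((22, 22, 23), (22, 10, 10), (22, 23, 22)), ((22, 23, 22), (22, 22, 23), (22, 10, 10)),
  ((7, 7, 8), (7, 8, 7), (7, 15, 15)), ((8, 7, 7), (8, 8, 15), (8, 15, 8)),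
  ((8, 15, 8), (8, 7, 7), (8, 8, 15)), ((23, 10, 22), (23, 23, 23), (23, 22, 10)),
  ((23, 22, 10), (23, 10, 22), (23, 23, 23)), ((23, 22, 22), (23, 10, 23), (23, 23, 10)),
  ((8, 8, 8), (7, 15, 8), (8, 15, 7)), ((7, 7, 8), (15, 8, 8), (7, 8, 7)),
  ((7, 15, 15), (15, 7, 15), (7, 7, 8)), ((22, 23, 22), (23, 22, 22), (22, 22, 23)),
  ((7, 8, 7), (15, 15, 7), (7, 15, 15)), ((23, 22, 22), (10, 10, 22), (23, 10, 23)),
  ((10, 10, 22), (22, 23, 22), (10, 23, 23)), ((7, 15, 8), (15, 7, 8), (7, 7, 7)),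
  ((8, 15, 7), (7, 7, 7), (8, 7, 15)), ((7, 7, 7), (8, 7, 15), (8, 15, 7)),
  ((15, 7, 15), (7, 7, 8), (7, 15, 15)), ((7, 7, 8), (8, 7, 7), (8, 15, 8)),
  ((10, 23, 23), (23, 23, 10), (23, 10, 23)), ((15, 8, 8), (7, 8, 7), (7, 7, 8)),
  ((23, 23, 10), (22, 23, 22), (22, 10, 10)), ((22, 23, 22), (10, 23, 23), (10, 10, 22)),
  ((8, 7, 15), (15, 7, 8), (15, 15, 15)), ((15, 7, 8), (7, 7, 7), (7, 15, 8)),
  ((22, 22, 22), (22, 10, 23), (23, 10, 22)), ((7, 15, 7), (7, 7, 15), (15, 7, 7)),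
  ((15, 7, 7), (15, 8, 15), (8, 8, 7)), ((10, 10, 23), (10, 23, 10), (22, 23, 23)),
  ((8, 8, 7), (8, 15, 15), (7, 15, 7)), ((23, 10, 10), (23, 23, 22), (10, 23, 10)),
  ((22, 10, 22), (22, 23, 23), (23, 23, 22)), ((23, 10, 22), (23, 23, 23), (10, 23, 22)),
  ((23, 22, 10), (23, 10, 22), (10, 10, 10)), ((8, 8, 8), (8, 7, 15), (7, 8, 15)),
  ((7, 15, 15), (7, 8, 7), (15, 15, 7)), ((7, 8, 7), (7, 7, 8), (15, 8, 8)),
  ((23, 23, 10), (23, 10, 23), (10, 23, 23)), ((7, 7, 8), (7, 15, 15), (15, 7, 15)),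
  ((22, 23, 22), (22, 10, 10), (23, 23, 10)), ((23, 22, 22), (23, 23, 10), (10, 22, 10)),
  ((8, 7, 15), (8, 15, 7), (7, 7, 7)), ((8, 15, 7), (8, 8, 8), (7, 15, 8)),
  ((23, 23, 23), (22, 10, 23), (22, 23, 10)), ((15, 7, 7), (7, 15, 7), (7, 7, 15)),
  ((8, 8, 7), (15, 7, 7), (15, 8, 15)), ((10, 23, 10), (23, 10, 10), (23, 23, 22)),
  ((15, 8, 15), (7, 7, 15), (7, 8, 8)), ((22, 22, 10), (10, 23, 10), (10, 22, 22)),
  ((22, 23, 23), (10, 10, 23), (10, 23, 10)), ((23, 10, 22), (22, 22, 22), (22, 10, 23)),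
  ((10, 23, 22), (23, 10, 22), (23, 23, 23)), ((23, 23, 23), (10, 23, 22), (23, 10, 22)),
  ((7, 7, 15), (15, 7, 7), (7, 15, 7)), ((15, 8, 15), (8, 8, 7), (15, 7, 7)),
  ((22, 23, 23), (23, 23, 22), (22, 10, 22)), ((15, 7, 7), (8, 7, 8), (15, 15, 8)),
  ((10, 23, 10), (22, 23, 23), (10, 10, 23)), ((23, 23, 22), (10, 23, 10), (23, 10, 10)),
  ((22, 23, 10), (23, 23, 23), (22, 10, 23)), ((22, 10, 23), (23, 10, 22), (22, 22, 22)),
  ((7, 7, 7), (15, 8, 7), (8, 15, 7)), ((23, 22, 23), (10, 10, 23), (22, 23, 23)),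
  ((22, 22, 10), (23, 10, 10), (10, 23, 10)), ((22, 23, 23), (23, 22, 23), (10, 10, 23)),
  ((8, 7, 8), (7, 8, 8), (15, 15, 8)), ((7, 8, 8), (15, 15, 8), (8, 7, 8)),
  ((15, 15, 8), (8, 7, 8), (7, 8, 8)), ((15, 8, 7), (8, 15, 7), (7, 7, 7)),
  ((8, 15, 7), (7, 7, 7), (15, 8, 7)), ((8, 8, 8), (8, 15, 7), (15, 8, 7)),
  ((22, 22, 10), (22, 10, 22), (10, 22, 22)), ((23, 22, 22), (23, 10, 23), (22, 22, 23)),
  ((23, 23, 10), (23, 22, 22), (22, 23, 22)), ((10, 22, 10), (10, 10, 22), (23, 22, 22)),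
  ((7, 15, 8), (7, 7, 7), (8, 15, 7)), ((7, 8, 15), (7, 15, 8), (8, 8, 8)),
  ((10, 22, 22), (10, 10, 23), (23, 22, 23)), ((23, 22, 23), (23, 10, 10), (22, 22, 10)),
  ((7, 7, 7), (8, 7, 15), (15, 7, 8)), ((22, 23, 23), (10, 23, 10), (23, 23, 22)),
  ((10, 23, 10), (23, 23, 22), (22, 23, 23)), ((23, 23, 22), (22, 23, 23), (10, 23, 10)),
  ((15, 7, 7), (7, 7, 15), (8, 7, 8)), ((7, 7, 15), (8, 7, 8), (15, 7, 7)),
  ((8, 7, 8), (15, 7, 7), (7, 7, 15)), ((7, 15, 8), (8, 15, 7), (15, 15, 15)),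
  ((7, 8, 15), (8, 8, 8), (15, 8, 7)), ((8, 8, 8), (15, 7, 8), (8, 7, 15)),
  ((22, 10, 22), (10, 22, 22), (22, 22, 10)), ((23, 23, 10), (22, 10, 10), (23, 10, 23)),
  ((23, 10, 23), (22, 22, 23), (23, 22, 22)), ((23, 22, 22), (22, 23, 22), (23, 23, 10)),
  ((7, 15, 8), (8, 8, 8), (7, 8, 15)), ((7, 8, 15), (8, 7, 15), (7, 7, 7)),
  ((22, 22, 10), (10, 23, 10), (22, 23, 23)), ((22, 23, 23), (10, 10, 23), (22, 10, 22)),
  ((8, 8, 8), (7, 8, 15), (7, 15, 8)), ((22, 23, 23), (23, 23, 22), (23, 22, 23)),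
  ((22, 23, 22), (23, 23, 10), (23, 22, 22)), ((10, 23, 23), (22, 23, 22), (22, 22, 23)),
  ((23, 23, 10), (10, 23, 23), (10, 22, 10)), ((15, 8, 7), (8, 8, 8), (8, 15, 7)),
  ((15, 7, 8), (8, 7, 15), (8, 8, 8)), ((22, 10, 22), (23, 10, 10), (23, 23, 22)),
  ((22, 22, 10), (23, 22, 23), (23, 10, 10)), ((0, 0, 1), (1, 0, 0), (0, 1, 0)),
  ((0, 0, 4), (18, 0, 0), (0, 4, 0)), ((0, 0, 18), (18, 0, 0), (0, 13, 0)),
  ((0, 0, 12), (1, 0, 0), (0, 12, 0)), ((0, 0, 12), (17, 0, 0), (0, 17, 0)),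
  ((0, 0, 12), (12, 0, 0), (0, 1, 0)), ((0, 0, 1), (17, 0, 0), (0, 12, 0)),
  ((0, 0, 1), (12, 0, 0), (0, 17, 0)), ((0, 0, 18), (4, 0, 0), (0, 4, 0)),
  ((0, 1, 0), (0, 0, 1), (1, 0, 0)), ((0, 4, 0), (0, 0, 18), (4, 0, 0)),
  ((0, 4, 0), (0, 0, 4), (18, 0, 0)), ((0, 17, 0), (0, 0, 12), (17, 0, 0)),
  ((0, 1, 0), (0, 0, 12), (12, 0, 0)), ((0, 1, 0), (0, 0, 1), (17, 0, 0)),
  ((0, 12, 0), (0, 0, 1), (17, 0, 0)), ((0, 1, 0), (0, 0, 12), (17, 0, 0)),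
  ((0, 18, 0), (0, 0, 4), (4, 0, 0)), ((15, 8, 8), (8, 15, 8), (8, 8, 15)),
  ((22, 22, 22), (23, 10, 22), (23, 22, 10)), ((15, 8, 15), (8, 15, 15), (8, 8, 7)),
  ((15, 7, 7), (8, 8, 7), (8, 7, 8)), ((7, 7, 15), (15, 8, 15), (15, 7, 7)),
  ((7, 8, 7), (15, 15, 7), (15, 8, 8)), ((8, 8, 15), (7, 15, 15), (7, 8, 7)),
  ((10, 22, 23), (22, 10, 23), (22, 22, 22)), ((22, 10, 23), (23, 23, 23), (23, 10, 22)),
  ((23, 23, 23), (22, 10, 23), (10, 22, 23)), ((22, 23, 22), (10, 10, 22), (23, 22, 22)),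
  ((10, 23, 23), (23, 10, 23), (22, 22, 23)), ((15, 7, 15), (7, 15, 15), (8, 8, 15)),
  ((8, 8, 15), (15, 7, 15), (7, 15, 15)), ((8, 7, 7), (15, 15, 7), (7, 8, 7)),
  ((10, 22, 23), (23, 23, 23), (22, 10, 23)), ((23, 22, 10), (22, 23, 10), (10, 10, 10)),
  ((23, 23, 10), (22, 10, 10), (10, 22, 10)), ((23, 23, 23), (10, 23, 22), (22, 23, 10)),
  ((10, 23, 23), (22, 23, 22), (23, 23, 10)), ((22, 22, 23), (23, 22, 22), (10, 22, 10)),
  ((8, 7, 7), (7, 7, 8), (15, 7, 15)), ((15, 7, 15), (8, 7, 7), (7, 7, 8)),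
  ((7, 7, 8), (15, 7, 15), (8, 7, 7)), ((10, 22, 23), (22, 22, 22), (23, 22, 10)),
  ((10, 23, 22), (22, 23, 10), (23, 23, 23)), ((22, 23, 22), (23, 23, 10), (10, 23, 23)),
  ((0, 0, 4), (0, 4, 0), (4, 0, 0)), ((0, 0, 4), (0, 4, 0), (13, 0, 0)),
  ((0, 0, 4), (0, 18, 0), (18, 0, 0)), ((0, 0, 18), (0, 4, 0), (18, 0, 0)),
  ((0, 0, 1), (0, 1, 0), (12, 0, 0)), ((0, 0, 1), (0, 12, 0), (1, 0, 0)),
  ((0, 0, 17), (0, 12, 0), (12, 0, 0)), ((0, 0, 4), (0, 18, 0), (13, 0, 0)),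
  ((0, 0, 13), (0, 18, 0), (4, 0, 0)), ((0, 4, 0), (4, 0, 0), (0, 0, 4)),
  ((0, 4, 0), (4, 0, 0), (0, 0, 13)), ((0, 4, 0), (18, 0, 0), (0, 0, 18)),
  ((0, 18, 0), (4, 0, 0), (0, 0, 18)), ((0, 1, 0), (1, 0, 0), (0, 0, 12)),
  ((0, 1, 0), (12, 0, 0), (0, 0, 1)), ((0, 17, 0), (12, 0, 0), (0, 0, 12)),
  ((0, 4, 0), (18, 0, 0), (0, 0, 13)), ((0, 13, 0), (18, 0, 0), (0, 0, 4))]

/-- An invariant set of vectors. -/
def normOrbit : List V3 := [
  (0, 1, 4), (0, 1, 13), (0, 1, 18), (0, 4, 1), (0, 4, 12), (0, 4, 17),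
  (0, 12, 4), (0, 12, 13), (0, 12, 18), (0, 13, 1), (0, 13, 12), (0, 13, 17),
  (0, 17, 4), (0, 17, 13), (0, 17, 18), (0, 18, 1), (0, 18, 12), (0, 18, 17),
  (1, 0, 4), (1, 0, 13), (1, 0, 18), (1, 4, 0), (1, 5, 5), (1, 11, 14),
  (1, 13, 0), (1, 14, 11), (1, 16, 19), (1, 18, 0), (1, 19, 16), (1, 20, 20),
  (2, 2, 3), (2, 3, 2), (2, 3, 3), (2, 6, 9), (2, 6, 21), (2, 9, 6),
  (2, 21, 6), (2, 21, 24), (2, 24, 21), (3, 2, 2), (3, 2, 3), (3, 3, 2),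
  (3, 6, 9), (3, 9, 6), (3, 9, 24), (3, 21, 24), (3, 24, 9), (3, 24, 21),
  (4, 0, 1), (4, 0, 12), (4, 0, 17), (4, 1, 0), (4, 5, 5), (4, 11, 14),
  (4, 12, 0), (4, 14, 11), (4, 16, 19), (4, 17, 0), (4, 19, 16), (4, 20, 20),
  (5, 1, 5), (5, 4, 5), (5, 5, 1), (5, 5, 4), (5, 7, 8), (5, 8, 7),
  (5, 11, 12), (5, 11, 18), (5, 12, 11), (5, 13, 14), (5, 14, 13), (5, 14, 17),
  (5, 15, 15), (5, 17, 14), (5, 18, 11), (6, 2, 9), (6, 2, 21), (6, 3, 9),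
  (6, 6, 24), (6, 9, 2), (6, 9, 3), (6, 21, 2), (6, 24, 6), (6, 24, 24),
  (7, 5, 8), (7, 7, 14), (7, 8, 5), (7, 11, 15), (7, 14, 7), (7, 15, 11),
  (8, 5, 7), (8, 7, 5), (8, 8, 11), (8, 11, 8), (8, 14, 15), (8, 15, 14),
  (9, 2, 6), (9, 3, 6), (9, 3, 24), (9, 6, 2), (9, 6, 3), (9, 9, 21),
  (9, 21, 9), (9, 21, 21), (9, 24, 3), (10, 10, 20), (10, 16, 22), (10, 19, 23),
  (10, 20, 10), (10, 22, 16), (10, 23, 19), (11, 1, 14), (11, 4, 14), (11, 5, 12),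
  (11, 5, 18), (11, 7, 15), (11, 8, 8), (11, 11, 13), (11, 11, 17), (11, 12, 5),
  (11, 13, 11), (11, 14, 1), (11, 14, 4), (11, 15, 7), (11, 17, 11), (11, 18, 5),
  (12, 0, 4), (12, 0, 13), (12, 0, 18), (12, 4, 0), (12, 5, 11), (12, 11, 5),
  (12, 13, 0), (12, 14, 14), (12, 16, 16), (12, 18, 0), (12, 19, 20), (12, 20, 19),
  (13, 0, 1), (13, 0, 12), (13, 0, 17), (13, 1, 0), (13, 5, 14), (13, 11, 11),
  (13, 12, 0), (13, 14, 5), (13, 16, 20), (13, 17, 0), (13, 19, 19), (13, 20, 16),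
  (14, 1, 11), (14, 4, 11), (14, 5, 13), (14, 5, 17), (14, 7, 7), (14, 8, 15),
  (14, 11, 1), (14, 11, 4), (14, 12, 14), (14, 13, 5), (14, 14, 12), (14, 14, 18),
  (14, 15, 8), (14, 17, 5), (14, 18, 14), (15, 5, 15), (15, 7, 11), (15, 8, 14),
  (15, 11, 7), (15, 14, 8), (15, 15, 5), (16, 1, 19), (16, 4, 19), (16, 10, 22),
  (16, 12, 16), (16, 13, 20), (16, 16, 12), (16, 16, 18), (16, 17, 20), (16, 18, 16),
  (16, 19, 1), (16, 19, 4), (16, 20, 13), (16, 20, 17), (16, 22, 10), (16, 23, 23),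
  (17, 0, 4), (17, 0, 13), (17, 0, 18), (17, 4, 0), (17, 5, 14), (17, 11, 11),
  (17, 13, 0), (17, 14, 5), (17, 16, 20), (17, 18, 0), (17, 19, 19), (17, 20, 16),
  (18, 0, 1), (18, 0, 12), (18, 0, 17), (18, 1, 0), (18, 5, 11), (18, 11, 5),
  (18, 12, 0), (18, 14, 14), (18, 16, 16), (18, 17, 0), (18, 19, 20), (18, 20, 19),
  (19, 1, 16), (19, 4, 16), (19, 10, 23), (19, 12, 20), (19, 13, 19), (19, 16, 1),
  (19, 16, 4), (19, 17, 19), (19, 18, 20), (19, 19, 13), (19, 19, 17), (19, 20, 12),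
  (19, 20, 18), (19, 22, 22), (19, 23, 10), (20, 1, 20), (20, 4, 20), (20, 10, 10),
  (20, 12, 19), (20, 13, 16), (20, 16, 13), (20, 16, 17), (20, 17, 16), (20, 18, 19),
  (20, 19, 12), (20, 19, 18), (20, 20, 1), (20, 20, 4), (20, 22, 23), (20, 23, 22),
  (21, 2, 6), (21, 2, 24), (21, 3, 24), (21, 6, 2), (21, 9, 9), (21, 9, 21),
  (21, 21, 9), (21, 24, 2), (21, 24, 3), (22, 10, 16), (22, 16, 10), (22, 19, 22),
  (22, 20, 23), (22, 22, 19), (22, 23, 20), (23, 10, 19), (23, 16, 23), (23, 19, 10),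
  (23, 20, 22), (23, 22, 20), (23, 23, 16), (24, 2, 21), (24, 3, 9), (24, 3, 21),
  (24, 6, 6), (24, 6, 24), (24, 9, 3), (24, 21, 2), (24, 21, 3), (24, 24, 6)]

/-- The diagonal generator. -/
def diagGen : M3 := ((1, 0, 0), (0, 12, 0), (0, 0, 17))

/-- The cyclic permutation. -/
def cycGen : M3 := ((0, 0, 1), (1, 0, 0), (0, 1, 0))

/-- Words for the extraspecial group. -/
def exSteps : List (ℕ × ℕ) := [(0, 0), (0, 1), (1, 0), (1, 1), (2, 0), (2, 1), (3, 1), (4, 0), (4, 1), (5, 0), (5, 1), (6, 0), (7, 0), (7, 1), (8, 0), (8, 1), (9, 0), (11, 1), (12, 1), (13, 0), (13, 1), (14, 0), (16, 1), (17, 1), (21, 1), (22, 1)]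

/-- The commutator scalar. -/
def exScalar : ℕ := 12

/-- An involution normalising `normOrbit` only. -/
def normExtra : M3 := ((0, 5, 5), (20, 2, 3), (20, 3, 2))

/-- An involution moving `normOrbit`. -/
def normOut : M3 := ((0, 0, 1), (0, 4, 0), (1, 0, 0))

/-- A vector it moves out. -/
def normMoved : V3 := (0, 1, 4)

/-- The elements of a monomial group. -/
def monoList : List M3 := build 5 (frameGens.take 3) monoSteps

/-- The elements of the orthogonal group. -/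
def orthList : List M3 := build 5 orthGens orthSteps

/-- The vectors with one nonzero entry, of norm one. -/
def unitCols : List V3 :=
  let z := (List.range 25).filter fun z => decide (mulC 5 (conjC 5 z) z = 1)
  z.map (fun c => (c, 0, 0)) ++ z.map (fun c => (0, c, 0)) ++ z.map (fun c => (0, 0, c))

/-- The rational vectors of norm one. -/
def ratUnit : List V3 :=
  ((List.range 5).flatMap fun x => (List.range 5).flatMap fun y => (List.range 5).map fun z => (x, y, z)).filter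
    fun v => decide (dotC 5 v v = 1)

/-- The extraspecial group. -/
def exList : List M3 := build 5 [diagGen, cycGen] exSteps

/-- The normaliser. -/
def normList : List M3 := build 5 normGens normSteps

/-- The pairs of images of the generators. -/
def exPairs : List (M3 × M3) :=
  exList.flatMap fun A => (exList.filter fun B =>
    decide (mulM 5 A B = smulM 5 exScalar (mulM 5 B A))).map fun B => (A, B)

theorem three_ok : fieldOK 3 threeCert = true := by decide +kernel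

theorem five_ok : fieldOK 5 fiveCert = true := by decide +kernel

theorem frame_gens : frameGens.all (fun M => inSU 5 M && stableUnder 5 frameOrbit M) = true := by decide +kernel

theorem frame_red : Setting.redList 5 frameOrbit = true := by decide +kernel

theorem frame_out : inSU 5 frameOut = true ∧ frameOrbit.any (fun v => decide (v = frameMoved)) = true ∧
    (maskOf 5 frameOrbit).testBit (key 5 (appC 5 frameOut frameMoved)) = false := by decide +kernel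

theorem orth_gens : orthGens.all (fun M => frameGens.any fun N => decide (N = M)) = true := by decide +kernel

theorem mono_complete : unitCols.all (fun u => unitCols.all fun v => !decide (dotC 5 (conjV 5 u) v = 0) ||
    unitCols.all fun w => !inSU 5 (transC (u, v, w)) || monoList.any fun N => decide (N = transC (u, v, w))) =
      true := by decide +kernel

theorem orth_complete : ratUnit.all (fun u => ratUnit.all fun v => !decide (dotC 5 u v = 0) ||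
    ratUnit.all fun w => !inSU 5 (u, v, w) || orthList.any fun N => decide (N = (u, v, w))) = true := by
  decide +kernel

theorem norm_red : Setting.redList 5 normOrbit = true := by decide +kernel

theorem norm_gens : (normExtra :: normGens).all (fun M => inSU 5 M && stableUnder 5 normOrbit M) = true := by
  decide +kernel

theorem norm_out : inSU 5 normOut = true ∧ normOrbit.any (fun v => decide (v = normMoved)) = true ∧
    (maskOf 5 normOrbit).testBit (key 5 (appC 5 normOut normMoved)) = false := by decide +kernel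

theorem ex_closed : exList.all (fun A => exList.all fun B => exList.any fun N => decide (N = mulM 5 A B)) = true := by
  decide +kernel

theorem norm_complete :
    normReps.map (fun n => mulM 5 (mulM 5 n diagGen) (starM 5 n)) = exPairs.map Prod.fst ∧
    normReps.map (fun n => mulM 5 (mulM 5 n cycGen) (starM 5 n)) = exPairs.map Prod.snd ∧
      normReps.all (fun n => decide (mulM 5 (starM 5 n) n = oneM) && !decide (detM 5 n = 4) &&
        (!decide (detM 5 n = 1) || normList.any fun N => decide (N = n))) = true := by decide +kernel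

theorem norm_extra_moves :
    exList.all (fun N => !decide (mulM 5 (mulM 5 normExtra diagGen) (starM 5 normExtra) = N)) = true := by
  decide +kernel

end CfsgLib.Classical.AschPrime.SU3Code
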