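import Cfsg.Agent.Lib.Classical.AschPrime.SU3Data

/-!
# In `SU(3,3)` and `SU(3,5)` the normaliser of a cubic field is not maximal
-/

set_option autoImplicit false
set_option linter.style.haveILetI false

namespace CfsgLib.Classical.AschPrime.SU3Code

open Matrix Cfsg Cfsg.Geo
open scoped MatrixGroups

variable {F : Type*} [Field F] {p : ℕ}

/-- A conjugate of an element of `SU` by a unitary element is in `SU`. -/
theorem suG_conj {g x : GL (Fin 3) F} (hg : g ∈ Cfsg.GU 3 F p) (hx : x ∈ suG 3 F p) :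
    g * x * g⁻¹ ∈ suG 3 F p := by
  obtain ⟨hxU, hxd⟩ := mem_suG.mp hx
  refine mem_suG.mpr ⟨(Cfsg.GU 3 F p).mul_mem ((Cfsg.GU 3 F p).mul_mem hg hxU) ((Cfsg.GU 3 F p).inv_mem hg), ?_⟩
  rw [Units.val_mul, Units.val_mul, Matrix.det_mul, Matrix.det_mul, hxd, mul_one, ← Matrix.det_mul,
    ← Units.val_mul, mul_inv_cancel, Units.val_one, Matrix.det_one]

/-- A subgroup lying in a conjugate of a proper subgroup, strictly, is not maximal. -/
theorem not_maximal_of_conj {H X : Subgroup (GL (Fin 3) F)} (hH : IsMaximalIn (suG 3 F p) H)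
    {g : GL (Fin 3) F} (hg : g ∈ Cfsg.GU 3 F p) (hXS : X ≤ suG 3 F p)
    {o : GL (Fin 3) F} (hoS : o ∈ suG 3 F p) (hoX : o ∉ X)
    (hin : ∀ h ∈ H, g⁻¹ * h * g ∈ X) {x : GL (Fin 3) F} (hx : x ∈ X) (hxH : g * x * g⁻¹ ∉ H) : False := by
  have hHM : H ≤ X.map (MulAut.conj g).toMonoidHom := fun h hh =>
    ⟨g⁻¹ * h * g, hin h hh, by simp [mul_assoc]⟩
  have hMS : X.map (MulAut.conj g).toMonoidHom ≤ suG 3 F p := by
    rintro _ ⟨y, hy, rfl⟩
    exact suG_conj hg (hXS hy)
  rcases hH.2 _ hHM hMS with h | h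
  · exact hxH (h.le ⟨x, hx, rfl⟩)
  · obtain ⟨y, hy, e⟩ := h.ge (suG_conj hg hoS)
    exact hoX ((MulAut.conj g).injective (e : MulAut.conj g y = MulAut.conj g o) ▸ hy)

theorem mem_allV {v : V3} (hv : Red p v) : v ∈ allV p := by
  simp only [allV, List.mem_flatMap, List.mem_map, List.mem_range]
  exact ⟨v.1, hv.1, v.2.1, hv.2.1, v.2.2, hv.2.2, rfl⟩

theorem Setting.mem_suG_of_inSU (S : Setting F p) {M : M3} (h : inSU p M = true) :
    ∃ g ∈ suG 3 F p, (g : Mat 3 F) = toM p S.θ M := by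
  simp only [inSU, Bool.and_eq_true, decide_eq_true_eq] at h
  exact S.exists_unit h.1 h.2

theorem Setting.inv_code (S : Setting F p) {g : GL (Fin 3) F} (hg : g ∈ Cfsg.GU 3 F p) {M : M3}
    (hM : (g : Mat 3 F) = toM p S.θ M) : ((g⁻¹ : GL (Fin 3) F) : Mat 3 F) = toM p S.θ (starM p M) := by
  have h : toM p S.θ (starM p M) * (g : Mat 3 F) = 1 := by
    rw [hM, ← S.toM_mul, S.unitary_code hg hM, S.toM_one]
  calc ((g⁻¹ : GL (Fin 3) F) : Mat 3 F)
      = toM p S.θ (starM p M) * (g : Mat 3 F) * ((g⁻¹ : GL (Fin 3) F) : Mat 3 F) := by rw [h, one_mul]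
    _ = _ := by rw [mul_assoc, Units.mul_inv, mul_one]

theorem red_one (S : Setting F p) :
    Red p oneM.1 ∧ Red p oneM.2.1 ∧ Red p oneM.2.2 := by
  have h1 : 1 < p * p := one_lt_mul'' S.prime.one_lt S.prime.one_lt
  have h0 : 0 < p * p := by omega
  exact ⟨⟨h1, h0, h0⟩, ⟨h0, h1, h0⟩, ⟨h0, h0, h1⟩⟩

theorem Setting.red_unit (S : Setting F p) : Red p (1, 0, 0) := (red_one S).1

/-- The stabiliser certified by a valid certificate contains the normaliser of the torus. -/
theorem field_stabiliser [Finite F] (S : Setting F p) {C : FieldCert} (hok : fieldOK p C = true) :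
    ∃ (z : GL (Fin 3) F) (X : Subgroup (GL (Fin 3) F)) (o : GL (Fin 3) F), z ∈ suG 3 F p ∧ orderOf z = 7 ∧
      X ≤ suG 3 F p ∧ o ∈ suG 3 F p ∧ o ∉ X ∧
      (∀ x ∈ suG 3 F p, x * z * x⁻¹ ∈ Subgroup.zpowers z → x ∈ X) ∧
      ∃ x ∈ X, x * z * x⁻¹ ∉ Subgroup.zpowers z := by
  simp only [fieldOK, Bool.and_eq_true, Bool.not_eq_true', decide_eq_true_eq, decide_eq_false_iff_not] at hok
  obtain ⟨⟨⟨⟨⟨⟨⟨⟨⟨⟨⟨⟨⟨⟨⟨⟨⟨⟨⟨hA, hB⟩, hW⟩, hG⟩, hK⟩, hred⟩, hstA⟩, hstB⟩, hstW⟩, hstK⟩, hmoved⟩, hmove⟩,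
    hlen⟩, h7⟩, hA1⟩, hconj⟩, htr⟩, hbinv⟩, hall⟩, hmoves⟩ := hok
  obtain ⟨A, hAS, hAm⟩ := S.mem_suG_of_inSU hA
  obtain ⟨B, hBS, hBm⟩ := S.mem_suG_of_inSU hB
  obtain ⟨W, hWS, hWm⟩ := S.mem_suG_of_inSU hW
  obtain ⟨o, hoS, hom⟩ := S.mem_suG_of_inSU hG
  obtain ⟨K, hKS, hKm⟩ := S.mem_suG_of_inSU hK
  set Y := S.stab C.orbit with hY
  have hAY : A ∈ Y := S.mem_stab hred hAS hAm hstA
  have hBY : B ∈ Y := S.mem_stab hred hBS hBm hstB
  have hWY : W ∈ Y := S.mem_stab hred hWS hWm hstW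
  have hKY : K ∈ Y := S.mem_stab hred hKS hKm hstK
  have hoY : o ∉ Y := by
    obtain ⟨v, hv, e⟩ := List.any_eq_true.mp hmoved
    exact S.not_mem_stab hred hom (v := v) hv (by rw [of_decide_eq_true e]; exact hmove)
  set P := powers p C.a with hP
  have hPsucc : ∀ i, i < 6 → P.getD (i + 1) oneM = mulM p (P.getD i oneM) C.a := by
    intro i hi
    interval_cases i <;> rfl
  have hpow : ∀ i : ℕ, i < 7 → ((A ^ i : GL (Fin 3) F) : Mat 3 F) = toM p S.θ (P.getD i oneM) := by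
    intro i hi
    induction i with
    | zero => rw [pow_zero, Units.val_one, show P.getD 0 oneM = oneM from rfl, S.toM_one]
    | succ i ih => rw [pow_succ, Units.val_mul, ih (by omega), hAm, ← S.toM_mul, hPsucc i (by omega)]
  have hA7 : A ^ 7 = 1 := Units.ext (by
    rw [pow_succ, Units.val_mul, hpow 6 (by norm_num), hAm, ← S.toM_mul, h7, S.toM_one, Units.val_one])
  have hpow' : ∀ m : ℕ, ((A ^ m : GL (Fin 3) F) : Mat 3 F) = toM p S.θ (P.getD (m % 7) oneM) := fun m => by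
    rw [pow_eq_pow_mod m hA7]; exact hpow _ (Nat.mod_lt _ (by norm_num))
  have hAne : A ≠ 1 := by
    intro h
    have e := congrArg Units.val h
    rw [hAm, Units.val_one, ← S.toM_one] at e
    have hW1 : toM p S.θ (mulM p (mulM p C.w C.a) (starM p C.w)) = toM p S.θ oneM := by
      rw [S.toM_mul, S.toM_mul, e, S.toM_one, mul_one, ← S.toM_mul]
      rw [S.toM_mul, ← S.inv_code (mem_suG.mp hWS).1 hWm, ← hWm, Units.mul_inv]
    have := List.all_eq_true.mp hmoves oneM (by
      rw [show oneM = P.getD 0 oneM from rfl, List.getD_eq_getElem _ _ (by omega : 0 < P.length)]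
      exact List.getElem_mem _)
    simp only [Bool.not_eq_true', decide_eq_false_iff_not] at this
    exact this (S.toM_inj (S.red_mul _ _) (red_one S) hW1)
  haveI : Fact (Nat.Prime 7) := ⟨by norm_num⟩
  have hAo : orderOf A = 7 := orderOf_eq_prime hA7 hAne
  have hgetmem : ∀ i, i < 7 → P.getD i oneM ∈ P := fun i hi => by
    rw [List.getD_eq_getElem _ _ (by omega : i < P.length)]; exact List.getElem_mem _
  -- the centraliser of `A`
  have hcent : ∀ x ∈ suG 3 F p, x * A = A * x → x ∈ Y := by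
    intro x hx hcomm
    obtain ⟨v, hv, hve⟩ := S.exists_codeV ((x : Mat 3 F) *ᵥ Pi.single 0 1)
    have htest := List.all_eq_true.mp hall v (mem_allV hv)
    have hnorm : dotC p (conjV p v) v = 1 := by
      refine S.dec_inj (S.red_lt _ _) (one_lt_mul'' S.prime.one_lt S.prime.one_lt) ?_
      rw [S.dec_one, S.dec_dot]
      have h := (mem_suG.mp hx).1 (Pi.single 0 1) (Pi.single 0 1)
      change Cfsg.hermForm 3 F p ((x : Mat 3 F) *ᵥ Pi.single 0 1) ((x : Mat 3 F) *ᵥ Pi.single 0 1) = _ at h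
      rw [herm_single_right S.σ_eq, Pi.single_eq_same, ← hve] at h
      rw [← h, Cfsg.hermForm]
      refine Finset.sum_congr rfl fun i _ => ?_
      rw [← S.toV_conj, S.σ_eq, mul_comm]
    set c := appC p C.binv v with hc
    set Q := polyM p C.a c with hQ
    simp only [hnorm, decide_true, Bool.not_true, Bool.false_or] at htest
    have hxA : ∀ k : ℕ, (x : Mat 3 F) * ((A ^ k : GL (Fin 3) F) : Mat 3 F) =
        ((A ^ k : GL (Fin 3) F) : Mat 3 F) * x := fun k => by
      rw [← Units.val_mul, ← Units.val_mul, (show Commute x (A ^ k) from Commute.pow_right hcomm k).eq]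
    have hQe : toM p S.θ Q = dec p S.θ c.1 • (1 : Mat 3 F) + dec p S.θ c.2.1 • (A : Mat 3 F) +
        dec p S.θ c.2.2 • ((A : Mat 3 F) * A) := by
      rw [hAm, ← S.toM_mul, ← S.toM_one]
      ext i j
      fin_cases i <;> fin_cases j <;> simp [hQ, polyM, toM, toV, S.dec_add, S.dec_mul]
    let Bm := toM p S.θ (cyclicBasis p C.a)
    have hBl : toM p S.θ C.binv * Bm = 1 := by rw [← S.toM_mul, hbinv, S.toM_one]
    have hBr : Bm * toM p S.θ C.binv = 1 := mul_eq_one_comm.mp hBl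
    have he0 : toV p S.θ (1, 0, 0) = Pi.single 0 1 := by
      funext i
      fin_cases i <;> simp [toV, S.dec_one, S.dec_zero]
    have hcol : ∀ k : Fin 3, Bm *ᵥ Pi.single k 1 = ((A ^ (k : ℕ) : GL (Fin 3) F) : Mat 3 F) *ᵥ Pi.single 0 1 := by
      intro k
      have hT : Bm *ᵥ Pi.single k 1 = (toM p S.θ (transC (cyclicBasis p C.a))) k := by
        rw [S.toM_trans, Matrix.mulVec_single_one]
        rfl
      rw [hT, ← he0]
      fin_cases k
      · show toV p S.θ (appC p oneM (1, 0, 0)) = _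
        rw [S.toV_app, S.toM_one, pow_zero, Units.val_one]
      · show toV p S.θ (appC p C.a (1, 0, 0)) = _
        rw [S.toV_app, pow_one, hAm]
      · show toV p S.θ (appC p (mulM p C.a C.a) (1, 0, 0)) = _
        rw [S.toV_app, S.toM_mul, pow_two, Units.val_mul, hAm]
    have hQ0 : toM p S.θ Q *ᵥ Pi.single 0 1 = (x : Mat 3 F) *ᵥ Pi.single 0 1 := by
      have h1 : Bm *ᵥ toV p S.θ c = (x : Mat 3 F) *ᵥ Pi.single 0 1 := by
        rw [hc, S.toV_app, Matrix.mulVec_mulVec, hBr, Matrix.one_mulVec, hve]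
      have h2 : toV p S.θ c = dec p S.θ c.1 • Pi.single 0 1 + dec p S.θ c.2.1 • Pi.single 1 1 +
          dec p S.θ c.2.2 • Pi.single 2 1 := by
        funext i
        fin_cases i <;> simp [toV]
      rw [← h1, h2, hQe, Matrix.mulVec_add, Matrix.mulVec_add, Matrix.mulVec_smul, Matrix.mulVec_smul,
        Matrix.mulVec_smul, hcol, hcol, hcol, Matrix.add_mulVec, Matrix.add_mulVec, Matrix.smul_mulVec,
        Matrix.smul_mulVec, Matrix.smul_mulVec]
      simp [pow_two]
    have hxQ : (x : Mat 3 F) = toM p S.θ Q := by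
      have hQA : ∀ k : ℕ, toM p S.θ Q * ((A ^ k : GL (Fin 3) F) : Mat 3 F) =
          ((A ^ k : GL (Fin 3) F) : Mat 3 F) * toM p S.θ Q := by
        intro k
        have h1 : Commute (A : Mat 3 F) ((A ^ k : GL (Fin 3) F) : Mat 3 F) := by
          rw [Units.val_pow_eq_pow_val]; exact (Commute.refl _).pow_right k
        rw [hQe]
        exact ((((Commute.one_left _).smul_left _).add_left (h1.smul_left _)).add_left
          ((h1.mul_left h1).smul_left _)).eq
      have h : (x : Mat 3 F) * Bm = toM p S.θ Q * Bm := by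
        refine Matrix.ext_of_mulVec_single fun k => ?_
        rw [← Matrix.mulVec_mulVec, ← Matrix.mulVec_mulVec, hcol, Matrix.mulVec_mulVec,
          Matrix.mulVec_mulVec, hxA, hQA, ← Matrix.mulVec_mulVec, ← hQ0, Matrix.mulVec_mulVec]
      calc (x : Mat 3 F) = (x : Mat 3 F) * Bm * toM p S.θ C.binv := by rw [mul_assoc, hBr, mul_one]
        _ = toM p S.θ Q := by rw [h, mul_assoc, hBr, mul_one]
    have hin : inSU p Q = true := by
      simp only [inSU, Bool.and_eq_true, decide_eq_true_eq]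
      exact ⟨S.unitary_code (mem_suG.mp hx).1 hxQ, S.det_code hx hxQ⟩
    rw [hin, Bool.not_true, Bool.false_or] at htest
    obtain ⟨N, hN, hNe⟩ := List.any_eq_true.mp htest
    rw [of_decide_eq_true hNe] at hN
    have hlist : ∀ M ∈ centList p C, ∃ g ∈ Y, (g : Mat 3 F) = toM p S.θ M := by
      have hPY : ∀ M ∈ P, ∃ g ∈ Y, (g : Mat 3 F) = toM p S.θ M := fun M hM => by
        refine mem_of_build S Y (fun N hN => ?_) _ hM
        rw [List.mem_singleton.mp hN]
        exact ⟨A, hAY, hAm⟩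
      intro M hM
      simp only [centList, List.mem_append, List.mem_map] at hM
      rcases hM with (hM | ⟨M, hM, rfl⟩) | ⟨M, hM, rfl⟩
      · exact hPY M hM
      · obtain ⟨g, hg, hge⟩ := hPY M hM
        exact ⟨g * K, Y.mul_mem hg hKY, by rw [Units.val_mul, hge, hKm, S.toM_mul]⟩
      · obtain ⟨g, hg, hge⟩ := hPY M hM
        exact ⟨g * K * K, Y.mul_mem (Y.mul_mem hg hKY) hKY, by
          rw [Units.val_mul, Units.val_mul, hge, hKm, S.toM_mul, S.toM_mul]⟩
    obtain ⟨g, hg, hge⟩ := hlist Q hN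
    rwa [Units.ext (hxQ.trans hge.symm)]
  have hBA : B * A * B⁻¹ = A ^ 4 := Units.ext (by
    rw [hpow 4 (by norm_num), Units.val_mul, Units.val_mul, S.inv_code (mem_suG.mp hBS).1 hBm, hBm, hAm,
      ← S.toM_mul, ← S.toM_mul, hconj])
  have hBAi : ∀ i : ℕ, B ^ i * A * (B ^ i)⁻¹ = A ^ 4 ^ i := by
    intro i
    induction i with
    | zero => simp
    | succ i ih =>
      rw [pow_succ' B, _root_.mul_inv_rev, show B * B ^ i * A * ((B ^ i)⁻¹ * B⁻¹) =
        B * (B ^ i * A * (B ^ i)⁻¹) * B⁻¹ by group, ih, ← conj_pow, hBA, ← pow_mul, pow_succ' 4 i]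
  refine ⟨A, Y, o, hAS, hAo, S.stab_le _, hoS, hoY, ?_, W, hWY, ?_⟩
  · intro x hx hconjx
    obtain ⟨m, hm⟩ := mem_powers_iff_mem_zpowers.mpr hconjx
    have hm : A ^ m = x * A * x⁻¹ := hm
    have hj := List.all_eq_true.mp htr (m % 7) (List.mem_range.mpr (Nat.mod_lt _ (by norm_num)))
    have hteq : traceM p (P.getD (m % 7) oneM) = traceM p C.a := by
      refine S.dec_inj (S.red_lt _ _) (S.red_lt _ _) ?_
      rw [← S.toM_trace, ← S.toM_trace, ← hpow', hm, Units.val_mul, Units.val_mul, ← hAm]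
      exact Matrix.trace_units_conj x (A : Mat 3 F)
    simp only [hteq, decide_true, Bool.not_true, Bool.false_or, Bool.or_eq_true, decide_eq_true_eq] at hj
    obtain ⟨i, hi⟩ : ∃ i : ℕ, A ^ m = A ^ 4 ^ i := by
      rw [pow_eq_pow_mod m hA7]
      rcases hj with (h | h) | h <;> rw [h]
      · exact ⟨0, rfl⟩
      · exact ⟨2, by rw [pow_eq_pow_mod (4 ^ 2) hA7]; rfl⟩
      · exact ⟨1, rfl⟩
    have hfix : (B ^ i)⁻¹ * x * A = A * ((B ^ i)⁻¹ * x) := by
      have : x * A * x⁻¹ = B ^ i * A * (B ^ i)⁻¹ := by rw [← hm, hi, hBAi]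
      calc (B ^ i)⁻¹ * x * A = (B ^ i)⁻¹ * (x * A * x⁻¹) * x := by group
        _ = A * ((B ^ i)⁻¹ * x) := by rw [this]; group
    have hmem := hcent _ ((suG 3 F p).mul_mem ((suG 3 F p).inv_mem ((suG 3 F p).pow_mem hBS _)) hx) hfix
    simpa using Y.mul_mem (Y.pow_mem hBY i) hmem
  · intro hconjW
    obtain ⟨m, hm⟩ := mem_powers_iff_mem_zpowers.mpr hconjW
    have hm : A ^ m = W * A * W⁻¹ := hm
    have h := List.all_eq_true.mp hmoves _ (hgetmem _ (Nat.mod_lt m (by norm_num)))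
    simp only [Bool.not_eq_true', decide_eq_false_iff_not] at h
    have hPred : Red p (P.getD (m % 7) oneM).1 ∧ Red p (P.getD (m % 7) oneM).2.1 ∧
        Red p (P.getD (m % 7) oneM).2.2 := by
      rcases Nat.eq_zero_or_pos (m % 7) with h0 | h0
      · rw [h0]; exact red_one S
      · have h6 : m % 7 - 1 < 6 := by have := Nat.mod_lt m (show 7 > 0 by norm_num); omega
        rw [show m % 7 = m % 7 - 1 + 1 by omega, hPsucc _ h6]
        exact S.red_mul _ _
    refine h (S.toM_inj (S.red_mul _ _) hPred ?_)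
    rw [← hpow', hm, Units.val_mul, Units.val_mul, S.inv_code (mem_suG.mp hWS).1 hWm, hWm, hAm,
      ← S.toM_mul, ← S.toM_mul]

open scoped Classical in
/-- An adjoint-closed cubic field meets `SU(3,p)` in a subgroup of order seven normalised by its
normaliser. -/
theorem exists_torus [Fintype F] (S : Setting F p) (hp : p = 3 ∨ p = 5) {K : Subalgebra F (Mat 3 F)}
    (hK : IsFieldSubalgebra 3 K) (hadj : IsAdjointClosedFor (Cfsg.hermForm 3 F p) K) :
    ∃ z : GL (Fin 3) F, z ∈ suG 3 F p ∧ orderOf z = 7 ∧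
      ∀ h ∈ subalgebraNormalizer K, h * z * h⁻¹ ∈ Subgroup.zpowers z := by
  haveI := S.char
  have hσ := S.σ_eq
  have hc := S.conj
  letI : Field K := IsField.toField
    { exists_pair_ne := ⟨0, 1, fun h => zero_ne_one (α := Mat 3 F) (congrArg Subtype.val h)⟩
      mul_comm := fun a b => Subtype.ext (hK.comm a a.2 b b.2)
      mul_inv_cancel := fun {a} ha => by
        obtain ⟨b, hb, hab⟩ := hK.inv a a.2 fun h => ha (Subtype.ext h)
        exact ⟨⟨b, hb⟩, Subtype.ext hab⟩ }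
  haveI : Finite K := inferInstance
  letI : Fintype K := Fintype.ofFinite K
  have hcardK : Fintype.card K = p ^ 6 := by
    rw [Module.card_eq_pow_finrank (K := F) (V := K), ← Nat.card_eq_fintype_card, S.card, hK.finrank_eq]
    ring
  haveI : Fact (Nat.Prime 7) := ⟨by norm_num⟩
  obtain ⟨u, hu⟩ := exists_prime_orderOf_dvd_card' (G := Kˣ) 7 (by
    rw [Nat.card_units, Nat.card_eq_fintype_card, hcardK]; rcases hp with rfl | rfl <;> norm_num)
  set z : GL (Fin 3) F := Units.map (K.val : K →ₐ[F] Mat 3 F).toMonoidHom u with hz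
  have hinj : Function.Injective (Units.map (K.val : K →ₐ[F] Mat 3 F).toMonoidHom) :=
    Units.map_injective Subtype.val_injective
  have hzo : orderOf z = 7 := by rw [hz, orderOf_injective _ hinj, hu]
  have hzK : (z : Mat 3 F) ∈ K := (u : K).2
  have hstar : ∀ k ∈ K, (k.map S.σ)ᵀ ∈ K := by
    intro k hk
    obtain ⟨k', hk', he⟩ := hadj k hk
    have : k' = (k.map S.σ)ᵀ := by
      refine Matrix.ext_of_mulVec_single fun j => funext fun i => S.σ.injective ?_
      have h := (he (Pi.single i 1) (Pi.single j 1)).symm.trans (herm_adjoint hσ hc k _ _)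
      rw [← herm_symm hσ hc, ← herm_symm hσ hc (u := _ *ᵥ _)] at h
      simpa [herm_single_right hσ] using h
    exact this ▸ hk'
  let ψ : K →+* K :=
    { toFun := fun k => ⟨((k : Mat 3 F).map S.σ)ᵀ, hstar k k.2⟩
      map_one' := Subtype.ext (by simp)
      map_mul' := fun a b => Subtype.ext (by
        change (((a : Mat 3 F) * (b : Mat 3 F)).map S.σ)ᵀ =
          ((a : Mat 3 F).map S.σ)ᵀ * ((b : Mat 3 F).map S.σ)ᵀ
        rw [Matrix.map_mul, Matrix.transpose_mul]
        exact hK.comm _ (hstar b b.2) _ (hstar a a.2))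
      map_zero' := Subtype.ext (by simp)
      map_add' := fun a b => Subtype.ext (by
        change (((a : Mat 3 F) + (b : Mat 3 F)).map S.σ)ᵀ =
          ((a : Mat 3 F).map S.σ)ᵀ + ((b : Mat 3 F).map S.σ)ᵀ
        rw [Matrix.map_add _ (map_add S.σ), Matrix.transpose_add]) }
  have hψψ : ∀ k, ψ (ψ k) = k := fun k => Subtype.ext (by
    change ((((k : Mat 3 F).map S.σ)ᵀ).map S.σ)ᵀ = (k : Mat 3 F)
    ext i j
    simp [hc.invol])
  let L : Subfield K := RingHom.eqLocusField ψ (RingHom.id K)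
  have hLtop : L ≠ ⊤ := by
    intro h
    have hm : algebraMap F K S.θ ∈ L := h ▸ Subfield.mem_top _
    have e : ((algebraMap F (Mat 3 F) S.θ).map S.σ)ᵀ = algebraMap F (Mat 3 F) S.θ := congrArg Subtype.val hm
    have e00 := congrFun (congrFun e 0) 0
    simp [Matrix.algebraMap_matrix_apply, S.σ_θ] at e00
    have h2θ : (2 : F) * S.θ = 0 := by linear_combination -e00
    have h2 : (2 : F) ≠ 0 := by
      intro h2
      have h' : ((2 : ℕ) : F) = 0 := by exact_mod_cast h2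
      have := Nat.le_of_dvd (by norm_num) ((CharP.cast_eq_zero_iff F p 2).mp h')
      omega
    have h0 := (mul_eq_zero.mp h2θ).resolve_left h2
    have := S.sq
    rw [h0, mul_zero] at this
    exact h2 this.symm
  have hfixed : ∀ y : K, ψ y = y → y ^ 7 = 1 → y = 1 := by
    intro y hy hy7
    haveI : Fintype L := Fintype.ofFinite L
    have hcard := Module.card_eq_pow_finrank (K := L) (V := K)
    rw [hcardK] at hcard
    have hlt : Fintype.card L < p ^ 6 := by
      rw [← hcardK]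
      refine Fintype.card_lt_of_injective_not_surjective _ Subtype.val_injective fun hsurj => hLtop ?_
      exact eq_top_iff.mpr fun k _ => by obtain ⟨l, rfl⟩ := hsurj k; exact l.2
    have hd : Fintype.card L ∣ p ^ 6 := ⟨Fintype.card L ^ (Module.finrank L K - 1), by
      rw [← pow_succ', Nat.sub_add_cancel Module.finrank_pos]
      simpa using hcard⟩
    obtain ⟨m, hm6, hm⟩ := (Nat.dvd_prime_pow S.prime).mp hd
    have hmd : m ∣ 6 := by
      rw [hm, ← pow_mul] at hcard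
      exact ⟨_, Nat.pow_right_injective S.prime.two_le hcard⟩
    have hy0 : y ≠ 0 := fun h => by rw [h] at hy7; simp at hy7
    have h := FiniteField.pow_card_sub_one_eq_one (⟨y, hy⟩ : L) (fun h => hy0 (congrArg Subtype.val h))
    have h' : y ^ (Fintype.card L - 1) = 1 := by
      simpa using congrArg Subtype.val h
    have := pow_gcd_eq_one.mpr ⟨hy7, h'⟩
    rw [hm] at this hlt
    have hmem : m ∈ Nat.divisors 6 := Nat.mem_divisors.mpr ⟨hmd, by norm_num⟩
    rw [show Nat.divisors 6 = {1, 2, 3, 6} by decide +kernel] at hmem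
    simp only [Finset.mem_insert, Finset.mem_singleton] at hmem
    rcases hmem with rfl | rfl | rfl | rfl
    all_goals first
      | exact absurd hlt (lt_irrefl _)
      | (rcases hp with h | h <;> subst h <;> simpa using this)
  have hu7 : (u : K) ^ 7 = 1 := by
    rw [← Units.val_pow_eq_pow_val, ← hu, pow_orderOf_eq_one, Units.val_one]
  have hunit : ψ (u : K) * (u : K) = 1 :=
    hfixed _ (by rw [map_mul, hψψ, mul_comm]) (by rw [mul_pow, ← map_pow, hu7, map_one, one_mul])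
  have hzU : z ∈ Cfsg.GU 3 F p := by
    intro a b
    change Cfsg.hermForm 3 F p ((z : Mat 3 F) *ᵥ a) ((z : Mat 3 F) *ᵥ b) = _
    rw [herm_adjoint hσ hc, Matrix.mulVec_mulVec]
    have h : ((z : Mat 3 F).map S.σ)ᵀ * (z : Mat 3 F) = 1 := congrArg Subtype.val hunit
    rw [h, Matrix.one_mulVec]
  refine ⟨z, mem_suG.mpr ⟨hzU, ?_⟩, hzo, fun h hh => ?_⟩
  · have h7 : (z : Mat 3 F).det ^ 7 = 1 := by
      rw [← Matrix.det_pow, ← Units.val_pow_eq_pow_val, ← hzo, pow_orderOf_eq_one, Units.val_one,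
        Matrix.det_one]
    have hq : (z : Mat 3 F).det ^ (p * p - 1) = 1 := by
      have := FiniteField.pow_card_sub_one_eq_one (z : Mat 3 F).det
        ((Matrix.isUnit_iff_isUnit_det _).mp z.isUnit).ne_zero
      rwa [← Nat.card_eq_fintype_card, S.card] at this
    have := pow_gcd_eq_one.mpr ⟨h7, hq⟩
    rcases hp with h | h <;> subst h <;> simpa using this
  have hmem : ((h * z * h⁻¹ : GL (Fin 3) F) : Mat 3 F) ∈ K := by
    rw [Units.val_mul, Units.val_mul]; exact (hh _).mp hzK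
  have hpr : IsPrimitiveRoot (u : K) 7 := by
    rw [IsPrimitiveRoot.iff_orderOf, orderOf_units]
    exact hu
  have hz7 : (h * z * h⁻¹) ^ 7 = 1 := by
    rw [conj_pow, ← hzo, pow_orderOf_eq_one, mul_one, mul_inv_cancel]
  obtain ⟨i, -, hi⟩ := hpr.eq_pow_of_pow_eq_one (ξ := (⟨_, hmem⟩ : K)) (Subtype.ext (by
    rw [SubmonoidClass.coe_pow, ← Units.val_pow_eq_pow_val, hz7]
    rfl))
  refine Subgroup.mem_zpowers_iff.mpr ⟨(i : ℤ), Units.ext ?_⟩
  rw [zpow_natCast, Units.val_pow_eq_pow_val]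
  exact congrArg Subtype.val hi

/-- In `SU(3,3)` and `SU(3,5)` a maximal subgroup normalises no adjoint-closed cubic field. -/
theorem field_not_maximal [Fintype F] (S : Setting F p) (hp : p = 3 ∨ p = 5)
    {H : Subgroup (GL (Fin 3) F)} (hH : IsMaximalIn (suG 3 F p) H) {K : Subalgebra F (Mat 3 F)}
    (hK : IsFieldSubalgebra 3 K) (hadj : IsAdjointClosedFor (Cfsg.hermForm 3 F p) K)
    (hle : H ≤ subalgebraNormalizer K) : False := by
  obtain ⟨z, hzS, hzo, hznorm⟩ := exists_torus S hp hK hadj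
  obtain ⟨a, X, o, haS, hao, hXS, hoS, hoX, hXin, x, hxX, hxa⟩ : ∃ (z : GL (Fin 3) F)
      (X : Subgroup (GL (Fin 3) F)) (o : GL (Fin 3) F), z ∈ suG 3 F p ∧ orderOf z = 7 ∧
      X ≤ suG 3 F p ∧ o ∈ suG 3 F p ∧ o ∉ X ∧
      (∀ x ∈ suG 3 F p, x * z * x⁻¹ ∈ Subgroup.zpowers z → x ∈ X) ∧
      ∃ x ∈ X, x * z * x⁻¹ ∉ Subgroup.zpowers z := by
    rcases hp with h | h <;> subst h
    · exact field_stabiliser S three_ok
    · exact field_stabiliser S five_ok
  haveI : Fact (Nat.Prime 7) := ⟨by norm_num⟩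
  have hsq : ¬ 7 ^ 2 ∣ Nat.card (GL (Fin 3) F) := by
    rw [Matrix.card_GL_field, Fin.prod_univ_three, ← Nat.card_eq_fintype_card, S.card]
    rcases hp with rfl | rfl <;> norm_num
  have hsyl : ∀ y : ↥(suG 3 F p), orderOf y = 7 →
      ∃ P : Sylow 7 ↥(suG 3 F p), (P : Subgroup ↥(suG 3 F p)) = Subgroup.zpowers y := by
    intro y hy
    have hcard : Nat.card (Subgroup.zpowers y) = 7 := by rw [Nat.card_zpowers, hy]
    obtain ⟨P, hP⟩ := (IsPGroup.of_card (p := 7) (n := 1) (by rw [hcard, pow_one]) :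
      IsPGroup 7 (Subgroup.zpowers y)).exists_le_sylow
    obtain ⟨k, hk⟩ := IsPGroup.iff_card.mp P.2
    refine ⟨P, (Subgroup.eq_of_le_of_card_ge hP ?_).symm⟩
    have hk1 : k ≤ 1 := by
      by_contra hk2
      refine hsq ?_
      exact (pow_dvd_pow 7 (show 2 ≤ k by omega)).trans
        (hk ▸ (Subgroup.card_subgroup_dvd_card _).trans (Subgroup.card_subgroup_dvd_card _))
    rw [hk, hcard]
    exact Nat.pow_le_pow_right (by norm_num) hk1 |>.trans_eq (pow_one 7)
  obtain ⟨P, hP⟩ := hsyl ⟨a, haS⟩ (by rw [Subgroup.orderOf_mk, hao])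
  obtain ⟨Q, hQ⟩ := hsyl ⟨z, hzS⟩ (by rw [Subgroup.orderOf_mk, hzo])
  obtain ⟨g, hg⟩ := MulAction.exists_smul_eq ↥(suG 3 F p) P Q
  have hPQ : (Subgroup.zpowers a).map (MulAut.conj (g : GL (Fin 3) F)).toMonoidHom = Subgroup.zpowers z := by
    have h := congrArg (fun R : Sylow 7 ↥(suG 3 F p) =>
      (R : Subgroup ↥(suG 3 F p)).map (suG 3 F p).subtype) hg
    simp only [hQ, MonoidHom.map_zpowers] at h
    rw [MonoidHom.map_zpowers]
    rw [show ((g • P : Sylow 7 ↥(suG 3 F p)) : Subgroup ↥(suG 3 F p)) =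
      (P : Subgroup ↥(suG 3 F p)).map (MulAut.conj g).toMonoidHom from rfl, hP, MonoidHom.map_zpowers,
      MonoidHom.map_zpowers] at h
    simpa using h
  set c := MulAut.conj (g : GL (Fin 3) F)
  have hconj' : ∀ y : GL (Fin 3) F, c y ∈ Subgroup.zpowers z → y ∈ Subgroup.zpowers a := fun y hy => by
    rw [← hPQ] at hy
    obtain ⟨y', hy', e⟩ := hy
    exact c.injective e ▸ hy'
  have hca : c a ∈ Subgroup.zpowers z := hPQ ▸ Subgroup.mem_map_of_mem _ (Subgroup.mem_zpowers a)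
  have hnorm : ∀ h ∈ H, ∀ y ∈ Subgroup.zpowers z, h * y * h⁻¹ ∈ Subgroup.zpowers z := by
    intro h hh y hy
    obtain ⟨i, rfl⟩ := Subgroup.mem_zpowers_iff.mp hy
    rw [← conj_zpow]
    exact Subgroup.zpow_mem _ (hznorm h (hle hh)) i
  refine not_maximal_of_conj hH (mem_suG.mp g.2).1 hXS hoS hoX (fun h hh => hXin _ ?_ ?_) hxX fun hx => hxa ?_
  · exact (suG 3 F p).mul_mem ((suG 3 F p).mul_mem ((suG 3 F p).inv_mem g.2) (hH.1.le hh)) g.2
  · refine hconj' _ ?_
    have := hnorm h hh _ hca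
    simpa [c, mul_assoc] using this
  · refine hconj' _ ?_
    have := hnorm _ hx _ hca
    simpa [c, mul_assoc] using this

end CfsgLib.Classical.AschPrime.SU3Code
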