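import Cfsg.Agent.Lib.Classical.AschPrime.SU3Field

/-!
# Unitary frames in `SU(3,p)`, and the monomial and orthogonal subgroups
-/

set_option autoImplicit false
set_option linter.style.haveILetI false

namespace CfsgLib.Classical.AschPrime.SU3Code

open Matrix Cfsg Cfsg.Geo
open scoped MatrixGroups

variable {F : Type*} [Field F] {p : ℕ}

/-- Orthonormal vectors are the columns of a unitary matrix. -/
theorem exists_unitary_of_frame (S : Setting F p) (v : Fin 3 → (Fin 3 → F))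
    (hv : ∀ i j, Cfsg.hermForm 3 F p (v i) (v j) = if i = j then 1 else 0) :
    ∃ g ∈ Cfsg.GU 3 F p, ∀ j, (g : Mat 3 F) *ᵥ Pi.single j 1 = v j := by
  let A : Mat 3 F := Matrix.of fun i j => v j i
  have hA : (A.map S.σ)ᵀ * A = 1 := by
    ext i j
    rw [Matrix.one_apply, ← (show (if j = i then (1 : F) else 0) = if i = j then 1 else 0 by
      simp only [eq_comm]), ← hv j i, Matrix.mul_apply, Cfsg.hermForm]
    refine Finset.sum_congr rfl fun k _ => ?_
    simp [A, S.σ_eq, mul_comm]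
  let g : GL (Fin 3) F := ⟨A, (A.map S.σ)ᵀ, mul_eq_one_comm.mp hA, hA⟩
  refine ⟨g, ?_, fun j => ?_⟩
  · intro a b
    change Cfsg.hermForm 3 F p (A *ᵥ a) (A *ᵥ b) = _
    rw [herm_adjoint S.σ_eq S.conj, Matrix.mulVec_mulVec, hA, Matrix.one_mulVec]
  · funext i
    show (A *ᵥ Pi.single j 1) i = v j i
    rw [Matrix.mulVec_single_one]
    rfl

/-- Fixed elements are norms. -/
theorem exists_norm [Finite F] (S : Setting F p) (hp : p = 3 ∨ p = 5) {h : F} (hf : S.σ h = h)
    (h0 : h ≠ 0) : ∃ c : F, c ≠ 0 ∧ c * S.σ c = h := by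
  obtain ⟨x, hx, rfl⟩ := S.exists_code h
  have key : ∀ q, q = 3 ∨ q = 5 → ∀ x < q * q, conjC q x = x → x ≠ 0 →
      ∃ c < q * q, c ≠ 0 ∧ mulC q c (conjC q c) = x := by
    rintro q (rfl | rfl) <;> decide +kernel
  have hxf : conjC p x = x := S.dec_inj (S.red_lt _ _) hx (by rw [← S.dec_conj, hf])
  have hx0 : x ≠ 0 := fun e => h0 (by rw [e, S.dec_zero])
  obtain ⟨c, hc, hc0, he⟩ := key p hp x hx hxf hx0
  refine ⟨dec p S.θ c, fun e => hc0 ?_, by rw [S.dec_conj, ← S.dec_mul, he]⟩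
  exact S.dec_inj hc (Nat.mul_pos S.prime.pos S.prime.pos) (by rw [e, S.dec_zero])

/-- A vector orthogonal to independent vectors of norm zero: impossible. -/
theorem norms_ne_zero (S : Setting F p) {v : Fin 3 → (Fin 3 → F)} (hli : LinearIndependent F v)
    (hv : ∀ i j, i ≠ j → Cfsg.hermForm 3 F p (v i) (v j) = 0) (i : Fin 3) :
    Cfsg.hermForm 3 F p (v i) (v i) ≠ 0 := by
  intro h0
  let A : Mat 3 F := Matrix.of fun r c => v c r
  have hA : IsUnit A := by
    rw [← Matrix.linearIndependent_cols_iff_isUnit]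
    exact hli
  have hd : (((A.map S.σ)ᵀ) * A) = Matrix.diagonal fun j => Cfsg.hermForm 3 F p (v j) (v j) := by
    ext a b
    have : ((A.map S.σ)ᵀ * A) a b = Cfsg.hermForm 3 F p (v b) (v a) := by
      rw [Matrix.mul_apply, Cfsg.hermForm]
      refine Finset.sum_congr rfl fun k _ => ?_
      simp [A, S.σ_eq, mul_comm]
    rw [this, Matrix.diagonal_apply]
    split
    · next h => subst h; rfl
    · next h => exact hv b a (Ne.symm h)
  have hu : IsUnit ((A.map S.σ)ᵀ * A) := by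
    rw [Matrix.isUnit_iff_isUnit_det, Matrix.det_mul, Matrix.det_transpose]
    exact (((Matrix.isUnit_iff_isUnit_det _).mp (hA.map S.σ.mapMatrix))).mul ((Matrix.isUnit_iff_isUnit_det _).mp hA)
  rw [hd, Matrix.isUnit_iff_isUnit_det, Matrix.det_diagonal] at hu
  exact hu.ne_zero (Finset.prod_eq_zero (Finset.mem_univ i) h0)

/-- A decomposition into orthogonal non-degenerate lines has a unitary frame. -/
theorem frame_of_decomposition [Finite F] (S : Setting F p) (hp : p = 3 ∨ p = 5)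
    {D : Fin 3 → Submodule F (Fin 3 → F)}
    (hD : IsNondegenerateMDecomposition (Cfsg.hermForm 3 F p) 1 D) :
    ∃ g ∈ Cfsg.GU 3 F p, ∀ j, D j = Submodule.span F {(g : Mat 3 F) *ᵥ Pi.single j 1} := by
  have hs := herm_sesq (n := 3) S.σ_eq
  have hex : ∀ j, ∃ v ∈ D j, Cfsg.hermForm 3 F p v v = 1 := by
    intro j
    obtain ⟨v, hv, hv0⟩ : ∃ v ∈ D j, v ≠ 0 := Submodule.exists_mem_ne_zero_of_ne_bot fun e => by
      have := hD.decomp.finrank_eq j
      rw [e, finrank_bot] at this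
      exact absurd this (by norm_num)
    obtain ⟨⟨x, hx, hxv⟩, -⟩ := hD.nondegenerate j v hv hv0
    obtain ⟨a, ha⟩ := exists_smul_eq_of_finrank_eq_one (hD.decomp.finrank_eq j)
      (x := (⟨v, hv⟩ : D j)) (fun e => hv0 (congrArg Subtype.val e)) ⟨x, hx⟩
    have hvv : Cfsg.hermForm 3 F p v v ≠ 0 := fun e => hxv (by
      rw [← (show a • v = x from congrArg Subtype.val ha), hs.smul_left, e, mul_zero])
    obtain ⟨c, hc0, hc⟩ := exists_norm S hp (herm_symm S.σ_eq S.conj v v) hvv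
    refine ⟨c⁻¹ • v, (D j).smul_mem _ hv, ?_⟩
    have hσc : S.σ c ≠ 0 := fun e => hc0 (S.σ.injective (by rw [e, map_zero]))
    rw [hs.smul_left, hs.smul_right, ← hc, map_inv₀]
    field_simp
  choose v hvD hv1 using hex
  obtain ⟨g, hg, hgv⟩ := exists_unitary_of_frame S v fun i j => by
    split
    · next h => rw [h, hv1]
    · next h => exact hD.orthogonal i j h _ (hvD i) _ (hvD j)
  refine ⟨g, hg, fun j => ?_⟩
  rw [hgv]
  refine le_antisymm (fun x hx => ?_) ((Submodule.span_singleton_le_iff_mem _ _).mpr (hvD j))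
  have hv0 : v j ≠ 0 := fun e => by
    have := hv1 j
    rw [e] at this
    simp [Cfsg.hermForm] at this
  obtain ⟨a, ha⟩ := exists_smul_eq_of_finrank_eq_one (hD.decomp.finrank_eq j)
    (x := (⟨v j, hvD j⟩ : D j)) (fun e => hv0 (congrArg Subtype.val e)) ⟨x, hx⟩
  exact Submodule.mem_span_singleton.mpr ⟨a, congrArg Subtype.val ha⟩

/-- An element stabilising the coordinate lines is monomial. -/
theorem monomial_of_conj {D : Fin 3 → Submodule F (Fin 3 → F)} {g h : GL (Fin 3) F}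
    (hD : ∀ j, D j = Submodule.span F {(g : Mat 3 F) *ᵥ Pi.single j 1})
    (hh : h ∈ decompositionStabilizer D) :
    ∃ π : Equiv.Perm (Fin 3), ∃ a : Fin 3 → F,
      ∀ j, ((g⁻¹ * h * g : GL (Fin 3) F) : Mat 3 F) *ᵥ Pi.single j 1 = a j • Pi.single (π j) 1 := by
  obtain ⟨π, hπ⟩ := hh
  have hex : ∀ j, ∃ a : F, a • ((g : Mat 3 F) *ᵥ Pi.single (π j) 1) =
      (h : Mat 3 F) *ᵥ ((g : Mat 3 F) *ᵥ Pi.single j 1) := fun j =>
    Submodule.mem_span_singleton.mp ((hD (π j)) ▸ (hπ j) ▸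
      ⟨(g : Mat 3 F) *ᵥ Pi.single j 1, by
        rw [hD j]; exact Submodule.mem_span_singleton_self _, by simp⟩)
  choose a ha using hex
  refine ⟨π, a, fun j => ?_⟩
  rw [Units.val_mul, Units.val_mul, ← Matrix.mulVec_mulVec, ← Matrix.mulVec_mulVec, ← ha,
    Matrix.mulVec_smul, Matrix.mulVec_mulVec, Units.inv_mul, Matrix.one_mulVec]

/-- Vectors of the structure given by `P`. -/
def IsRat (F₀ : Subfield F) (P : GL (Fin 3) F) (v : Fin 3 → F) : Prop :=
  ∃ u : Fin 3 → F, (∀ i, u i ∈ F₀) ∧ (P : Mat 3 F) *ᵥ u = v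

theorem IsRat.add {F₀ : Subfield F} {P : GL (Fin 3) F} {v w : Fin 3 → F} (hv : IsRat F₀ P v)
    (hw : IsRat F₀ P w) : IsRat F₀ P (v + w) := by
  obtain ⟨a, ha, rfl⟩ := hv
  obtain ⟨b, hb, rfl⟩ := hw
  exact ⟨a + b, fun i => F₀.add_mem (ha i) (hb i), Matrix.mulVec_add _ _ _⟩

theorem IsRat.smul {F₀ : Subfield F} {P : GL (Fin 3) F} {v : Fin 3 → F} (hv : IsRat F₀ P v) {c : F}
    (hc : c ∈ F₀) : IsRat F₀ P (c • v) := by
  obtain ⟨a, ha, rfl⟩ := hv
  exact ⟨c • a, fun i => F₀.mul_mem hc (ha i), Matrix.mulVec_smul _ _ _⟩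

theorem card_fixedField [Fintype F] (S : Setting F p) {F₀ : Subfield F}
    (hcard : Fintype.card F = Nat.card F₀ ^ 2) : Nat.card F₀ = p := by
  rw [← Nat.card_eq_fintype_card, S.card, ← sq] at hcard
  exact (Nat.pow_left_injective two_ne_zero hcard).symm

theorem fixed_of_mem [Fintype F] (S : Setting F p) {F₀ : Subfield F}
    (hcard : Fintype.card F = Nat.card F₀ ^ 2) {x : F} (hx : x ∈ F₀) : S.σ x = x := by
  haveI : Fintype F₀ := Fintype.ofFinite F₀
  have := FiniteField.pow_card (⟨x, hx⟩ : F₀)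
  rw [← Nat.card_eq_fintype_card, card_fixedField S hcard] at this
  rw [S.σ_eq]
  exact congrArg Subtype.val this

/-- A field element fixed by `σ` is coded below `p`. -/
theorem exists_small_code [Finite F] (S : Setting F p) (hp : p = 3 ∨ p = 5) {x : F} (hx : S.σ x = x) :
    ∃ a < p, dec p S.θ a = x := by
  obtain ⟨a, ha, rfl⟩ := S.exists_code x
  refine ⟨a, ?_, rfl⟩
  have h : conjC p a = a := S.dec_inj (S.red_lt _ _) ha (by rw [← S.dec_conj, hx])
  have key : ∀ q, q = 3 ∨ q = 5 → ∀ a < q * q, conjC q a = a → a < q := by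
    rintro q (rfl | rfl) <;> decide +kernel
  exact key p hp a ha h

/-- An orthogonal rational triple whose norms are all equal. -/
theorem equal_norms [Finite F] (S : Setting F p) (hp : p = 3 ∨ p = 5) {F₀ : Subfield F}
    (hfix : ∀ x ∈ F₀, S.σ x = x) (hmem : ∀ a : ℕ, (a : F) ∈ F₀) {P : GL (Fin 3) F}
    {w : Fin 3 → (Fin 3 → F)} (hw : ∀ i, IsRat F₀ P (w i))
    (ho : ∀ i j, i ≠ j → Cfsg.hermForm 3 F p (w i) (w j) = 0)
    (hn : ∀ i, Cfsg.hermForm 3 F p (w i) (w i) ≠ 0) :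
    ∃ (u : Fin 3 → (Fin 3 → F)) (d : F), d ≠ 0 ∧ S.σ d = d ∧ (∀ i, IsRat F₀ P (u i)) ∧
      ∀ i j, Cfsg.hermForm 3 F p (u i) (u j) = if i = j then d else 0 := by
  haveI := S.char
  have hs := herm_sesq (n := 3) S.σ_eq
  have hdec : ∀ a < p, dec p S.θ a = (a : F) := fun a ha => by
    simp [dec, Nat.div_eq_of_lt ha]
  have key : ∀ q, q = 3 ∨ q = 5 → ∀ a < q, a ≠ 0 → ∃ e < 3, ∃ t < q,
      (e = 1 ∨ e = 2) ∧ e * (t * t) % q = a ∧ t ≠ 0 := by
    rintro q (rfl | rfl) <;> decide +kernel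
  have hclass : ∀ i, ∃ e : ℕ, ∃ t : ℕ, (e = 1 ∨ e = 2) ∧ t ≠ 0 ∧ t < p ∧
      Cfsg.hermForm 3 F p (w i) (w i) = (e : F) * ((t : F) * (t : F)) := by
    intro i
    obtain ⟨a, ha, hax⟩ := exists_small_code S hp (herm_symm S.σ_eq S.conj (w i) (w i))
    obtain ⟨e, -, t, ht, he, het, ht0⟩ := key p hp a ha fun h0 => hn i (by rw [← hax, h0, S.dec_zero])
    refine ⟨e, t, he, ht0, ht, ?_⟩
    rw [← hax, hdec a ha, ← het, S.cast_mod]
    push_cast
    ring
  choose e t he ht0 htp hN using hclass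
  have htF : ∀ i, (t i : F) ≠ 0 := fun i h =>
    ht0 i (Nat.eq_zero_of_dvd_of_lt ((CharP.cast_eq_zero_iff F p _).mp h) (htp i))
  -- rescale the norms to `1` or `2`
  let v : Fin 3 → (Fin 3 → F) := fun i => (t i : F)⁻¹ • w i
  have hvr : ∀ i, IsRat F₀ P (v i) := fun i => (hw i).smul (F₀.inv_mem (hmem _))
  have hfixn : ∀ a : ℕ, S.σ (a : F) = (a : F) := fun a => map_natCast S.σ a
  have hvo : ∀ i j, Cfsg.hermForm 3 F p (v i) (v j) = if i = j then (e i : F) else 0 := by
    intro i j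
    rw [hs.smul_left, hs.smul_right, map_inv₀, hfixn]
    split
    · next h =>
      subst h
      rw [hN]
      field_simp [htF i]
    · next h => rw [ho i j h, mul_zero, mul_zero]
  have h2 : (2 : F) ≠ 0 := by
    intro h
    have h' : ((2 : ℕ) : F) = 0 := by exact_mod_cast h
    have := Nat.le_of_dvd (by norm_num) ((CharP.cast_eq_zero_iff F p 2).mp h')
    omega
  have h2F : (2 : F) ∈ F₀ := by simpa using hmem 2
  have hneg : ∀ {x : Fin 3 → F}, IsRat F₀ P x → IsRat F₀ P ((-1 : F) • x) := fun hx =>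
    hx.smul (F₀.neg_mem F₀.one_mem)
  by_cases hall : e 0 = e 1 ∧ e 1 = e 2
  · refine ⟨v, (e 0 : F), ?_, hfixn _, hvr, fun i j => ?_⟩
    · rcases he 0 with h | h <;> rw [h] <;> simp [h2]
    · rw [hvo]
      split
      · fin_cases i <;> simp [hall.1, hall.2]
      · rfl
  obtain ⟨a, b, c, hab, hac, hbc, hea, hec⟩ : ∃ a b c : Fin 3, a ≠ b ∧ a ≠ c ∧ b ≠ c ∧ e a = e b ∧ e a ≠ e c := by
    by_cases h01 : e 0 = e 1
    · exact ⟨0, 1, 2, by decide, by decide, by decide, h01, fun h => hall ⟨h01, by omega⟩⟩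
    · by_cases h02 : e 0 = e 2
      · exact ⟨0, 2, 1, by decide, by decide, by decide, h02, h01⟩
      · have := he 0; have := he 1; have := he 2
        exact ⟨1, 2, 0, by decide, by decide, by decide, by omega, Ne.symm h01⟩
  -- change the pair
  let x : Fin 3 → F := v a + v b
  let y : Fin 3 → F := v a + (-1 : F) • v b
  have hva : Cfsg.hermForm 3 F p (v a) (v a) = e a := by rw [hvo, if_pos rfl]
  have hvb : Cfsg.hermForm 3 F p (v b) (v b) = e a := by rw [hvo, if_pos rfl, hea]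
  have hvc : Cfsg.hermForm 3 F p (v c) (v c) = e c := by rw [hvo, if_pos rfl]
  have z : ∀ i j, i ≠ j → Cfsg.hermForm 3 F p (v i) (v j) = 0 := fun i j h => by rw [hvo, if_neg h]
  have hσ1 : S.σ (-1 : F) = -1 := by rw [map_neg, map_one]
  have hxx : Cfsg.hermForm 3 F p x x = 2 * (e a : F) := by
    simp only [x, hs.add_left, hs.add_right, hva, hvb, z a b hab, z b a hab.symm]; ring
  have hyy : Cfsg.hermForm 3 F p y y = 2 * (e a : F) := by
    simp only [y, hs.add_left, hs.add_right, hs.smul_left, hs.smul_right, hσ1, hva, hvb, z a b hab,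
      z b a hab.symm]; ring
  have hxy : Cfsg.hermForm 3 F p x y = 0 := by
    simp only [x, y, hs.add_left, hs.add_right, hs.smul_right, hσ1, hva, hvb, z a b hab, z b a hab.symm]; ring
  have hyx : Cfsg.hermForm 3 F p y x = 0 := by
    simp only [x, y, hs.add_left, hs.add_right, hs.smul_left, hva, hvb, z a b hab, z b a hab.symm]; ring
  have hxc : Cfsg.hermForm 3 F p x (v c) = 0 ∧ Cfsg.hermForm 3 F p (v c) x = 0 := by
    constructor <;>
      simp [x, hs.add_left, hs.add_right, z a c hac, z c a hac.symm, z b c hbc, z c b hbc.symm]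
  have hyc : Cfsg.hermForm 3 F p y (v c) = 0 ∧ Cfsg.hermForm 3 F p (v c) y = 0 := by
    constructor <;>
      (simp only [y, hs.add_left, hs.add_right, hs.smul_left, hs.smul_right, hσ1, z a c hac, z c a hac.symm,
        z b c hbc, z c b hbc.symm]; ring)
  rcases he a with ha1 | ha2
  · have hc2 : e c = 2 := (he c).resolve_left (fun h => hec (ha1.trans h.symm))
    refine ⟨![x, y, v c], 2, h2, by simpa using hfixn 2, ?_, ?_⟩
    · intro i; fin_cases i
      exacts [(hvr a).add (hvr b), (hvr a).add (hneg (hvr b)), hvr c]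
    · intro i j
      fin_cases i <;> fin_cases j <;>
        simp [hxx, hyy, hxy, hyx, hxc.1, hxc.2, hyc.1, hyc.2, hvc, ha1, hc2]
  · have hc1 : e c = 1 := (he c).resolve_right (fun h => hec (ha2.trans h.symm))
    refine ⟨![(2 : F)⁻¹ • x, (2 : F)⁻¹ • y, v c], 1, one_ne_zero, map_one _, ?_, ?_⟩
    · intro i; fin_cases i
      exacts [((hvr a).add (hvr b)).smul (F₀.inv_mem h2F),
        ((hvr a).add (hneg (hvr b))).smul (F₀.inv_mem h2F), hvr c]
    · intro i j
      have hσ2 : S.σ ((2 : F)⁻¹) = (2 : F)⁻¹ := by rw [map_inv₀, show (2 : F) = ((2 : ℕ) : F) by simp, hfixn]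
      fin_cases i <;> fin_cases j <;>
        simp [hs.smul_left, hs.smul_right, hσ2, hxx, hyy, hxy, hyx, hxc.1, hxc.2, hyc.1, hyc.2, hvc, ha2, hc1] <;>
        field_simp

/-- A rational structure carrying the form has a unitary frame. -/
theorem frame_of_rational [Fintype F] (S : Setting F p) (hp : p = 3 ∨ p = 5) {F₀ : Subfield F}
    (hcard : Fintype.card F = Nat.card F₀ ^ 2) {P : GL (Fin 3) F}
    (hP : IsFormRationalStructure (Cfsg.hermForm 3 F p) F₀ 1 P) :
    ∃ g ∈ Cfsg.GU 3 F p, ∀ h ∈ subfieldSubgroup F₀ P,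
      ∃ (c : F) (M : Mat 3 F), (∀ i j, M i j ∈ F₀) ∧ ((g⁻¹ * h * g : GL (Fin 3) F) : Mat 3 F) = c • M := by
  classical
  haveI := S.char
  have hs := herm_sesq (n := 3) S.σ_eq
  have hfix : ∀ x ∈ F₀, S.σ x = x := fun x hx => fixed_of_mem S hcard hx
  have hmem : ∀ a : ℕ, (a : F) ∈ F₀ := fun a => natCast_mem F₀ a
  have hG : ∀ a b : F₀, ∀ i j : Fin 3, Cfsg.hermForm 3 F p ((P : Mat 3 F) *ᵥ Pi.single i (a : F))
      ((P : Mat 3 F) *ᵥ Pi.single j (b : F)) ∈ F₀ := by
    intro a b i j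
    have := hP (Pi.single i (a : F)) (Pi.single j (b : F))
      (fun k => by rw [Pi.single_apply]; split <;> simp [F₀.zero_mem])
      (fun k => by rw [Pi.single_apply]; split <;> simp [F₀.zero_mem])
    rwa [one_mul] at this
  let G0 : Matrix (Fin 3) (Fin 3) F₀ := fun i j => ⟨_, hG 1 1 i j⟩
  let B : LinearMap.BilinForm F₀ (Fin 3 → F₀) := Matrix.toBilin' G0
  have hB : ∀ u v : Fin 3 → F₀, ((B u v : F₀) : F) =
      Cfsg.hermForm 3 F p ((P : Mat 3 F) *ᵥ fun i => (u i : F)) ((P : Mat 3 F) *ᵥ fun i => (v i : F)) := by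
    intro u v
    have hu : (fun i => (u i : F)) = ∑ i, (u i : F) • Pi.single i 1 := (pi_eq_sum_univ' _)
    have hv : (fun i => (v i : F)) = ∑ i, (v i : F) • Pi.single i 1 := (pi_eq_sum_univ' _)
    have hG0 : ∀ i j, ((G0 i j : F₀) : F) =
        Cfsg.hermForm 3 F p ((P : Mat 3 F) *ᵥ Pi.single i 1) ((P : Mat 3 F) *ᵥ Pi.single j 1) := fun i j => rfl
    conv_rhs => rw [hu, hv]
    simp only [B, Matrix.toBilin'_apply, Fin.sum_univ_three, Matrix.mulVec_add, Matrix.mulVec_smul,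
      hs.add_left, hs.add_right, hs.smul_left, hs.smul_right, hfix _ (SetLike.coe_mem _)]
    push_cast
    rw [hG0, hG0, hG0, hG0, hG0, hG0, hG0, hG0, hG0]
    ring
  have hsymm : B.IsSymm := ⟨fun u v => Subtype.ext (by
    rw [hB, hB, ← herm_symm S.σ_eq S.conj, ← hB, hfix _ (B v u).2])⟩
  have h2 : (2 : F₀) ≠ 0 := by
    intro h
    have h' : ((2 : ℕ) : F) = 0 := by simpa [map_ofNat] using congrArg F₀.subtype h
    have := Nat.le_of_dvd (by norm_num) ((CharP.cast_eq_zero_iff F p 2).mp h')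
    omega
  haveI : Invertible (2 : F₀) := invertibleOfNonzero h2
  obtain ⟨b, hb⟩ := LinearMap.BilinForm.exists_orthogonal_basis (LinearMap.BilinForm.isSymm_iff.mp hsymm)
  let bb : Fin 3 → (Fin 3 → F₀) := fun i => b (i.cast (Module.finrank_fintype_fun_eq_card F₀ |>.trans (Fintype.card_fin 3)).symm)
  have hbi : Function.Injective fun i : Fin 3 =>
      i.cast (Module.finrank_fintype_fun_eq_card F₀ |>.trans (Fintype.card_fin 3)).symm := Fin.cast_injective _
  have hbli : LinearIndependent F₀ bb := b.linearIndependent.comp _ hbi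
  let w : Fin 3 → (Fin 3 → F) := fun i => (P : Mat 3 F) *ᵥ fun k => (bb i k : F)
  have hwr : ∀ i, IsRat F₀ P (w i) := fun i => ⟨_, fun k => (bb i k).2, rfl⟩
  have hwo : ∀ i j, i ≠ j → Cfsg.hermForm 3 F p (w i) (w j) = 0 := fun i j hij => by
    rw [← hB]
    have : B (bb i) (bb j) = 0 := LinearMap.isOrthoᵢ_def.mp hb _ _ (hbi.ne hij)
    rw [this]
    rfl
  have hwli : LinearIndependent F w := by
    let U : Matrix (Fin 3) (Fin 3) F₀ := Matrix.of fun r c => bb c r
    have hU : IsUnit U := by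
      rw [← Matrix.linearIndependent_cols_iff_isUnit]
      exact hbli
    have hUF : IsUnit ((P : Mat 3 F) * U.map F₀.subtype) := P.isUnit.mul (hU.map F₀.subtype.mapMatrix)
    rw [← Matrix.linearIndependent_cols_iff_isUnit] at hUF
    convert hUF using 1
    funext c r
    simp [w, U, Matrix.col, Matrix.mul_apply, Matrix.mulVec, dotProduct]
  obtain ⟨u, d, hd0, hdfix, hur, huo⟩ :=
    equal_norms S hp hfix hmem hwr hwo (norms_ne_zero S hwli hwo)
  obtain ⟨k, hk0, hk⟩ := exists_norm S hp hdfix hd0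
  obtain ⟨g, hg, hgv⟩ := exists_unitary_of_frame S (fun i => k⁻¹ • u i) fun i j => by
    rw [hs.smul_left, hs.smul_right, huo, map_inv₀]
    split
    · have : S.σ k ≠ 0 := fun e => hk0 (S.σ.injective (by rw [e, map_zero]))
      rw [← hk]; field_simp
    · simp
  choose T hT hTu using hur
  let T₀ : Matrix (Fin 3) (Fin 3) F₀ := Matrix.of fun r c => ⟨T c r, hT c r⟩
  have hgP : (g : Mat 3 F) = (P : Mat 3 F) * (k⁻¹ • T₀.map F₀.subtype) := by
    refine Matrix.ext_of_mulVec_single fun j => ?_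
    rw [hgv, ← hTu, ← Matrix.mulVec_smul, ← Matrix.mulVec_mulVec]
    congr 1
    funext r
    simp [T₀]
  have hT0 : T₀.det ≠ 0 := by
    intro h0
    have h1 : (T₀.map F₀.subtype).det = 0 := by
      rw [← RingHom.mapMatrix_apply, ← RingHom.map_det, h0, map_zero]
    have h := congrArg Matrix.det hgP
    rw [Matrix.det_mul, Matrix.det_smul, h1, mul_zero, mul_zero] at h
    exact ((Matrix.isUnit_iff_isUnit_det _).mp g.isUnit).ne_zero h
  let t : GL (Fin 3) F := Matrix.GeneralLinearGroup.map F₀.subtype (Matrix.GeneralLinearGroup.mkOfDetNeZero T₀ hT0)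
  let z : GL (Fin 3) F := Units.map (Matrix.scalar (Fin 3) : F →+* Mat 3 F).toMonoidHom
    (Units.mk0 k⁻¹ (inv_ne_zero hk0))
  have hzc : ∀ x : GL (Fin 3) F, z * x = x * z := fun x => (scalars_comm (n := 3) (MonoidHom.mem_range.mpr ⟨_, rfl⟩) x)
  have hgPt : g = P * (z * t) := by
    refine Units.ext ?_
    rw [hgP, Units.val_mul, Units.val_mul]
    congr 1
    show k⁻¹ • T₀.map F₀.subtype = Matrix.scalar (Fin 3) k⁻¹ * T₀.map F₀.subtype
    rw [Matrix.scalar_apply, ← Matrix.smul_eq_diagonal_mul]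
  refine ⟨g, hg, ?_⟩
  rintro h ⟨y, hy, rfl⟩
  have hy' : t⁻¹ * y * t ∈ (Matrix.GeneralLinearGroup.map (F₀.subtype : F₀ →+* F)).range ⊔ scalars (Fin 3) F :=
    Subgroup.mul_mem _ (Subgroup.mul_mem _ (Subgroup.inv_mem _ (Subgroup.mem_sup_left ⟨_, rfl⟩)) hy)
      (Subgroup.mem_sup_left ⟨_, rfl⟩)
  have hconj : g⁻¹ * (MulAut.conj P y) * g = t⁻¹ * y * t := by
    rw [hgPt, MulAut.conj_apply]
    have : (P * (z * t))⁻¹ * (P * y * P⁻¹) * (P * (z * t)) = t⁻¹ * (z⁻¹ * (y * z)) * t := by group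
    rw [this, ← hzc y, inv_mul_cancel_left]
  haveI : (scalars (Fin 3) F).Normal := ⟨fun s hs x => by
    rw [← scalars_comm hs x, mul_inv_cancel_right]; exact hs⟩
  obtain ⟨m, hm, s, hs', hms⟩ := Subgroup.mem_sup_of_normal_right.mp hy'
  obtain ⟨m₀, rfl⟩ := hm
  obtain ⟨c, hc⟩ := hs'
  refine ⟨(c : F), (Matrix.GeneralLinearGroup.map (F₀.subtype : F₀ →+* F) m₀ : Mat 3 F),
    fun i j => ((m₀ : Matrix (Fin 3) (Fin 3) F₀) i j).2, ?_⟩
  rw [show g⁻¹ * (MulAut.conj P).toMonoidHom y * g = t⁻¹ * y * t from hconj, ← hms, ← hc]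
  rw [← scalars_comm (n := 3) (MonoidHom.mem_range.mpr ⟨c, rfl⟩), Units.val_mul]
  show Matrix.scalar (Fin 3) (c : F) * _ = _
  rw [Matrix.scalar_apply, ← Matrix.smul_eq_diagonal_mul]

/-- A unitary element of determinant one proportional to a rational matrix is a scalar times a
rational orthogonal matrix of determinant one. -/
theorem rational_normal_form [Fintype F] (S : Setting F p) {F₀ : Subfield F}
    (hcard : Fintype.card F = Nat.card F₀ ^ 2) {x : GL (Fin 3) F} (hx : x ∈ suG 3 F p) {c : F}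
    {M : Mat 3 F} (hM : ∀ i j, M i j ∈ F₀) (hxM : (x : Mat 3 F) = c • M) :
    ∃ (c' : F) (M' : Mat 3 F), c' ^ 3 = 1 ∧ (∀ i j, S.σ (M' i j) = M' i j) ∧ M'ᵀ * M' = 1 ∧ M'.det = 1 ∧
      (x : Mat 3 F) = c' • M' := by
  obtain ⟨hxU, hxd⟩ := mem_suG.mp hx
  have hfix : ∀ i j, S.σ (M i j) = M i j := fun i j => fixed_of_mem S hcard (hM i j)
  have hmap : M.map S.σ = M := Matrix.ext hfix
  have h := gu_map_eq S.σ_eq hxU
  rw [hxM] at h hxd
  have hsm : (c • M).map S.σ = S.σ c • M := by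
    ext i j
    simp [hfix]
  rw [hsm, Matrix.transpose_smul, Matrix.smul_mul, Matrix.mul_smul, smul_smul] at h
  rw [Matrix.det_smul, Fintype.card_fin] at hxd
  have hdet := congrArg Matrix.det h
  rw [Matrix.det_smul, Fintype.card_fin, Matrix.det_mul, Matrix.det_transpose, Matrix.det_one] at hdet
  set N := c * S.σ c
  set dM := M.det
  have hdM : S.σ dM = dM := by rw [show dM = M.det from rfl, RingHom.map_det, RingHom.mapMatrix_apply, hmap]
  have hc0 : c ≠ 0 := fun e => by simp [e] at hxd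
  have hdM0 : dM ≠ 0 := fun e => by simp [e] at hxd
  have hN0 : N ≠ 0 := mul_ne_zero hc0 fun e => hc0 (S.σ.injective (by rw [e, map_zero]))
  -- `λ = N⁻¹` is the square of `s = dM * N`
  set s := dM * N with hs
  have hs0 : s ≠ 0 := mul_ne_zero hdM0 hN0
  have hs2 : s * s * N = 1 := by rw [hs]; linear_combination hdet
  have hNfix : S.σ N = N := by rw [show N = c * S.σ c from rfl, map_mul, S.conj.invol, mul_comm]
  have hsfix : S.σ s = s := by rw [hs, map_mul, hdM, hNfix]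
  refine ⟨c * s, s⁻¹ • M, ?_, fun i j => ?_, ?_, ?_, ?_⟩
  · have e : s ^ 3 = dM := by
      rw [hs]
      linear_combination dM * hdet
    rw [mul_pow, e]
    linear_combination hxd
  · simp [hfix, hsfix, map_inv₀]
  · rw [Matrix.transpose_smul, Matrix.smul_mul, Matrix.mul_smul, smul_smul]
    have : s⁻¹ * s⁻¹ = N := by field_simp; linear_combination -hs2
    rw [this, h]
  · rw [Matrix.det_smul, Fintype.card_fin]
    have e : s ^ 3 = dM := by
      rw [hs]
      linear_combination dM * hdet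
    rw [inv_pow, e, inv_mul_cancel₀ hdM0]
  · rw [hxM, smul_smul, mul_assoc, mul_inv_cancel₀ hs0, mul_one]

end CfsgLib.Classical.AschPrime.SU3Code
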