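import Cfsg.Agent.Lib.Classical.AschPrime.SU3Frame

/-!
# The exceptional small cases among the maximal subgroups of `SU(3,q)`

For `q = 3` the subfield group lies in a decomposition stabiliser; for `q = 5` the decomposition
stabiliser, the subfield group and the normaliser of the extraspecial group lie in larger proper
subgroups.
-/

set_option autoImplicit false
set_option linter.style.haveILetI false

namespace CfsgLib.Classical.AschPrime.SU3Code

open Matrix Cfsg Cfsg.Geo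
open scoped MatrixGroups

variable {F : Type*} [Field F]

/-- The overgroup of the monomial and orthogonal groups. -/
def frameY (S : Setting F 5) : Subgroup (GL (Fin 3) F) := S.stab frameOrbit

theorem frame_gen_mem (S : Setting F 5) {M : M3} (hM : M ∈ frameGens) :
    ∃ g ∈ frameY S, (g : Mat 3 F) = toM 5 S.θ M := by
  have h := List.all_eq_true.mp frame_gens M hM
  rw [Bool.and_eq_true] at h
  obtain ⟨g, hg, hge⟩ := S.mem_suG_of_inSU h.1
  exact ⟨g, S.mem_stab frame_red hg hge h.2, hge⟩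

theorem mono_mem (S : Setting F 5) {M : M3} (hM : M ∈ monoList) :
    ∃ g ∈ frameY S, (g : Mat 3 F) = toM 5 S.θ M :=
  mem_of_build S _ (fun N hN => frame_gen_mem S (List.mem_of_mem_take hN)) _ hM

theorem orth_mem (S : Setting F 5) {M : M3} (hM : M ∈ orthList) :
    ∃ g ∈ frameY S, (g : Mat 3 F) = toM 5 S.θ M := by
  refine mem_of_build S _ (fun N hN => ?_) _ hM
  obtain ⟨N', hN', e⟩ := List.any_eq_true.mp (List.all_eq_true.mp orth_gens N hN)
  exact frame_gen_mem S (of_decide_eq_true e ▸ hN')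

theorem exists_frame_out (S : Setting F 5) : ∃ o ∈ suG 3 F 5, o ∉ frameY S := by
  obtain ⟨h1, h2, h3⟩ := frame_out
  obtain ⟨o, ho, hoe⟩ := S.mem_suG_of_inSU h1
  obtain ⟨v, hv, e⟩ := List.any_eq_true.mp h2
  exact ⟨o, ho, S.not_mem_stab frame_red hoe (v := v) hv (by rw [of_decide_eq_true e]; exact h3)⟩

theorem toM_mulVec_single {p : ℕ} (θ : F) (M : M3) (j : Fin 3) :
    toM p θ M *ᵥ Pi.single j 1 = (toM p θ M).col j := Matrix.mulVec_single_one _ _

/-- A monomial element of `SU(3,5)` is in the overgroup. -/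
theorem mem_frameY_of_monomial [Finite F] (S : Setting F 5) {x : GL (Fin 3) F} (hx : x ∈ suG 3 F 5)
    {π : Equiv.Perm (Fin 3)} {a : Fin 3 → F}
    (h : ∀ j, (x : Mat 3 F) *ᵥ Pi.single j 1 = a j • Pi.single (π j) 1) : x ∈ frameY S := by
  have hcode : ∀ j, ∃ z < 5 * 5, mulC 5 (conjC 5 z) z = 1 ∧ dec 5 S.θ z = a j := by
    intro j
    obtain ⟨z, hz, hza⟩ := S.exists_code (a j)
    refine ⟨z, hz, S.dec_inj (S.red_lt _ _) (by norm_num) ?_, hza⟩
    have hn := (mem_suG.mp hx).1 (Pi.single j 1) (Pi.single j 1)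
    change Cfsg.hermForm 3 F 5 ((x : Mat 3 F) *ᵥ Pi.single j 1) ((x : Mat 3 F) *ᵥ Pi.single j 1) = _ at hn
    rw [h, (herm_sesq S.σ_eq).smul_left, (herm_sesq S.σ_eq).smul_right, herm_single_right S.σ_eq,
      herm_single_right S.σ_eq, Pi.single_eq_same, Pi.single_eq_same, mul_one] at hn
    rw [S.dec_mul, S.dec_one, ← S.dec_conj, hza, mul_comm, hn]
  choose z hz hzn hza using hcode
  let colC : Fin 3 → V3 := fun j => (![(z j, 0, 0), (0, z j, 0), (0, 0, z j)] : Fin 3 → V3) (π j)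
  have hcol : ∀ j, colC j ∈ unitCols := by
    intro j
    have hmem : z j ∈ (List.range 25).filter (fun c => decide (mulC 5 (conjC 5 c) c = 1)) :=
      List.mem_filter.mpr ⟨List.mem_range.mpr (hz j), decide_eq_true (hzn j)⟩
    simp only [unitCols, List.mem_append, List.mem_map, colC]
    rcases (by omega : (π j : ℕ) = 0 ∨ (π j : ℕ) = 1 ∨ (π j : ℕ) = 2) with e | e | e
    · rw [show π j = 0 from Fin.ext e]; exact .inl (.inl ⟨_, hmem, rfl⟩)
    · rw [show π j = 1 from Fin.ext e]; exact .inl (.inr ⟨_, hmem, rfl⟩)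
    · rw [show π j = 2 from Fin.ext e]; exact .inr ⟨_, hmem, rfl⟩
  have hcolv : ∀ j, toV 5 S.θ (colC j) = a j • Pi.single (π j) 1 := by
    intro j
    rw [← hza]
    simp only [colC]
    rcases (by omega : (π j : ℕ) = 0 ∨ (π j : ℕ) = 1 ∨ (π j : ℕ) = 2) with e | e | e
    · rw [show π j = 0 from Fin.ext e]; funext i; fin_cases i <;> simp [toV, S.dec_zero]
    · rw [show π j = 1 from Fin.ext e]; funext i; fin_cases i <;> simp [toV, S.dec_zero]
    · rw [show π j = 2 from Fin.ext e]; funext i; fin_cases i <;> simp [toV, S.dec_zero]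
  set M : M3 := transC (colC 0, colC 1, colC 2) with hM
  have hxM : (x : Mat 3 F) = toM 5 S.θ M := by
    refine Matrix.ext_of_mulVec_single fun j => ?_
    rw [h, ← hcolv, hM, S.toM_trans, Matrix.mulVec_single_one]
    funext i
    fin_cases j <;> rfl
  have hin : inSU 5 M = true := by
    simp only [inSU, Bool.and_eq_true, decide_eq_true_eq]
    exact ⟨S.unitary_code (mem_suG.mp hx).1 hxM, S.det_code hx hxM⟩
  have horth : dotC 5 (conjV 5 (colC 0)) (colC 1) = 0 := by
    refine S.dec_inj (S.red_lt _ _) (by norm_num) ?_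
    rw [S.dec_zero, S.dec_dot]
    have hne : π 0 ≠ π 1 := π.injective.ne (by decide)
    simp only [← S.toV_conj, hcolv, Pi.smul_apply, Pi.single_apply, smul_eq_mul]
    refine Finset.sum_eq_zero fun i _ => ?_
    by_cases hi : i = π 0
    · rw [if_neg (fun e => hne (hi.symm.trans e)), mul_zero, mul_zero]
    · rw [if_neg hi, mul_zero, map_zero, zero_mul]
  have h1 := List.all_eq_true.mp (List.all_eq_true.mp mono_complete _ (hcol 0)) _ (hcol 1)
  simp only [horth, decide_true, Bool.not_true, Bool.false_or] at h1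
  have h2 := List.all_eq_true.mp h1 _ (hcol 2)
  rw [← hM, hin, Bool.not_true, Bool.false_or] at h2
  obtain ⟨N, hN, hNe⟩ := List.any_eq_true.mp h2
  obtain ⟨g, hg, hge⟩ := mono_mem S (of_decide_eq_true hNe ▸ hN)
  rwa [Units.ext (hxM.trans hge.symm)]

/-- In `SU(3,5)` a decomposition stabiliser is not maximal. -/
theorem decomposition_not_maximal [Fintype F] (hF : Fintype.card F = 5 ^ 2) {H : Subgroup (GL (Fin 3) F)}
    (hH : IsMaximalIn (suG 3 F 5) H) {D : Fin 3 → Submodule F (Fin 3 → F)}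
    (hD : IsNondegenerateMDecomposition (Cfsg.hermForm 3 F 5) 1 D) (hle : H ≤ decompositionStabilizer D) :
    False := by
  obtain ⟨S⟩ := nonempty_setting (.inr rfl) hF
  obtain ⟨g, hg, hgD⟩ := frame_of_decomposition S (.inr rfl) hD
  obtain ⟨o, hoS, hoY⟩ := exists_frame_out S
  obtain ⟨N, hN, hNnm⟩ : ∃ N ∈ orthList, N.1.1 ≠ 0 ∧ N.2.1.1 ≠ 0 ∧ N.1.1 < 25 ∧ N.2.1.1 < 25 := by
    have : orthList.any (fun N => !decide (N.1.1 = 0) && !decide (N.2.1.1 = 0) && decide (N.1.1 < 25) &&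
        decide (N.2.1.1 < 25)) = true := by decide +kernel
    obtain ⟨N, hN, e⟩ := List.any_eq_true.mp this
    simp only [Bool.and_eq_true, Bool.not_eq_true', decide_eq_false_iff_not, decide_eq_true_eq] at e
    exact ⟨N, hN, e.1.1.1, e.1.1.2, e.1.2, e.2⟩
  obtain ⟨x, hx, hxe⟩ := orth_mem S hN
  refine not_maximal_of_conj hH hg (S.stab_le _) hoS hoY (fun h hh => ?_) hx fun hxH => ?_
  · obtain ⟨π, a, hmono⟩ := monomial_of_conj hgD (hle hh)
    have hS : g⁻¹ * h * g ∈ suG 3 F 5 := by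
      simpa using suG_conj ((Cfsg.GU 3 F 5).inv_mem hg) (hH.1.le hh)
    exact mem_frameY_of_monomial S hS hmono
  · obtain ⟨π, a, hmono⟩ := monomial_of_conj hgD (hle hxH)
    have h0 := hmono 0
    rw [show g⁻¹ * (g * x * g⁻¹) * g = x by group, hxe, Matrix.mulVec_single_one] at h0
    have e0 := congrFun h0 0
    have e1 := congrFun h0 1
    change dec 5 S.θ N.1.1 = _ at e0
    change dec 5 S.θ N.2.1.1 = _ at e1
    rw [Pi.smul_apply, Pi.single_apply] at e0 e1
    have hd : ∀ m, m < 25 → m ≠ 0 → dec 5 S.θ m ≠ 0 := fun m hm hm0 e =>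
      hm0 (S.dec_inj hm (by norm_num) (by rw [e, S.dec_zero]))
    split at e0
    · next hπ => rw [if_neg (fun e => absurd (hπ.trans e.symm) (by decide)), smul_zero] at e1
                 exact hd _ hNnm.2.2.2 hNnm.2.1 e1
    · rw [smul_zero] at e0
      exact hd _ hNnm.2.2.1 hNnm.1 e0

/-- In `SU(3,5)` a scalar multiple of a rational orthogonal element is in the overgroup. -/
theorem mem_frameY_of_rational [Fintype F] (S : Setting F 5) {x : GL (Fin 3) F} (hx : x ∈ suG 3 F 5)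
    {c : F} {M : Mat 3 F} (hc : c ^ 3 = 1) (hfix : ∀ i j, S.σ (M i j) = M i j) (horth : Mᵀ * M = 1)
    (hdet : M.det = 1) (hxM : (x : Mat 3 F) = c • M) : x ∈ frameY S := by
  haveI := S.char
  -- the rational factor
  choose m hm hme using fun i j => exists_small_code S (.inr rfl) (hfix i j)
  set C : M3 := ((m 0 0, m 0 1, m 0 2), (m 1 0, m 1 1, m 1 2), (m 2 0, m 2 1, m 2 2)) with hC
  have hCM : toM 5 S.θ C = M := by
    ext i j
    fin_cases i <;> fin_cases j <;> simp [hC, toM, toV, hme]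
  have hrow : ∀ i, toV 5 S.θ (m i 0, m i 1, m i 2) = M i := by
    intro i
    funext j
    fin_cases j <;> simp [toV, hme]
  have hdot : ∀ i k, dotC 5 (m i 0, m i 1, m i 2) (m k 0, m k 1, m k 2) = if i = k then 1 else 0 := by
    intro i k
    refine S.dec_inj (S.red_lt _ _) (by split <;> norm_num) ?_
    rw [S.dec_dot, hrow, hrow]
    have hT : M * Mᵀ = 1 := mul_eq_one_comm.mp horth
    have := congrFun (congrFun hT i) k
    rw [Matrix.mul_apply, Matrix.one_apply] at this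
    simp only [Matrix.transpose_apply] at this
    rw [this]
    split <;> simp [S.dec_one, S.dec_zero]
  have hrat : ∀ i, ((m i 0, m i 1, m i 2) : V3) ∈ ratUnit := by
    intro i
    refine List.mem_filter.mpr ⟨?_, decide_eq_true (by rw [hdot i i, if_pos rfl])⟩
    simp only [List.mem_flatMap, List.mem_map, List.mem_range]
    exact ⟨_, hm i 0, _, hm i 1, _, hm i 2, rfl⟩
  have hin : inSU 5 C = true := by
    simp only [inSU, Bool.and_eq_true, decide_eq_true_eq]
    refine ⟨S.toM_inj (S.red_mul _ _) (red_one S) ?_, S.dec_inj (S.red_lt _ _) (by norm_num) ?_⟩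
    · rw [S.toM_mul, ← S.toM_star, hCM, S.toM_one, show M.map S.σ = M from Matrix.ext hfix, horth]
    · rw [← S.toM_det, hCM, hdet, S.dec_one]
  have h1 := List.all_eq_true.mp (List.all_eq_true.mp orth_complete _ (hrat 0)) _ (hrat 1)
  simp only [show dotC 5 (m 0 0, m 0 1, m 0 2) (m 1 0, m 1 1, m 1 2) = 0 from by rw [hdot 0 1]; rfl,
    decide_true, Bool.not_true, Bool.false_or] at h1
  have h2 := List.all_eq_true.mp h1 _ (hrat 2)
  rw [← hC, hin, Bool.not_true, Bool.false_or] at h2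
  obtain ⟨N, hN, hNe⟩ := List.any_eq_true.mp h2
  obtain ⟨g, hg, hge⟩ := orth_mem S (of_decide_eq_true hNe ▸ hN)
  -- the scalar factor
  obtain ⟨z, hz, rfl⟩ := S.exists_code c
  have hz3 : mulC 5 (mulC 5 z z) z = 1 := by
    refine S.dec_inj (S.red_lt _ _) (by norm_num) ?_
    rw [S.dec_one, S.dec_mul, S.dec_mul, ← hc]; ring
  have key : ∀ z < 5 * 5, mulC 5 (mulC 5 z z) z = 1 → monoList.any (fun N => decide (N = scalM z)) = true := by
    decide +kernel
  obtain ⟨N', hN', hNe'⟩ := List.any_eq_true.mp (key z hz hz3)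
  obtain ⟨s, hs, hse⟩ := mono_mem S (of_decide_eq_true hNe' ▸ hN')
  have : x = s * g := by
    refine Units.ext ?_
    rw [Units.val_mul, hse, hge, hCM, hxM]
    ext i j
    fin_cases i <;> simp [toM, toV, scalM, S.dec_zero, Matrix.mul_apply, Fin.sum_univ_three]
  rw [this]
  exact (frameY S).mul_mem hs hg

/-- In `SU(3,5)` a subfield group of index two is not maximal. -/
theorem subfield_not_maximal [Fintype F] (hF : Fintype.card F = 5 ^ 2) {H : Subgroup (GL (Fin 3) F)}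
    (hH : IsMaximalIn (suG 3 F 5) H) {F₀ : Subfield F} (hcard : Fintype.card F = Nat.card F₀ ^ 2)
    {P : GL (Fin 3) F} (hP : IsFormRationalStructure (Cfsg.hermForm 3 F 5) F₀ 1 P)
    (hle : H ≤ subfieldSubgroup F₀ P) : False := by
  obtain ⟨S⟩ := nonempty_setting (.inr rfl) hF
  haveI := S.char
  obtain ⟨g, hg, hgP⟩ := frame_of_rational S (.inr rfl) hcard hP
  obtain ⟨o, hoS, hoY⟩ := exists_frame_out S
  obtain ⟨N, hN, hd1, hd2, hne⟩ : ∃ N ∈ monoList, N.1.1 = 13 ∧ N.2.1.2.1 = 18 ∧ N.1.1 ≠ 0 := by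
    have : monoList.any (fun N => decide (N.1.1 = 13) && decide (N.2.1.2.1 = 18)) = true := by decide +kernel
    obtain ⟨N, hN, e⟩ := List.any_eq_true.mp this
    simp only [Bool.and_eq_true, decide_eq_true_eq] at e
    exact ⟨N, hN, e.1, e.2, by omega⟩
  obtain ⟨x, hx, hxe⟩ := mono_mem S hN
  refine not_maximal_of_conj hH hg (S.stab_le _) hoS hoY (fun h hh => ?_) hx fun hxH => ?_
  · obtain ⟨c, M, hM, he⟩ := hgP h (hle hh)
    have hS : g⁻¹ * h * g ∈ suG 3 F 5 := by
      simpa using suG_conj ((Cfsg.GU 3 F 5).inv_mem hg) (hH.1.le hh)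
    obtain ⟨c', M', hc', hfix, ho, hd, he'⟩ := rational_normal_form S hcard hS hM he
    exact mem_frameY_of_rational S hS hc' hfix ho hd he'
  · obtain ⟨c, M, hM, he⟩ := hgP _ (hle hxH)
    rw [show g⁻¹ * (g * x * g⁻¹) * g = x by group, hxe] at he
    have e0 := congrFun (congrFun he 0) 0
    have e1 := congrFun (congrFun he 1) 1
    change dec 5 S.θ N.1.1 = c * M 0 0 at e0
    change dec 5 S.θ N.2.1.2.1 = c * M 1 1 at e1
    rw [hd1] at e0
    rw [hd2] at e1
    -- the ratio of the two entries is not rational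
    have hσ0 := fixed_of_mem S hcard (hM 0 0)
    have hσ1 := fixed_of_mem S hcard (hM 1 1)
    have e : dec 5 S.θ (mulC 5 13 (conjC 5 18)) = dec 5 S.θ (mulC 5 18 (conjC 5 13)) := by
      rw [S.dec_mul, S.dec_mul, ← S.dec_conj, ← S.dec_conj, e0, e1, map_mul, map_mul, hσ0, hσ1]
      ring
    exact absurd (S.dec_inj (S.red_lt _ _) (S.red_lt _ _) e) (by decide +kernel)

theorem norm_one_three (a : ℕ) (ha : a < 3) (b : ℕ) (hb : b < 3) (c : ℕ) (hc : c < 3)
    (h : dotC 3 (a, b, c) (a, b, c) = 1) : (b = 0 ∧ c = 0) ∨ (a = 0 ∧ c = 0) ∨ (a = 0 ∧ b = 0) := by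
  have key : (List.range 3).all (fun a => (List.range 3).all fun b => (List.range 3).all fun c =>
      !(dotC 3 (a, b, c) (a, b, c) == 1) || (b == 0 && c == 0) || (a == 0 && c == 0) || (a == 0 && b == 0)) =
        true := by decide +kernel
  have e := List.all_eq_true.mp (List.all_eq_true.mp (List.all_eq_true.mp key a (List.mem_range.mpr ha)) b
    (List.mem_range.mpr hb)) c (List.mem_range.mpr hc)
  simp [h] at e
  tauto

/-- In `SU(3,3)` a subfield group of index two lies in a decomposition stabiliser. -/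
theorem subfield_le_decomposition [Fintype F] (hF : Fintype.card F = 3 ^ 2) {H : Subgroup (GL (Fin 3) F)}
    (hH : IsMaximalIn (suG 3 F 3) H) {F₀ : Subfield F} (hcard : Fintype.card F = Nat.card F₀ ^ 2)
    {P : GL (Fin 3) F} (hP : IsFormRationalStructure (Cfsg.hermForm 3 F 3) F₀ 1 P)
    (hle : H ≤ subfieldSubgroup F₀ P) :
    ∃ D : Fin 3 → Submodule F (Fin 3 → F), IsNondegenerateMDecomposition (Cfsg.hermForm 3 F 3) 1 D ∧
      H ≤ decompositionStabilizer D := by
  classical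
  obtain ⟨S⟩ := nonempty_setting (.inl rfl) hF
  obtain ⟨g, hg, hgP⟩ := frame_of_rational S (.inl rfl) hcard hP
  have hs := herm_sesq (n := 3) S.σ_eq
  let v : Fin 3 → (Fin 3 → F) := fun j => (g : Mat 3 F) *ᵥ Pi.single j 1
  have hvv : ∀ i j, Cfsg.hermForm 3 F 3 (v i) (v j) = if i = j then 1 else 0 := by
    intro i j
    change Cfsg.hermForm 3 F 3 ((g : Mat 3 F) *ᵥ _) ((g : Mat 3 F) *ᵥ _) = _
    rw [show Cfsg.hermForm 3 F 3 ((g : Mat 3 F) *ᵥ Pi.single i 1) ((g : Mat 3 F) *ᵥ Pi.single j 1) =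
      Cfsg.hermForm 3 F 3 (Pi.single i 1) (Pi.single j 1) from hg _ _, herm_single_right S.σ_eq, Pi.single_apply]
    simp only [eq_comm]
  have hv0 : ∀ j, v j ≠ 0 := fun j e => by
    have := hvv j j
    rw [e, if_pos rfl] at this
    simp [Cfsg.hermForm] at this
  have hli : LinearIndependent F v := by
    have hU : IsUnit (g : Mat 3 F) := g.isUnit
    rw [← Matrix.linearIndependent_cols_iff_isUnit] at hU
    convert hU using 1
    funext c r
    simp [v, Matrix.col]
  refine ⟨fun j => Submodule.span F {v j}, ⟨⟨by norm_num, one_pos, fun j => finrank_span_singleton (hv0 j),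
    hli.iSupIndep_span_singleton, ?_⟩, fun j w hw hw0 => ?_, fun i j hij a ha b hb => ?_⟩, fun h hh => ?_⟩
  · rw [← Submodule.span_range_eq_iSup]
    exact hli.span_eq_top_of_card_eq_finrank' (by simp)
  · obtain ⟨a, rfl⟩ := Submodule.mem_span_singleton.mp hw
    have ha : a ≠ 0 := fun e => hw0 (by rw [e, zero_smul])
    refine ⟨⟨v j, Submodule.mem_span_singleton_self _, ?_⟩, ⟨v j, Submodule.mem_span_singleton_self _, ?_⟩⟩
    · rw [hs.smul_right, hvv, if_pos rfl, mul_one]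
      exact fun e => ha (S.σ.injective (by rw [e, map_zero]))
    · rw [hs.smul_left, hvv, if_pos rfl, mul_one]
      exact ha
  · obtain ⟨c, rfl⟩ := Submodule.mem_span_singleton.mp ha
    obtain ⟨c', rfl⟩ := Submodule.mem_span_singleton.mp hb
    rw [hs.smul_left, hs.smul_right, hvv, if_neg hij, mul_zero, mul_zero]
  obtain ⟨c, M, hM, he⟩ := hgP h (hle hh)
  have hS : g⁻¹ * h * g ∈ suG 3 F 3 := by
    simpa using suG_conj ((Cfsg.GU 3 F 3).inv_mem hg) (hH.1.le hh)
  obtain ⟨c', M', hc', hfix, horth, hd, he'⟩ := rational_normal_form S hcard hS hM he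
  -- every column of `M'` has one nonzero entry
  have hcol : ∀ j : Fin 3, ∃ (i : Fin 3) (a : F), M' *ᵥ Pi.single j 1 = a • Pi.single i (1 : F) := by
    intro j
    obtain ⟨m0, h0, e0⟩ := exists_small_code S (.inl rfl) (hfix 0 j)
    obtain ⟨m1, h1, e1⟩ := exists_small_code S (.inl rfl) (hfix 1 j)
    obtain ⟨m2, h2, e2⟩ := exists_small_code S (.inl rfl) (hfix 2 j)
    have hn : dotC 3 (m0, m1, m2) (m0, m1, m2) = 1 := by
      refine S.dec_inj (S.red_lt _ _) (by norm_num) ?_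
      have := congrFun (congrFun horth j) j
      rw [Matrix.mul_apply, Matrix.one_apply_eq, Fin.sum_univ_three] at this
      rw [S.dec_dot, S.dec_one, ← this]
      simp [toV, e0, e1, e2, Fin.sum_univ_three]
    have key := norm_one_three
    rw [Matrix.mulVec_single_one]
    rcases key m0 h0 m1 h1 m2 h2 hn with ⟨ha, hb⟩ | ⟨ha, hb⟩ | ⟨ha, hb⟩
    · subst ha hb
      rw [S.dec_zero] at e1 e2
      exact ⟨0, M' 0 j, funext fun i => by fin_cases i <;> simp [← e1, ← e2]⟩
    · subst ha hb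
      rw [S.dec_zero] at e0 e2
      exact ⟨1, M' 1 j, funext fun i => by fin_cases i <;> simp [← e0, ← e2]⟩
    · subst ha hb
      rw [S.dec_zero] at e0 e1
      exact ⟨2, M' 2 j, funext fun i => by fin_cases i <;> simp [← e0, ← e1]⟩
  choose π a hπ using hcol
  have ha0 : ∀ j, a j ≠ 0 := by
    intro j e
    have h1 := congrArg (M'ᵀ *ᵥ ·) (hπ j)
    simp only [Matrix.mulVec_mulVec, horth, Matrix.one_mulVec, e, zero_smul, Matrix.mulVec_zero] at h1
    simpa using congrFun h1 j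
  have hπi : Function.Injective π := by
    intro j k hjk
    by_contra hne
    have h1 := congrArg (M'ᵀ *ᵥ ·) (hπ j)
    have h2 := congrArg (M'ᵀ *ᵥ ·) (hπ k)
    simp only [Matrix.mulVec_mulVec, horth, Matrix.one_mulVec, Matrix.mulVec_smul] at h1 h2
    rw [hjk] at h1
    have h3 := congrFun h1 k
    have h4 := congrFun h2 k
    simp only [Pi.single_apply, Pi.smul_apply, smul_eq_mul, if_neg (Ne.symm hne), if_true] at h3 h4
    rcases mul_eq_zero.mp h3.symm with h5 | h5
    · exact ha0 j h5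
    · rw [h5, mul_zero] at h4
      exact one_ne_zero h4
  refine ⟨Equiv.ofBijective π ((Finite.injective_iff_bijective).mp hπi), fun j => ?_⟩
  rw [Submodule.map_span, Set.image_singleton, Equiv.ofBijective_apply]
  have e : Matrix.toLin' (h : Mat 3 F) (v j) = (c' * a j) • v (π j) := by
    have e1 : (h : Mat 3 F) * (g : Mat 3 F) = (g : Mat 3 F) * (c' • M') := by
      rw [← he', Units.val_mul, Units.val_mul, mul_assoc ((g⁻¹ : GL (Fin 3) F) : Mat 3 F), ← mul_assoc,
        Units.mul_inv, one_mul]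
    rw [Matrix.toLin'_apply]
    simp only [v]
    rw [Matrix.mulVec_mulVec, e1, ← Matrix.mulVec_mulVec, Matrix.smul_mulVec, hπ, smul_smul,
      Matrix.mulVec_smul]
  rw [e]
  have hne : c' * a j ≠ 0 := mul_ne_zero (fun e => by simp [e] at hc') (ha0 j)
  exact Submodule.span_singleton_smul_eq (IsUnit.mk0 _ hne) _

/-- A vector killed by a product of three linear factors gives an eigenvector. -/
theorem exists_eigenvector {x : Mat 3 F} {μ : F} (hμ : IsPrimitiveRoot μ 3) (hx : x ^ 3 = 1) :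
    ∃ ζ : F, ζ ^ 3 = 1 ∧ ∃ v, v ≠ 0 ∧ x *ᵥ v = ζ • v := by
  have hsum : 1 + μ + μ ^ 2 = 0 := by
    have := hμ.geom_sum_eq_zero (by norm_num : 1 < 3)
    simpa [Finset.sum_range_succ] using this
  have hprod : (x - (1 : F) • 1) * ((x - μ • 1) * (x - μ ^ 2 • 1)) = 0 := by
    have hμ3 := hμ.pow_eq_one
    simp only [sub_mul, mul_sub, smul_mul_assoc, mul_smul_comm, one_mul, mul_one, smul_smul, one_smul,
      smul_sub]
    rw [show x * (x * x) = 1 by rw [← pow_two, ← pow_succ', hx], show μ ^ 2 * μ = 1 by linear_combination hμ3]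
    have e1 : μ ^ 2 = -1 - μ := by linear_combination hsum
    rw [e1]
    simp only [sub_smul, neg_smul, one_smul]
    abel
  have hdet := congrArg Matrix.det hprod
  rw [Matrix.det_mul, Matrix.det_mul, Matrix.det_zero] at hdet
  have hof : ∀ ζ : F, (x - ζ • 1).det = 0 → ∃ v, v ≠ 0 ∧ x *ᵥ v = ζ • v := by
    intro ζ hζ
    obtain ⟨v, hv, hev⟩ := Matrix.exists_mulVec_eq_zero_iff.mpr hζ
    rw [Matrix.sub_mulVec, Matrix.smul_mulVec, Matrix.one_mulVec, sub_eq_zero] at hev
    exact ⟨v, hv, hev⟩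
  rcases mul_eq_zero.mp hdet with h | h
  · exact ⟨1, one_pow _, hof _ h⟩
  rcases mul_eq_zero.mp h with h | h
  · exact ⟨μ, hμ.pow_eq_one, hof _ h⟩
  · exact ⟨μ ^ 2, by rw [← pow_mul, pow_mul', hμ.pow_eq_one, one_pow], hof _ h⟩

/-- The overgroup of the normaliser of the extraspecial group. -/
def normY (S : Setting F 5) : Subgroup (GL (Fin 3) F) := S.stab normOrbit

theorem norm_gen_mem (S : Setting F 5) {M : M3} (hM : M ∈ normExtra :: normGens) :
    ∃ g ∈ normY S, (g : Mat 3 F) = toM 5 S.θ M := by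
  have h := List.all_eq_true.mp norm_gens M hM
  rw [Bool.and_eq_true] at h
  obtain ⟨g, hg, hge⟩ := S.mem_suG_of_inSU h.1
  exact ⟨g, S.mem_stab norm_red hg hge h.2, hge⟩

theorem norm_mem (S : Setting F 5) {M : M3} (hM : M ∈ normList) :
    ∃ g ∈ normY S, (g : Mat 3 F) = toM 5 S.θ M :=
  mem_of_build S _ (fun _ hN => norm_gen_mem S (List.mem_cons_of_mem _ hN)) _ hM

/-- The elements of `GL(3,F)` coded in the extraspecial list. -/
def InEx (S : Setting F 5) (g : GL (Fin 3) F) : Prop := ∃ A ∈ exList, (g : Mat 3 F) = toM 5 S.θ A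

/-- An element of `SU(3,5)` carrying both generators into the extraspecial list is in the overgroup. -/
theorem mem_normY [Fintype F] (S : Setting F 5) {n D C : GL (Fin 3) F} (hn : n ∈ suG 3 F 5)
    (hD : (D : Mat 3 F) = toM 5 S.θ diagGen) (hC : (C : Mat 3 F) = toM 5 S.θ cycGen)
    (hnD : InEx S (n * D * n⁻¹)) (hnC : InEx S (n * C * n⁻¹)) : n ∈ normY S := by
  haveI := S.char
  obtain ⟨A, hA, hAe⟩ := hnD
  obtain ⟨B, hB, hBe⟩ := hnC
  have hrel : mulM 5 A B = smulM 5 exScalar (mulM 5 B A) := by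
    have h0 : mulM 5 diagGen cycGen = smulM 5 exScalar (mulM 5 cycGen diagGen) := by decide +kernel
    have h1 : (D : Mat 3 F) * C = dec 5 S.θ exScalar • ((C : Mat 3 F) * D) := by
      rw [hD, hC, ← S.toM_mul, h0, S.toM_smul, S.toM_mul]
    refine S.toM_inj (S.red_mul _ _) ⟨⟨S.red_lt _ _, S.red_lt _ _, S.red_lt _ _⟩,
      ⟨S.red_lt _ _, S.red_lt _ _, S.red_lt _ _⟩, ⟨S.red_lt _ _, S.red_lt _ _, S.red_lt _ _⟩⟩ ?_
    rw [S.toM_mul, S.toM_smul, S.toM_mul, ← hAe, ← hBe, ← Units.val_mul, ← Units.val_mul, conj_mul, conj_mul]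
    simp only [Units.val_mul]
    rw [h1, Matrix.mul_smul, Matrix.smul_mul]
  have hpair : (A, B) ∈ exPairs :=
    List.mem_flatMap.mpr ⟨A, hA, List.mem_map.mpr
      ⟨B, List.mem_filter.mpr ⟨hB, decide_eq_true hrel⟩, rfl⟩⟩
  obtain ⟨h1, h2, h3⟩ := norm_complete
  obtain ⟨i, hi, hie⟩ := List.mem_iff_getElem.mp hpair
  have hlen : exPairs.length = normReps.length := by
    have := congrArg List.length h1
    simpa using this.symm
  obtain ⟨r, hr, hrA, hrB⟩ : ∃ r ∈ normReps, mulM 5 (mulM 5 r diagGen) (starM 5 r) = A ∧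
      mulM 5 (mulM 5 r cycGen) (starM 5 r) = B := by
    refine ⟨normReps[i]'(hlen ▸ hi), List.getElem_mem _, ?_, ?_⟩
    · have := List.getElem_of_eq h1 (i := i) (by simpa using hlen ▸ hi)
      simpa [hie] using this
    · have := List.getElem_of_eq h2 (i := i) (by simpa using hlen ▸ hi)
      simpa [hie] using this
  have h3 := List.all_eq_true.mp h3 r hr
  simp only [Bool.and_eq_true, Bool.not_eq_true', decide_eq_false_iff_not, decide_eq_true_eq] at h3
  obtain ⟨⟨hru, hr4⟩, hr1⟩ := h3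
  have hru' : toM 5 S.θ (starM 5 r) * toM 5 S.θ r = 1 := by rw [← S.toM_mul, hru, S.toM_one]
  let R : GL (Fin 3) F := ⟨toM 5 S.θ r, toM 5 S.θ (starM 5 r), mul_eq_one_comm.mp hru', hru'⟩
  have hRU : R ∈ Cfsg.GU 3 F 5 := by
    intro u v
    change Cfsg.hermForm 3 F 5 (toM 5 S.θ r *ᵥ u) (toM 5 S.θ r *ᵥ v) = _
    rw [herm_adjoint S.σ_eq S.conj, Matrix.mulVec_mulVec, S.toM_star, hru', Matrix.one_mulVec]
  have hRD : R * D * R⁻¹ = n * D * n⁻¹ := Units.ext (by
    rw [hAe, ← hrA, S.toM_mul, S.toM_mul, Units.val_mul, Units.val_mul, hD]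
    rfl)
  have hRC : R * C * R⁻¹ = n * C * n⁻¹ := Units.ext (by
    rw [hBe, ← hrB, S.toM_mul, S.toM_mul, Units.val_mul, Units.val_mul, hC]
    rfl)
  set y := R⁻¹ * n with hy
  have hcomm : ∀ X : GL (Fin 3) F, R * X * R⁻¹ = n * X * n⁻¹ → y * X = X * y := by
    intro X hX
    calc y * X = R⁻¹ * (n * X * n⁻¹) * n := by rw [hy]; group
      _ = R⁻¹ * (R * X * R⁻¹) * n := by rw [hX]
      _ = X * y := by rw [hy]; group
  have hyD : (y : Mat 3 F) * toM 5 S.θ diagGen = toM 5 S.θ diagGen * (y : Mat 3 F) := by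
    rw [← hD, ← Units.val_mul, ← Units.val_mul, hcomm D hRD]
  have hyC : (y : Mat 3 F) * toM 5 S.θ cycGen = toM 5 S.θ cycGen * (y : Mat 3 F) := by
    rw [← hC, ← Units.val_mul, ← Units.val_mul, hcomm C hRC]
  -- `y` is scalar
  obtain ⟨hd0, hd1, hd2⟩ : toV 5 S.θ diagGen.1 = ![1, 0, 0] ∧
      (∃ u : F, u ≠ 1 ∧ toV 5 S.θ diagGen.2.1 = ![0, u, 0]) ∧
      ∃ w : F, w ≠ 1 ∧ toV 5 S.θ diagGen.2.2 = ![0, 0, w] ∧ dec 5 S.θ diagGen.2.1.2.1 ≠ w := by
    refine ⟨?_, ⟨dec 5 S.θ diagGen.2.1.2.1, ?_, ?_⟩, dec 5 S.θ diagGen.2.2.2.2, ?_, ?_, ?_⟩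
    · simp [toV, diagGen, S.dec_one, S.dec_zero]
    · intro e
      exact absurd (S.dec_inj (by decide +kernel) (by norm_num) (e.trans S.dec_one.symm)) (by decide +kernel)
    · simp [toV, diagGen, S.dec_zero]
    · intro e
      exact absurd (S.dec_inj (by decide +kernel) (by norm_num) (e.trans S.dec_one.symm)) (by decide +kernel)
    · simp [toV, diagGen, S.dec_zero]
    · intro e
      exact absurd (S.dec_inj (by decide +kernel) (by decide +kernel) e) (by decide +kernel)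
  obtain ⟨u, hu1, hud⟩ := hd1
  obtain ⟨w, hw1, hwd, huw⟩ := hd2
  have hu : dec 5 S.θ diagGen.2.1.2.1 = u := by simpa [toV] using congrFun hud 1
  rw [hu] at huw
  have hdiag : toM 5 S.θ diagGen = Matrix.diagonal ![1, u, w] := by
    ext i j
    fin_cases i <;> fin_cases j <;> simp [toM, hd0, hud, hwd]
  rw [hdiag] at hyD
  have hoff : ∀ i j, i ≠ j → (y : Mat 3 F) i j = 0 := by
    intro i j hij
    have h := congrFun (congrFun hyD i) j
    rw [Matrix.mul_diagonal, Matrix.diagonal_mul] at h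
    have hne : (![1, u, w] : Fin 3 → F) j - ![1, u, w] i ≠ 0 := by
      refine sub_ne_zero.mpr ?_
      fin_cases i <;> fin_cases j <;> first
        | exact absurd rfl hij
        | simpa using hu1
        | simpa using hu1.symm
        | simpa using hw1
        | simpa using hw1.symm
        | simpa using huw
        | simpa using huw.symm
    have : (y : Mat 3 F) i j * ((![1, u, w] : Fin 3 → F) j - ![1, u, w] i) = 0 := by linear_combination h
    exact (mul_eq_zero.mp this).resolve_right hne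
  set c := (y : Mat 3 F) 0 0 with hc
  have hyc : (y : Mat 3 F) = c • 1 := by
    have h10 := congrFun (congrFun hyC 1) 0
    have h21 := congrFun (congrFun hyC 2) 1
    simp [Matrix.mul_apply, Fin.sum_univ_three, toM, toV, cycGen, S.dec_zero, S.dec_one] at h10 h21
    ext i j
    rcases eq_or_ne i j with rfl | hij
    · rw [Matrix.smul_apply, Matrix.one_apply_eq, smul_eq_mul, mul_one]
      fin_cases i
      · rfl
      · exact h10
      · exact h21.trans h10
    · rw [hoff i j hij, Matrix.smul_apply, Matrix.one_apply_ne hij, smul_zero]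
  obtain ⟨hnU, hnd⟩ := mem_suG.mp hn
  have hnR : (n : Mat 3 F) = c • toM 5 S.θ r := by
    rw [show n = R * y by rw [hy, mul_inv_cancel_left], Units.val_mul, hyc, Matrix.mul_smul, mul_one]
  rw [hnR, Matrix.det_smul, Fintype.card_fin, S.toM_det] at hnd
  have hcσ : c * S.σ c = 1 := by
    have hyU : y ∈ Cfsg.GU 3 F 5 := (Cfsg.GU 3 F 5).mul_mem ((Cfsg.GU 3 F 5).inv_mem hRU) hnU
    have h := congrFun (congrFun (gu_map_eq S.σ_eq hyU) 0) 0
    simpa [hyc, Matrix.mul_apply, Fin.sum_univ_three] using h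
  have hc6 : c ^ 6 = 1 := by
    rw [S.σ_eq] at hcσ
    linear_combination hcσ
  obtain ⟨zc, hzc, hzce⟩ := S.exists_code c
  have hdet : detM 5 r = 1 := by
    have h36 : dec 5 S.θ (detM 5 r) * dec 5 S.θ (detM 5 r) = 1 := by
      linear_combination (c ^ 3 * dec 5 S.θ (detM 5 r) + 1) * hnd -
        (dec 5 S.θ (detM 5 r) * dec 5 S.θ (detM 5 r)) * hc6
    have key : ∀ d < 5 * 5, mulC 5 d d = 1 → d = 1 ∨ d = 4 := by decide +kernel
    have hlt : detM 5 r < 5 * 5 := S.red_lt _ _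
    generalize detM 5 r = d at h36 hlt hr4 ⊢
    have e : mulC 5 d d = 1 :=
      S.dec_inj (S.red_lt _ _) (by norm_num) (by rw [S.dec_mul, S.dec_one, h36])
    exact (key _ hlt e).resolve_right hr4
  simp [hdet] at hr1
  replace hr1 : normList.any (fun N => decide (N = r)) = true :=
    List.any_eq_true.mpr ⟨r, hr1, decide_eq_true rfl⟩
  obtain ⟨N, hN, hNe⟩ := List.any_eq_true.mp hr1
  obtain ⟨r', hr', hre⟩ := norm_mem S (of_decide_eq_true hNe ▸ hN)
  rw [hdet, S.dec_one, mul_one] at hnd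
  have key : ∀ z < 5 * 5, mulC 5 (mulC 5 z z) z = 1 → normList.any (fun N => decide (N = scalM z)) = true := by
    decide +kernel
  obtain ⟨N', hN', hNe'⟩ := List.any_eq_true.mp (key zc hzc (S.dec_inj (S.red_lt _ _) (by norm_num)
    (by rw [S.dec_one, S.dec_mul, S.dec_mul, hzce]; linear_combination hnd)))
  obtain ⟨s, hs, hse⟩ := norm_mem S (of_decide_eq_true hNe' ▸ hN')
  have : n = r' * s := by
    refine Units.ext ?_
    rw [Units.val_mul, hre, hse, hnR, ← hzce]
    ext i j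
    fin_cases j <;> simp [toM, toV, scalM, S.dec_zero, Matrix.mul_apply, Fin.sum_univ_three, mul_comm]
  rw [this]
  exact (normY S).mul_mem hr' hs

/-- In `SU(3,5)` the normaliser of an extraspecial group is not maximal. -/
theorem extraspecial_not_maximal [Fintype F] (hF : Fintype.card F = 5 ^ 2) {H R : Subgroup (GL (Fin 3) F)}
    (hH : IsMaximalIn (suG 3 F 5) H) (hR : RData R) (hRH : R ≤ H) (hle : H ≤ subgroupNormalizer R) :
    False := by
  classical
  obtain ⟨S⟩ := nonempty_setting (.inr rfl) hF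
  haveI := S.char
  have hs := herm_sesq (n := 3) S.σ_eq
  have h3 : Nat.Prime 3 := by norm_num
  obtain ⟨x, hx, y, hy, μ, hne, hμ, he⟩ := hR.exists_shift h3
  have hxU : x ∈ Cfsg.GU 3 F 5 := (mem_suG.mp (hH.1.le (hRH hx))).1
  have hyU : y ∈ Cfsg.GU 3 F 5 := (mem_suG.mp (hH.1.le (hRH hy))).1
  have hx3 : (x : Mat 3 F) ^ 3 = 1 := by
    rw [← Units.val_pow_eq_pow_val, hR.pow_eq_one x hx, Units.val_one]
  obtain ⟨ζ, hζ, v₀, hv₀, hev⟩ := exists_eigenvector hμ hx3
  have hμ0 : μ ≠ 0 := hμ.ne_zero (by norm_num)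
  have hxy : (x : Mat 3 F) * y = μ⁻¹ • ((y : Mat 3 F) * x) := by
    rw [he, smul_smul, inv_mul_cancel₀ hμ0, one_smul]
  let v : Fin 3 → (Fin 3 → F) := fun i => ((y : Mat 3 F) ^ (i : ℕ)) *ᵥ v₀
  have hxv : ∀ k : ℕ, (x : Mat 3 F) *ᵥ (((y : Mat 3 F) ^ k) *ᵥ v₀) =
      (μ⁻¹ ^ k * ζ) • (((y : Mat 3 F) ^ k) *ᵥ v₀) := by
    intro k
    induction k with
    | zero => simp [hev]
    | succ k ih =>
      rw [pow_succ', ← Matrix.mulVec_mulVec, Matrix.mulVec_mulVec _ (x : Mat 3 F), hxy,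
        Matrix.smul_mulVec, ← Matrix.mulVec_mulVec, ih, Matrix.mulVec_smul, smul_smul, pow_succ', mul_assoc]
  have hv0 : ∀ i, v i ≠ 0 := fun i h => hv₀ (Matrix.mulVec_injective_iff_isUnit.2 (y.isUnit.pow (i : ℕ))
    (by rw [Matrix.mulVec_zero]; exact h))
  have hζ0 : ζ ≠ 0 := fun e => by simp [e] at hζ
  let a : Fin 3 → F := fun i => μ⁻¹ ^ (i : ℕ) * ζ
  have hinj : Function.Injective a := fun i j h =>
    Fin.ext (hμ.inv.pow_inj i.2 j.2 (mul_right_cancel₀ hζ0 h))
  have hli : LinearIndependent F v :=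
    Module.End.eigenvectors_linearIndependent' (Matrix.toLin' (x : Mat 3 F)) _ hinj v fun i =>
      ⟨Module.End.mem_eigenspace_iff.mpr (by rw [Matrix.toLin'_apply]; exact hxv i), hv0 i⟩
  have ha3 : ∀ i, a i ^ 3 = 1 := fun i => by
    simp only [a]
    rw [mul_pow, ← pow_mul, mul_comm (i : ℕ), pow_mul, inv_pow, hμ.pow_eq_one, inv_one, one_pow, one_mul, hζ]
  have hσa : ∀ i, a i * S.σ (a i) = 1 := fun i => by
    rw [S.σ_eq]
    linear_combination (a i ^ 3 + 1) * ha3 i
  have horth : ∀ i j, i ≠ j → Cfsg.hermForm 3 F 5 (v i) (v j) = 0 := by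
    intro i j hij
    have h := hxU (v i) (v j)
    change Cfsg.hermForm 3 F 5 ((x : Mat 3 F) *ᵥ v i) ((x : Mat 3 F) *ᵥ v j) = _ at h
    rw [show (x : Mat 3 F) *ᵥ v i = a i • v i from hxv i, show (x : Mat 3 F) *ᵥ v j = a j • v j from hxv j,
      hs.smul_left, hs.smul_right, ← mul_assoc] at h
    by_contra hne'
    refine hij (hinj (mul_right_cancel₀ (b := S.σ (a j)) (fun e => ?_) ?_))
    · have := hσa j
      rw [e, mul_zero] at this
      exact zero_ne_one this
    · rw [mul_right_cancel₀ hne' (h.trans (one_mul _).symm), hσa]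
  have hdiag : ∀ i, Cfsg.hermForm 3 F 5 (v i) (v i) = Cfsg.hermForm 3 F 5 v₀ v₀ := by
    intro i
    have hyi : y ^ (i : ℕ) ∈ Cfsg.GU 3 F 5 := (Cfsg.GU 3 F 5).pow_mem hyU _
    have := hyi v₀ v₀
    simpa [v, Units.val_pow_eq_pow_val] using this
  have hd0 : Cfsg.hermForm 3 F 5 v₀ v₀ ≠ 0 := fun e =>
    norms_ne_zero S hli horth 0 (by rw [hdiag, e])
  obtain ⟨k, hk0, hk⟩ := exists_norm S (.inr rfl) (herm_symm S.σ_eq S.conj v₀ v₀) hd0
  obtain ⟨g, hg, hgv⟩ := exists_unitary_of_frame S (fun i => k⁻¹ • v i) fun i j => by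
    rw [hs.smul_left, hs.smul_right, map_inv₀]
    split
    · next h =>
      rw [h, hdiag, ← hk]
      have : S.σ k ≠ 0 := fun e => hk0 (S.σ.injective (by rw [e, map_zero]))
      field_simp
    · next h => rw [horth i j h, mul_zero, mul_zero]
  have hconj : ∀ (h : GL (Fin 3) F) (j : Fin 3), ((g⁻¹ * h * g : GL (Fin 3) F) : Mat 3 F) *ᵥ Pi.single j 1 =
      k⁻¹ • (((g⁻¹ : GL (Fin 3) F) : Mat 3 F) *ᵥ ((h : Mat 3 F) *ᵥ v j)) := fun h j => by
    rw [Units.val_mul, Units.val_mul, ← Matrix.mulVec_mulVec, ← Matrix.mulVec_mulVec, hgv,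
      Matrix.mulVec_smul, Matrix.mulVec_smul]
  have hginv : ∀ j, ((g⁻¹ : GL (Fin 3) F) : Mat 3 F) *ᵥ v j = k • Pi.single j 1 := by
    intro j
    rw [show v j = k • ((g : Mat 3 F) *ᵥ Pi.single j 1) by rw [hgv, smul_smul, mul_inv_cancel₀ hk0, one_smul],
      Matrix.mulVec_smul, Matrix.mulVec_mulVec, Units.inv_mul, Matrix.one_mulVec]
  have hX : ((g⁻¹ * x * g : GL (Fin 3) F) : Mat 3 F) = Matrix.diagonal a := by
    refine Matrix.ext_of_mulVec_single fun j => ?_
    rw [hconj, show (x : Mat 3 F) *ᵥ v j = a j • v j from hxv j, Matrix.mulVec_smul, hginv, smul_smul, smul_smul,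
      Matrix.diagonal_mulVec_single, mul_one]
    funext i
    rw [Pi.smul_apply, Pi.single_apply, Pi.single_apply, smul_eq_mul]
    split <;> [field_simp; simp]
  have hY : ((g⁻¹ * y * g : GL (Fin 3) F) : Mat 3 F) = toM 5 S.θ cycGen := by
    have hy3 : (y : Mat 3 F) ^ 3 = 1 := by
      rw [← Units.val_pow_eq_pow_val, hR.pow_eq_one y hy, Units.val_one]
    refine Matrix.ext_of_mulVec_single fun j => ?_
    have hstep : (y : Mat 3 F) *ᵥ v j = v (j + 1) := by
      simp only [v]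
      rw [Matrix.mulVec_mulVec, ← pow_succ']
      fin_cases j <;> simp [hy3]
    rw [hconj, hstep, hginv, smul_smul, inv_mul_cancel₀ hk0, one_smul, Matrix.mulVec_single_one]
    funext i
    fin_cases j <;> fin_cases i <;> simp [toM, toV, cycGen, S.dec_zero, S.dec_one]
  -- a cube root of unity in code
  obtain ⟨om, hom, hdom⟩ : ∃ om : F, IsPrimitiveRoot om 3 ∧
      toM 5 S.θ diagGen = Matrix.diagonal fun i : Fin 3 => om ^ (i : ℕ) := by
    refine ⟨dec 5 S.θ diagGen.2.1.2.1, ?_, ?_⟩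
    · rw [IsPrimitiveRoot.iff_orderOf]
      haveI : Fact (Nat.Prime 3) := ⟨h3⟩
      refine orderOf_eq_prime ?_ ?_
      · have hcode : mulC 5 (mulC 5 diagGen.2.1.2.1 diagGen.2.1.2.1) diagGen.2.1.2.1 = 1 := by decide +kernel
        have := congrArg (dec 5 S.θ) hcode
        rw [S.dec_mul, S.dec_mul, S.dec_one] at this
        linear_combination this
      · intro e
        exact absurd (S.dec_inj (by decide +kernel) (by norm_num) (e.trans S.dec_one.symm)) (by decide +kernel)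
    · have hcode : diagGen = ((1, 0, 0), (0, diagGen.2.1.2.1, 0),
          (0, 0, mulC 5 diagGen.2.1.2.1 diagGen.2.1.2.1)) := by decide +kernel
      conv_lhs => rw [hcode]
      ext i j
      fin_cases i <;> fin_cases j <;> simp [toM, toV, S.dec_zero, S.dec_one, S.dec_mul, pow_two]
  -- scalars in `R`
  have hsc : ∀ r : F, r ^ 3 = 1 → ∃ u ∈ R, (u : Mat 3 F) = r • (1 : Mat 3 F) := by
    intro r hr
    have hc : y * x * y⁻¹ * x⁻¹ ∈ R := R.mul_mem (R.mul_mem (R.mul_mem hy hx) (R.inv_mem hy)) (R.inv_mem hx)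
    have hcm : ((y * x * y⁻¹ * x⁻¹ : GL (Fin 3) F) : Mat 3 F) = μ • 1 := by
      rw [Units.val_mul, Units.val_mul, Units.val_mul, he, Matrix.smul_mul, Matrix.smul_mul,
        mul_assoc (x : Mat 3 F) (y : Mat 3 F), Units.mul_inv, mul_one, Units.mul_inv]
    obtain ⟨i, -, hi⟩ := hμ.eq_pow_of_pow_eq_one hr
    exact ⟨(y * x * y⁻¹ * x⁻¹) ^ i, R.pow_mem hc i, by
      rw [Units.val_pow_eq_pow_val, hcm, smul_pow, one_pow, hi]⟩
  obtain ⟨Dg, hDg, hDge⟩ : ∃ u ∈ R, ((g⁻¹ * u * g : GL (Fin 3) F) : Mat 3 F) = toM 5 S.θ diagGen := by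
    obtain ⟨u, hu, hue⟩ := hsc ζ⁻¹ (by rw [inv_pow, hζ, inv_one])
    obtain ⟨i, -, hi⟩ := hμ.inv.eq_pow_of_pow_eq_one hom.pow_eq_one
    refine ⟨(u * x) ^ i, R.pow_mem (R.mul_mem hu hx) i, ?_⟩
    have hcomm : g⁻¹ * u * g = u := by
      have : (u : Mat 3 F) * g = (g : Mat 3 F) * u := by
        rw [hue, Matrix.smul_mul, one_mul, Matrix.mul_smul, mul_one]
      rw [mul_assoc, show u * g = g * u from Units.ext this, inv_mul_cancel_left]
    have h1 : g⁻¹ * (u * x) ^ i * g = (u * (g⁻¹ * x * g)) ^ i := by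
      rw [show g⁻¹ * (u * x) ^ i * g = g⁻¹ * (u * x) ^ i * g⁻¹⁻¹ by rw [inv_inv], ← conj_pow, inv_inv]
      conv_rhs => rw [← hcomm]
      group
    rw [h1, Units.val_pow_eq_pow_val, Units.val_mul, hue, hX, hdom, Matrix.smul_mul, one_mul,
      ← Matrix.diagonal_smul, Matrix.diagonal_pow]
    refine congrArg Matrix.diagonal (funext fun j => ?_)
    simp only [Pi.pow_apply, Pi.smul_apply, smul_eq_mul, a]
    rw [show ζ⁻¹ * (μ⁻¹ ^ (j : ℕ) * ζ) = μ⁻¹ ^ (j : ℕ) by field_simp, ← pow_mul, mul_comm, pow_mul, hi]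
  -- the conjugate of `R` is coded
  have hgen : R = Subgroup.closure {x, y} := by
    haveI : Fact (Nat.Prime 3) := ⟨h3⟩
    have hle' : Subgroup.closure {x, y} ≤ R := by
      rw [Subgroup.closure_le]
      rintro z (rfl | rfl)
      exacts [hx, hy]
    refine (Subgroup.eq_of_le_of_card_ge hle' ?_).symm
    rw [hR.card_eq h3]
    refine card_ge_of_not_comm ((hR.isPGroup h3).to_le hle') fun h => hne ?_
    have e := congrArg (fun z : Subgroup.closure {x, y} => (z.1 : Mat 3 F))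
      (h ⟨y, Subgroup.subset_closure (by simp)⟩ ⟨x, Subgroup.subset_closure (by simp)⟩)
    change (y : Mat 3 F) * x = (x : Mat 3 F) * y at e
    rw [he] at e
    by_contra hμ1
    have : (μ - 1) • ((x : Mat 3 F) * y) = 0 := by rw [sub_smul, e, one_smul, sub_self]
    exact (x.isUnit.mul y.isUnit).ne_zero ((smul_eq_zero.mp this).resolve_left (sub_ne_zero.mpr hμ1))
  have hmulEx : ∀ u w : GL (Fin 3) F, InEx S u → InEx S w → InEx S (u * w) := by
    rintro u w ⟨A, hA, hAe⟩ ⟨B, hB, hBe⟩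
    obtain ⟨N, hN, e⟩ := List.any_eq_true.mp (List.all_eq_true.mp (List.all_eq_true.mp ex_closed A hA) B hB)
    exact ⟨N, hN, by rw [Units.val_mul, hAe, hBe, ← S.toM_mul, of_decide_eq_true e]⟩
  have hone : InEx S 1 := ⟨oneM, by decide +kernel, by rw [S.toM_one, Units.val_one]⟩
  have hXin : InEx S (g⁻¹ * x * g) := by
    -- `x` is a scalar times a power of the diagonal generator
    obtain ⟨i, -, hi⟩ := hom.eq_pow_of_pow_eq_one (ξ := μ⁻¹) (by rw [inv_pow, hμ.pow_eq_one, inv_one])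
    obtain ⟨z, hz, hzζ⟩ := S.exists_code ζ
    obtain ⟨i3, hi3, hi3'⟩ : ∃ i' < 3, om ^ i' = μ⁻¹ :=
      ⟨i % 3, Nat.mod_lt _ (by norm_num), by rw [← pow_eq_pow_mod i hom.pow_eq_one, hi]⟩
    have key : ∀ z < 5 * 5, ∀ i < 3, mulC 5 (mulC 5 z z) z = 1 →
        exList.any (fun N => decide (N = smulM 5 z
          ([oneM, diagGen, mulM 5 diagGen diagGen].getD i oneM))) = true := by decide +kernel
    obtain ⟨N, hN, e⟩ := List.any_eq_true.mp (key z hz i3 hi3 (S.dec_inj (S.red_lt _ _) (by norm_num)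
      (by rw [S.dec_one, S.dec_mul, S.dec_mul, hzζ]; linear_combination hζ)))
    refine ⟨N, hN, ?_⟩
    rw [hX, of_decide_eq_true e, S.toM_smul, hzζ]
    have hpw : toM 5 S.θ ([oneM, diagGen, mulM 5 diagGen diagGen].getD i3 oneM) =
        Matrix.diagonal fun j : Fin 3 => (om ^ i3) ^ (j : ℕ) := by
      interval_cases i3
      · simp [S.toM_one]
      · simp [hdom]
      · simp [S.toM_mul, hdom, Matrix.diagonal_mul_diagonal, ← pow_add, ← pow_mul, two_mul]
    rw [hpw, hi3', ← Matrix.diagonal_smul]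
    exact congrArg Matrix.diagonal (funext fun j => by simp [a, mul_comm])
  have hYin : InEx S (g⁻¹ * y * g) := ⟨cycGen, by decide +kernel, hY⟩
  have hsub : ∀ r ∈ R, InEx S (g⁻¹ * r * g) := by
    intro r hr
    rw [hgen] at hr
    induction hr using Subgroup.closure_induction with
    | mem w hw =>
      rcases hw with rfl | rfl
      · exact hXin
      · exact hYin
    | one => rw [mul_one, inv_mul_cancel]; exact hone
    | mul u w _ _ hu hw =>
      rw [show g⁻¹ * (u * w) * g = (g⁻¹ * u * g) * (g⁻¹ * w * g) by group]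
      exact hmulEx _ _ hu hw
    | inv u hu' hu =>
      have hu3 : u ^ 3 = 1 := hR.pow_eq_one u (hgen ▸ hu')
      rw [show u⁻¹ = u * u from inv_eq_of_mul_eq_one_right (by rw [← mul_assoc, ← hu3]; simp [pow_succ]),
        show g⁻¹ * (u * u) * g = (g⁻¹ * u * g) * (g⁻¹ * u * g) by group]
      exact hmulEx _ _ hu hu
  obtain ⟨o, hoS, hoY⟩ : ∃ o ∈ suG 3 F 5, o ∉ normY S := by
    obtain ⟨h1, h2, h3⟩ := norm_out
    obtain ⟨o, ho, hoe⟩ := S.mem_suG_of_inSU h1
    obtain ⟨w, hw, e⟩ := List.any_eq_true.mp h2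
    exact ⟨o, ho, S.not_mem_stab norm_red hoe (v := w) hw (by rw [of_decide_eq_true e]; exact h3)⟩
  obtain ⟨t, ht, hte⟩ := norm_gen_mem S (List.mem_cons_self (a := normExtra) (l := normGens))
  refine not_maximal_of_conj hH hg (S.stab_le _) hoS hoY (fun h hh => ?_) ht fun htH => ?_
  · have hS : g⁻¹ * h * g ∈ suG 3 F 5 := by
      simpa using suG_conj ((Cfsg.GU 3 F 5).inv_mem hg) (hH.1.le hh)
    have hnorm : ∀ r ∈ R, h * r * h⁻¹ ∈ R := fun r hr => (Subgroup.mem_normalizer_iff.mp (hle hh) r).mp hr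
    refine mem_normY S hS (D := g⁻¹ * Dg * g) (C := g⁻¹ * y * g) hDge hY ?_ ?_
    · rw [show g⁻¹ * h * g * (g⁻¹ * Dg * g) * (g⁻¹ * h * g)⁻¹ = g⁻¹ * (h * Dg * h⁻¹) * g by group]
      exact hsub _ (hnorm _ hDg)
    · rw [show g⁻¹ * h * g * (g⁻¹ * y * g) * (g⁻¹ * h * g)⁻¹ = g⁻¹ * (h * y * h⁻¹) * g by group]
      exact hsub _ (hnorm _ hy)
  · obtain ⟨A, hA, hAe⟩ := hsub _ ((Subgroup.mem_normalizer_iff.mp (hle htH) Dg).mp hDg)
    rw [show g⁻¹ * (g * t * g⁻¹ * Dg * (g * t * g⁻¹)⁻¹) * g = t * (g⁻¹ * Dg * g) * t⁻¹ by group,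
      Units.val_mul, Units.val_mul, hDge, S.inv_code (mem_suG.mp (S.stab_le _ ht)).1 hte, hte,
      ← S.toM_mul, ← S.toM_mul] at hAe
    have h := List.all_eq_true.mp norm_extra_moves A hA
    simp only [Bool.not_eq_true', decide_eq_false_iff_not] at h
    have hexred : exList.all (fun N => decide (N.1.1 < 25 ∧ N.1.2.1 < 25 ∧ N.1.2.2 < 25 ∧ N.2.1.1 < 25 ∧
        N.2.1.2.1 < 25 ∧ N.2.1.2.2 < 25 ∧ N.2.2.1 < 25 ∧ N.2.2.2.1 < 25 ∧ N.2.2.2.2 < 25)) = true := by
      decide +kernel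
    obtain ⟨a1, a2, a3, b1, b2, b3, c1, c2, c3⟩ := of_decide_eq_true (List.all_eq_true.mp hexred A hA)
    exact h (S.toM_inj (S.red_mul _ _) ⟨⟨a1, a2, a3⟩, ⟨b1, b2, b3⟩, c1, c2, c3⟩ hAe)

end CfsgLib.Classical.AschPrime.SU3Code
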