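import Cfsg.Agent.Lib.Classical.AschPrime.UnitaryBasic

/-!
# Subfield structures of unitary groups

An absolutely irreducible unitary group realised over a subfield of prime index carries the form to
that subfield, and for index two the characteristic is odd; a unitary group fixing a bilinear form
is realised over the fixed field.
-/

set_option autoImplicit false

namespace CfsgLib.Classical.AschPrime

open Matrix Cfsg Cfsg.Geo
open scoped MatrixGroups

variable {n : ℕ} {F : Type*} [Field F] [Fintype F] {q : ℕ} {σ : F →+* F}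

/-- A symmetric invertible matrix over a field of characteristic two is not preserved by an
irreducible group. -/
theorem no_symm_char_two (h2 : (2 : F) = 0) (hn : 2 ≤ n) (hodd : Odd n) {M : Mat n F}
    (hM : IsUnit M) (hsymm : Mᵀ = M) {S : Subgroup (GL (Fin n) F)}
    (hS : ActsIrreducibly (matrixSet S)) (B : GL (Fin n) F)
    (hfix : ∀ s ∈ S, ((B * s * B⁻¹ : GL (Fin n) F) : Mat n F)ᵀ * M *
      ((B * s * B⁻¹ : GL (Fin n) F) : Mat n F) = M) : False := by
  classical
  let Q : (Fin n → F) → F := fun u => u ⬝ᵥ (M *ᵥ u)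
  have hcross : ∀ u v, v ⬝ᵥ (M *ᵥ u) = u ⬝ᵥ (M *ᵥ v) := fun u v => by
    rw [Matrix.dotProduct_mulVec, dotProduct_comm]
    conv_lhs => rw [← hsymm, Matrix.vecMul_transpose]
  have hadd : ∀ u v, Q (u + v) = Q u + Q v := fun u v => by
    simp only [Q, Matrix.mulVec_add, dotProduct_add, add_dotProduct, hcross u v]
    linear_combination (u ⬝ᵥ M *ᵥ v) * h2
  have hsmul : ∀ (c : F) u, Q (c • u) = c * c * Q u := fun c u => by
    simp only [Q, Matrix.mulVec_smul, dotProduct_smul, smul_dotProduct, smul_eq_mul]; ring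
  let W : Submodule F (Fin n → F) :=
    { carrier := {w | Q ((B : Mat n F) *ᵥ w) = 0}
      add_mem' := fun {a b} (ha : _ = 0) (hb : _ = 0) => by
        change Q _ = 0
        rw [Matrix.mulVec_add, hadd, ha, hb, add_zero]
      zero_mem' := by simp [Q]
      smul_mem' := fun c a (ha : _ = 0) => by
        change Q _ = 0
        rw [Matrix.mulVec_smul, hsmul, ha, mul_zero] }
  have hW := irr_iff.mp hS W (by
    rintro _ ⟨s, hs, rfl⟩ v (hv : Q _ = 0)
    change Q _ = 0
    set s' := B * s * B⁻¹ with hs'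
    have e : (B : Mat n F) *ᵥ ((s : Mat n F) *ᵥ v) = (s' : Mat n F) *ᵥ ((B : Mat n F) *ᵥ v) := by
      rw [Matrix.mulVec_mulVec, Matrix.mulVec_mulVec, ← Units.val_mul, ← Units.val_mul, hs',
        inv_mul_cancel_right]
    rw [e]
    set w := (B : Mat n F) *ᵥ v
    change ((s' : Mat n F) *ᵥ w) ⬝ᵥ (M *ᵥ ((s' : Mat n F) *ᵥ w)) = 0
    nth_rewrite 1 [← Matrix.vecMul_transpose]
    rw [← Matrix.dotProduct_mulVec, Matrix.mulVec_mulVec, Matrix.mulVec_mulVec, hfix s hs]
    exact hv)
  have hBinv : ∀ u, (B : Mat n F) *ᵥ (((B⁻¹ : GL (Fin n) F) : Mat n F) *ᵥ u) = u := fun u => by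
    rw [Matrix.mulVec_mulVec, Units.mul_inv, Matrix.one_mulVec]
  rcases hW with h | h
  · -- two coordinate vectors give a singular vector
    let e0 : Fin n → F := Pi.single ⟨0, by omega⟩ 1
    let e1 : Fin n → F := Pi.single ⟨1, by omega⟩ 1
    have hbot : ∀ u, Q u = 0 → u = 0 := fun u hu => by
      have hmem : ((B⁻¹ : GL (Fin n) F) : Mat n F) *ᵥ u ∈ W := by
        change Q _ = 0
        rw [hBinv]; exact hu
      rw [h, Submodule.mem_bot] at hmem
      rw [← hBinv u, hmem, Matrix.mulVec_zero]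
    have h0 : Q e0 ≠ 0 := fun e => by simpa [e0] using congrFun (hbot e0 e) ⟨0, by omega⟩
    haveI : CharP F 2 := CharTwo.of_one_ne_zero_of_two_eq_zero one_ne_zero h2
    obtain ⟨c, hc⟩ := FiniteField.isSquare_of_char_two (ringChar.eq F 2) (Q e1 / Q e0)
    have hv : Q (e1 + c • e0) = 0 := by
      rw [hadd, hsmul, ← hc, div_mul_cancel₀ _ h0]
      linear_combination (Q e1) * h2
    have := congrFun (hbot _ hv) ⟨1, by omega⟩
    simp [e0, e1] at this
  · have hall : ∀ u, Q u = 0 := fun u => by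
      have := h ▸ Submodule.mem_top (x := ((B⁻¹ : GL (Fin n) F) : Mat n F) *ᵥ u)
      change Q _ = 0 at this
      rwa [hBinv] at this
    refine ((Matrix.isUnit_iff_isUnit_det _).mp hM).ne_zero (det_alternating hodd (fun i j => ?_)
      fun i => ?_)
    · have hji : M j i = M i j := by
        conv_lhs => rw [← hsymm, Matrix.transpose_apply]
      rw [hji]; linear_combination (M i j) * h2
    · simpa [Q, Matrix.mulVec_single_one] using hall (Pi.single i 1)

theorem descend (hF : Fintype.card F = q ^ 2) (hσ : ∀ x, σ x = x ^ q) (hc : IsConjugation σ)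
    (hn : 2 ≤ n) (hodd : Odd n) {S H : Subgroup (GL (Fin n) F)}
    (hS : ActsAbsolutelyIrreducibly (matrixSet S)) (hSG : S ≤ Cfsg.GU n F q)
    (hHS : ∀ h ∈ H, ∀ s ∈ S, h * s * h⁻¹ ∈ S) {F₁ : Subfield F} {l : ℕ} (hl : l.Prime)
    (hcard : Fintype.card F = Nat.card F₁ ^ l) {B : GL (Fin n) F}
    (hrat : ∀ s ∈ S, RatAt F₁ B s) :
    (Odd l ∨ (l = 2 ∧ Odd q)) ∧ ∃ P : GL (Fin n) F,
      IsFormRationalStructure (Cfsg.hermForm n F q) F₁ 1 P ∧ H ≤ subfieldSubgroup F₁ P := by
  classical
  set P₀ : GL (Fin n) F := B⁻¹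
  set f := stdForm σ P₀
  have hf : IsSesq σ f := stdForm_sesq σ P₀
  have hfapp : ∀ u v, f u v = Cfsg.hermForm n F q ((P₀ : Mat n F) *ᵥ u) ((P₀ : Mat n F) *ᵥ v) :=
    fun u v => by simp [f, stdForm, Cfsg.hermForm, hσ]
  set M := gramMatrix f
  have hMu : IsUnit M := hf.isUnit_gram (stdForm_nondegenerate σ P₀)
  have hfix : ∀ s ∈ S, ((B * s * B⁻¹ : GL (Fin n) F) : Mat n F)ᵀ * M *
      ((B * s * B⁻¹ : GL (Fin n) F) : Mat n F).map σ = M := by
    intro s hs
    rw [(hf.isometry (c := 1)).mp fun u v => ?_, one_smul]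
    rw [one_mul, hfapp, hfapp]
    have e : ∀ w, (P₀ : Mat n F) *ᵥ (((B * s * B⁻¹ : GL (Fin n) F) : Mat n F) *ᵥ w) =
        (s : Mat n F) *ᵥ ((P₀ : Mat n F) *ᵥ w) := fun w => by
      rw [Matrix.mulVec_mulVec, Matrix.mulVec_mulVec, ← Units.val_mul, ← Units.val_mul]
      congr 2
      simp [P₀, mul_assoc]
    rw [e, e]
    exact hSG hs _ _
  have hσF : ∀ x ∈ F₁, σ x ∈ F₁ := fun x hx => by rw [hσ]; exact F₁.pow_mem hx q
  -- the Gram matrix is rational up to a scalar
  obtain ⟨τ, hτ⟩ := exists_frob_fixed F₁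
  obtain ⟨Mu, hMu'⟩ := hMu
  set X := M.map τ * ((Mu⁻¹ : (Mat n F)ˣ) : Mat n F) with hX
  have hXM : X * M = M.map τ := by rw [hX, ← hMu', mul_assoc, Units.inv_mul, mul_one]
  have hfixτ : ∀ s ∈ S, ((B * s * B⁻¹ : GL (Fin n) F) : Mat n F)ᵀ * M.map τ *
      ((B * s * B⁻¹ : GL (Fin n) F) : Mat n F).map σ = M.map τ := by
    intro s hs
    set A := ((B * s * B⁻¹ : GL (Fin n) F) : Mat n F)
    have hA : A.map τ = A := by ext i j; exact (hτ _).mpr (hrat s hs i j)
    have hAσ : (A.map σ).map τ = A.map σ := by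
      ext i j; exact (hτ _).mpr (hσF _ (hrat s hs i j))
    conv_rhs => rw [← hfix s hs, Matrix.map_mul, Matrix.map_mul, Matrix.transpose_map, hA, hAσ]
  obtain ⟨c, hcX⟩ : ∃ c : F, X = c • 1 := by
    obtain ⟨c, hc'⟩ := hS.2 (((B⁻¹ : GL (Fin n) F) : Mat n F) * Xᵀ * (B : Mat n F)) (by
      rintro _ ⟨s, hs, rfl⟩
      set s' := B * s * B⁻¹ with hs'
      have hunit : IsUnit (M * (s' : Mat n F).map σ) := by
        rw [← hMu']
        exact Mu.isUnit.mul (s'.isUnit.map (RingHom.mapMatrix σ))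
      have e : (s' : Mat n F)ᵀ * X * (M * (s' : Mat n F).map σ) =
          X * (s' : Mat n F)ᵀ * (M * (s' : Mat n F).map σ) := by
        calc (s' : Mat n F)ᵀ * X * (M * (s' : Mat n F).map σ)
            = (s' : Mat n F)ᵀ * (X * M) * (s' : Mat n F).map σ := by simp only [mul_assoc]
          _ = X * M := by rw [hXM, hfixτ s hs]
          _ = X * ((s' : Mat n F)ᵀ * M * (s' : Mat n F).map σ) := by rw [hfix s hs]
          _ = _ := by simp only [mul_assoc]
      have h2 := congrArg Matrix.transpose (hunit.mul_left_injective e)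
      simp only [Matrix.transpose_mul, Matrix.transpose_transpose] at h2
      have e1 : (s : Mat n F) = ((B⁻¹ : GL (Fin n) F) : Mat n F) * (s' : Mat n F) * (B : Mat n F) := by
        rw [← Units.val_mul, ← Units.val_mul, hs']
        congr 1
        group
      change ((B⁻¹ : GL (Fin n) F) : Mat n F) * Xᵀ * (B : Mat n F) * (s : Mat n F) =
        (s : Mat n F) * (((B⁻¹ : GL (Fin n) F) : Mat n F) * Xᵀ * (B : Mat n F))
      rw [e1]
      calc ((B⁻¹ : GL (Fin n) F) : Mat n F) * Xᵀ * (B : Mat n F) *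
            (((B⁻¹ : GL (Fin n) F) : Mat n F) * (s' : Mat n F) * (B : Mat n F))
          = ((B⁻¹ : GL (Fin n) F) : Mat n F) * (Xᵀ * (s' : Mat n F)) * (B : Mat n F) := by
            simp only [mul_assoc, Units.mul_inv_cancel_left]
        _ = ((B⁻¹ : GL (Fin n) F) : Mat n F) * ((s' : Mat n F) * Xᵀ) * (B : Mat n F) := by
            rw [h2]
        _ = _ := by simp only [mul_assoc, Units.mul_inv_cancel_left])
    refine ⟨c, ?_⟩
    have h1 := congrArg (fun Y => (B : Mat n F) * Y * ((B⁻¹ : GL (Fin n) F) : Mat n F)) hc'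
    simp only [mul_assoc, Units.mul_inv, mul_one, Units.mul_inv_cancel_left, Matrix.mul_smul,
      Matrix.smul_mul, one_mul] at h1
    have := congrArg Matrix.transpose h1
    simpa using this
  have hτM : ∀ i j, τ (M i j) = c * M i j := fun i j => by
    have := congrFun (congrFun (hXM.symm.trans (by rw [hcX, Matrix.smul_mul, one_mul])) i) j
    simpa using this
  have hc0 : c ≠ 0 := by
    rintro rfl
    have h0 : M = 0 := by
      ext i j
      have := hτM i j
      rw [zero_mul, map_eq_zero] at this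
      simpa using this
    haveI : NeZero n := ⟨by omega⟩
    exact Mu.ne_zero (hMu'.trans h0)
  have hval : ∀ u v : Fin n → F, (∀ i, u i ∈ F₁) → (∀ i, v i ∈ F₁) → τ (f u v) = c * f u v := by
    intro u v hu hv
    rw [hf.apply]
    simp only [dotProduct, Matrix.mulVec, Function.comp_apply, map_sum, map_mul, Finset.mul_sum]
    refine Finset.sum_congr rfl fun i _ => Finset.sum_congr rfl fun j _ => ?_
    rw [(hτ _).mpr (hu i), (hτ _).mpr (hσF _ (hv j))]
    change u i * (τ (M i j) * σ (v j)) = c * (u i * (M i j * σ (v j)))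
    rw [hτM]; ring
  have hherm : ∀ u v, σ (f u v) = f v u := fun u v => by rw [hfapp, hfapp, herm_symm hσ hc]
  have hMji : ∀ i j, σ (M i j) = M j i := fun i j => hherm _ _
  -- a rational vector that is not isotropic
  obtain ⟨u₀, hu₀, ha⟩ : ∃ u : Fin n → F, (∀ i, u i ∈ F₁) ∧ f u u ≠ 0 := by
    by_contra hall
    push Not at hall
    have hr : ∀ k : Fin n, ∀ i, (Pi.single k 1 : Fin n → F) i ∈ F₁ := fun k i => by
      by_cases hik : i = k <;> simp [hik, F₁.one_mem, F₁.zero_mem]
    have hdiag : ∀ i, M i i = 0 := fun i => hall _ (hr i)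
    refine ((Matrix.isUnit_iff_isUnit_det _).mp (hMu' ▸ Mu.isUnit)).ne_zero
      (det_alternating hodd (fun i j => ?_) hdiag)
    have h := hall (Pi.single i 1 + Pi.single j 1) fun k => by
      rw [Pi.add_apply]; exact F₁.add_mem (hr i k) (hr j k)
    rw [hf.add_left, hf.add_right, hf.add_right] at h
    change M i i + M i j + (M j i + M j j) = 0 at h
    rw [hdiag, hdiag] at h
    linear_combination h
  set a := f u₀ u₀
  have haσ : σ a = a := hherm _ _
  obtain ⟨b, hb⟩ := hc.exists_norm_eq (a := a⁻¹) (by rw [map_inv₀, haσ])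
  have hb0 : b ≠ 0 := by
    rintro rfl
    rw [zero_mul] at hb
    exact inv_ne_zero ha hb.symm
  let z : GL (Fin n) F := Units.map (Matrix.scalar (Fin n) : F →+* Mat n F).toMonoidHom
    (Units.mk0 b hb0)
  have hz : z ∈ scalars (Fin n) F := ⟨_, rfl⟩
  refine ⟨?_, z * P₀, fun u v hu hv => ?_, ?_⟩
  · rcases hl.eq_two_or_odd' with h2 | h
    · refine .inr ⟨h2, ?_⟩
      by_contra hq
      rw [Nat.not_odd_iff_even] at hq
      have hq0 : Nat.card F₁ = q := by
        rw [h2, hF] at hcard
        exact (Nat.pow_left_injective two_ne_zero hcard).symm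
      have h2F : (2 : F) = 0 := by
        have h : ((q ^ 2 : ℕ) : F) = 0 := hF ▸ Nat.cast_card_eq_zero F
        rw [Nat.cast_pow] at h
        obtain ⟨m, hm⟩ := hq
        obtain ⟨p, hp⟩ := CharP.exists F
        obtain ⟨e, hpp, he⟩ := FiniteField.card F p
        have h2p : p = 2 := by
          have : 2 ∣ p ^ (e : ℕ) := by rw [← he, hF, hm]; exact ⟨2 * m * m, by ring⟩
          exact ((Nat.prime_dvd_prime_iff_eq Nat.prime_two hpp).mp
            (Nat.prime_two.dvd_of_dvd_pow this)).symm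
        subst h2p
        exact_mod_cast CharP.cast_eq_zero F 2
      have hfixσ : ∀ x ∈ F₁, σ x = x := fun x hx => by
        haveI : Fintype F₁ := Fintype.ofFinite F₁
        have := FiniteField.pow_card (⟨x, hx⟩ : F₁)
        rw [Fintype.card_eq_nat_card, hq0] at this
        rw [hσ]
        exact congrArg Subtype.val this
      have hMa : ∀ i j, a⁻¹ * M i j ∈ F₁ := fun i j => by
        rw [← hτ, map_mul, map_inv₀, hτM, hval _ _ hu₀ hu₀, mul_inv, mul_mul_mul_comm,
          inv_mul_cancel₀ hc0, one_mul]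
      refine no_symm_char_two (M := a⁻¹ • M) h2F hn hodd ?_ ?_ hS.1 B fun s hs => ?_
      · exact (IsUnit.smul (Units.mk0 a⁻¹ (inv_ne_zero ha)) (hMu' ▸ Mu.isUnit) : _)
      · ext i j
        rw [Matrix.transpose_apply, Matrix.smul_apply, Matrix.smul_apply, smul_eq_mul, smul_eq_mul]
        conv_lhs => rw [← hfixσ _ (hMa j i), map_mul, map_inv₀, haσ, hMji]
      · have hAσ : ((B * s * B⁻¹ : GL (Fin n) F) : Mat n F).map σ =
            ((B * s * B⁻¹ : GL (Fin n) F) : Mat n F) := by
          ext i j; exact hfixσ _ (hrat s hs i j)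
        have := hfix s hs
        rw [hAσ] at this
        rw [Matrix.mul_smul, Matrix.smul_mul, this]
    · exact .inl h
  · have hzv : ∀ w, ((z * P₀ : GL (Fin n) F) : Mat n F) *ᵥ w = b • ((P₀ : Mat n F) *ᵥ w) := fun w => by
      rw [Units.val_mul]
      change (Matrix.scalar (Fin n) b * (P₀ : Mat n F)) *ᵥ w = _
      rw [Matrix.scalar_apply, ← Matrix.smul_eq_diagonal_mul, Matrix.smul_mulVec]
    rw [hzv, hzv, one_mul, (herm_sesq hσ).smul_left, (herm_sesq hσ).smul_right, ← mul_assoc, hb,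
      ← hfapp, ← hτ, map_mul, map_inv₀, hval u v hu hv, hval _ _ hu₀ hu₀, mul_inv, mul_mul_mul_comm,
      inv_mul_cancel₀ hc0, one_mul]
  · intro h hh
    have hrat' : ∀ s ∈ S, RatAt F₁ (z * P₀)⁻¹ s := fun s hs i j => by
      have e : (z * P₀)⁻¹ * s * (z * P₀)⁻¹⁻¹ = B * s * B⁻¹ := by
        simp only [inv_inv, P₀, _root_.mul_inv_rev]
        calc B * z⁻¹ * s * (z * B⁻¹) = B * (z⁻¹ * (s * z)) * B⁻¹ := by group
          _ = B * (z⁻¹ * (z * s)) * B⁻¹ := by rw [scalars_comm hz s]
          _ = _ := by group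
      rw [e]
      exact hrat s hs i j
    have := mem_subfieldSubgroup (by omega) hS hrat' (hHS h hh)
    rwa [inv_inv] at this

/-- A unitary group fixing a bilinear form is realised over the fixed field. -/
theorem realisable_of_bilinear (hσ : ∀ x, σ x = x ^ q) (hc : IsConjugation σ) (hn : 0 < n)
    {S : Subgroup (GL (Fin n) F)} (hS : ActsAbsolutelyIrreducibly (matrixSet S))
    (hSG : S ≤ Cfsg.GU n F q) {f : (Fin n → F) → (Fin n → F) → F} (hf : IsBilinearForm f)
    (hnd : IsNondegenerateForm f) (hfix : FixesForm (matrixSet S) f) :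
    ∃ F₀ : Subfield F, F₀ ≠ ⊤ ∧ RealisableOver F₀ (matrixSet S) := by
  classical
  have hs := isSesq_of_bilinear hf
  obtain ⟨Au, hAu⟩ : ∃ Au : (Mat n F)ˣ, (Au : Mat n F) = gramMatrix f := hs.isUnit_gram hnd
  set C₀ : Mat n F := ((Au⁻¹ : (Mat n F)ˣ) : Mat n F)
  have hAC : gramMatrix f * C₀ = 1 := by rw [← hAu]; exact Au.mul_inv
  have hCA : C₀ * gramMatrix f = 1 := by rw [← hAu]; exact Au.inv_mul
  have hcomm : ∀ s ∈ S, (s : Mat n F) * C₀ = C₀ * (s : Mat n F).map σ := by
    intro s hs'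
    have h1 : (s : Mat n F)ᵀ * gramMatrix f * (s : Mat n F) = gramMatrix f := by
      have h := (hs.isometry (c := 1)).mp fun u v => by
        rw [one_mul]; exact hfix _ (mem_matrixSet hs') u v
      simpa using h
    have h2 := gu_map_eq hσ (hSG hs')
    have h3 : (s : Mat n F).map σ * gramMatrix f = gramMatrix f * (s : Mat n F) := by
      refine ((Matrix.isUnit_transpose _).mpr s.isUnit).mul_right_injective ?_
      change (s : Mat n F)ᵀ * _ = (s : Mat n F)ᵀ * _
      rw [← mul_assoc, h2, one_mul, ← mul_assoc, h1]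
    calc (s : Mat n F) * C₀ = C₀ * gramMatrix f * (s : Mat n F) * C₀ := by rw [hCA, one_mul]
      _ = C₀ * ((s : Mat n F).map σ * gramMatrix f) * C₀ := by rw [h3, mul_assoc C₀]
      _ = C₀ * (s : Mat n F).map σ := by rw [mul_assoc, mul_assoc, hAC, mul_one]
  have hσσ : ∀ A : Mat n F, (A.map σ).map σ = A := fun A => by ext i j; simp [hc.invol]
  set D := C₀ * C₀.map σ
  obtain ⟨t, ht⟩ := hS.2 D (by
    rintro _ ⟨s, hs', rfl⟩
    have h := congrArg (fun A : Mat n F => A.map σ) (hcomm s hs')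
    simp only [Matrix.map_mul, hσσ] at h
    calc D * (s : Mat n F) = C₀ * (C₀.map σ * (s : Mat n F)) := mul_assoc _ _ _
      _ = C₀ * ((s : Mat n F).map σ * C₀.map σ) := by rw [h]
      _ = (s : Mat n F) * D := by rw [← mul_assoc, ← hcomm s hs', mul_assoc])
  have hDσ : C₀.map σ * C₀ = t • 1 := by
    have e : C₀.map σ * C₀ = gramMatrix f * D * C₀ := by
      rw [show D = C₀ * C₀.map σ from rfl, ← mul_assoc, hAC, one_mul]
    rw [e, ht, Matrix.mul_smul, Matrix.smul_mul, mul_one, hAC]
  let i₀ : Fin n := ⟨0, hn⟩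
  have htσ : σ t = t := by
    have h := congrArg (fun A : Mat n F => A.map σ) hDσ
    simp only [Matrix.map_mul, hσσ] at h
    change D = _ at h
    rw [ht] at h
    have := congrFun (congrFun h i₀) i₀
    simpa using this.symm
  have ht0 : t ≠ 0 := by
    rintro rfl
    rw [zero_smul] at hDσ
    have h := congrArg (fun A => A * gramMatrix f) hDσ
    simp only [zero_mul, mul_assoc, hCA, mul_one] at h
    have h1 := congrArg (fun A : Mat n F => A.map σ) h
    simp only [hσσ, Matrix.map_zero _ (map_zero σ)] at h1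
    rw [h1, zero_mul] at hCA
    exact zero_ne_one (congrFun (congrFun hCA i₀) i₀ |>.trans (by simp))
  obtain ⟨b, hb⟩ := hc.exists_norm_eq (a := t⁻¹) (by rw [map_inv₀, htσ])
  set C := b • C₀
  have hCC : C * C.map σ = 1 := by
    have : C.map σ = σ b • C₀.map σ := by ext i j; simp [C]
    rw [this, Matrix.smul_mul, Matrix.mul_smul, smul_smul, show C₀ * C₀.map σ = D from rfl, ht,
      smul_smul, hb, inv_mul_cancel₀ ht0, one_smul]
  have hCs : ∀ s ∈ S, (s : Mat n F) * C = C * (s : Mat n F).map σ := fun s hs' => by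
    rw [Matrix.mul_smul, Matrix.smul_mul, hcomm s hs']
  -- the fixed vectors of `v ↦ C σ(v)` span
  let J : (Fin n → F) → (Fin n → F) := fun v => C *ᵥ (σ ∘ v)
  have hJJ : ∀ v, J (J v) = v := fun v => by
    have e : σ ∘ (C *ᵥ (σ ∘ v)) = C.map σ *ᵥ (σ ∘ σ ∘ v) := by
      funext i; exact RingHom.map_mulVec σ C _ i
    have e2 : σ ∘ σ ∘ v = v := funext fun i => hc.invol _
    simp only [J, e, e2, Matrix.mulVec_mulVec, hCC, Matrix.one_mulVec]
  have hJadd : ∀ v w, J (v + w) = J v + J w := fun v w => by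
    simp only [J]
    rw [← Matrix.mulVec_add]; congr 1; funext i; simp
  have hJsmul : ∀ (c : F) v, J (c • v) = σ c • J v := fun c v => by
    simp only [J]
    rw [← Matrix.mulVec_smul]; congr 1; funext i; simp
  set E : Set (Fin n → F) := {v | J v = v}
  have hspan : Submodule.span F E = ⊤ := by
    refine eq_top_iff.mpr fun v _ => ?_
    obtain ⟨a, ha⟩ := hc.exists_not_fixed
    have h1 : v + J v ∈ Submodule.span F E :=
      Submodule.subset_span (show J (v + J v) = v + J v by rw [hJadd, hJJ, add_comm])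
    have h2 : a • v + J (a • v) ∈ Submodule.span F E :=
      Submodule.subset_span (show J _ = _ by rw [hJadd, hJJ, add_comm])
    have h3 := Submodule.sub_mem _ h2 (Submodule.smul_mem _ (σ a) h1)
    rw [hJsmul, smul_add, add_sub_add_right_eq_sub, ← sub_smul] at h3
    have := Submodule.smul_mem _ (a - σ a)⁻¹ h3
    rwa [smul_smul, inv_mul_cancel₀ (sub_ne_zero.mpr (Ne.symm ha)), one_smul] at this
  obtain ⟨Bs, hBE, hBspan, hBli⟩ := exists_linearIndependent F E
  haveI : Fintype Bs := (hBli.setFinite).fintype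
  let b0 : Module.Basis Bs F (Fin n → F) := Module.Basis.mk hBli (by
    rw [Subtype.range_coe, hBspan, hspan])
  have hBcard : Fintype.card Bs = n := by
    have := Module.finrank_eq_card_basis b0
    rw [Module.finrank_fintype_fun_eq_card, Fintype.card_fin] at this
    exact this.symm
  let col : Fin n → (Fin n → F) := fun i => ((Fintype.equivFinOfCardEq hBcard).symm i).1
  have hcol : LinearIndependent F col :=
    hBli.comp _ (Fintype.equivFinOfCardEq hBcard).symm.injective
  let P : Mat n F := Matrix.of fun i j => col j i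
  obtain ⟨Pu, hPu⟩ : IsUnit P := by
    rw [← Matrix.linearIndependent_cols_iff_isUnit]; exact hcol
  have hCP : C * P.map σ = P := by
    ext i j
    exact congrFun (show J (col j) = col j from hBE ((Fintype.equivFinOfCardEq hBcard).symm j).2) i
  refine ⟨RingHom.eqLocusField σ (RingHom.id F), fun htop => ?_,
    realisableOver_iff.mpr ⟨Pu⁻¹, fun s hs' i j => ?_⟩⟩
  · obtain ⟨a, ha⟩ := hc.exists_not_fixed
    have h : a ∈ RingHom.eqLocusField σ (RingHom.id F) := htop ▸ Subfield.mem_top a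
    exact ha h
  · change σ _ = _
    set X := ((Pu⁻¹ * s * Pu⁻¹⁻¹ : GL (Fin n) F) : Mat n F) with hX
    suffices h : X.map σ = X from congrFun (congrFun h i) j
    have hP1 : P * X = (s : Mat n F) * P := by
      rw [hX, inv_inv, Units.val_mul, Units.val_mul, ← hPu, mul_assoc, Units.mul_inv_cancel_left]
    refine Pu.isUnit.mul_right_injective ?_
    change (Pu : Mat n F) * _ = (Pu : Mat n F) * _
    rw [hPu]
    calc P * X.map σ = C * P.map σ * X.map σ := by rw [hCP]
      _ = C * (P * X).map σ := by rw [Matrix.map_mul, mul_assoc]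
      _ = (s : Mat n F) * (C * P.map σ) := by
        rw [hP1, Matrix.map_mul, ← mul_assoc, ← hCs s hs', mul_assoc]
      _ = P * X := by rw [hCP, hP1]

end CfsgLib.Classical.AschPrime
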